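import Mathlib
import Cfsg.Prelude.Def_OddOrderLocal
import Cfsg.Agent.Lib.Helper20.Metacyc

set_option autoImplicit false

namespace Cfsg.Agent.Lib.Helper8.MetaOdd

open scoped commutatorElement

/-! ### a surjection from a cyclic group onto `ZMod p` -/

theorem exists_delta {C : Type*} [Group C] [hC : IsCyclic C] {p : ℕ} [Fact p.Prime]
    (hp : p ∣ Nat.card C) : ∃ δ : C →* Multiplicative (ZMod p), Function.Surjective δ := by
  let e := zmodCyclicMulEquiv hC
  let f := ZMod.castHom hp (ZMod p)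
  refine ⟨(AddMonoidHom.toMultiplicative f.toAddMonoidHom).comp e.symm.toMonoidHom, ?_⟩
  intro y
  obtain ⟨x, hx⟩ := ZMod.ringHom_surjective f (Multiplicative.toAdd y)
  refine ⟨e (Multiplicative.ofAdd x), ?_⟩
  simp only [MonoidHom.coe_comp, MulEquiv.coe_toMonoidHom, Function.comp_apply,
    MulEquiv.symm_apply_apply]
  change Multiplicative.ofAdd (f x) = y
  rw [hx]
  rfl

/-! ### alternating pairings into `ZMod p` on a two-generated group -/

/-- an alternating pairing with values in `ZMod p` on a group covered by `a ^ l * b ^ i` -/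
structure Dat (P : Type*) [Group P] (p : ℕ) where
  β : P → P → ZMod p
  add_left : ∀ x x' y, β (x * x') y = β x y + β x' y
  anti : ∀ x y, β y x = - β x y
  self : ∀ x, β x x = 0
  a : P
  b : P
  cov : ∀ g : P, ∃ l i : ℕ, g = a ^ l * b ^ i
  ne : β a b ≠ 0

namespace Dat

variable {P : Type*} [Group P] {p : ℕ} [Fact p.Prime] (D : Dat P p)

theorem add_right (x y y' : P) : D.β x (y * y') = D.β x y + D.β x y' := by
  have h1 := D.anti (y * y') x
  have h2 := D.anti y x
  have h3 := D.anti y' x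
  rw [h1, D.add_left, h2, h3]
  ring

theorem one_left (y : P) : D.β 1 y = 0 := by
  have := D.add_left 1 1 y
  rw [one_mul] at this
  simpa using this

theorem one_right (x : P) : D.β x 1 = 0 := by
  have h1 := D.anti 1 x
  rw [h1, D.one_left, neg_zero]

theorem inv_left (x y : P) : D.β x⁻¹ y = - D.β x y := by
  have := D.add_left x x⁻¹ y
  rw [mul_inv_cancel, D.one_left] at this
  linear_combination -this

theorem inv_right (x y : P) : D.β x y⁻¹ = - D.β x y := by
  have h1 := D.anti y⁻¹ x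
  have h2 := D.anti y x
  rw [h1, D.inv_left, h2]

theorem pow_left (x y : P) (n : ℕ) : D.β (x ^ n) y = n * D.β x y := by
  induction n with
  | zero => simp [D.one_left]
  | succ k ih =>
    rw [pow_succ, D.add_left, ih]
    push_cast
    ring

theorem pow_right (x y : P) (n : ℕ) : D.β x (y ^ n) = n * D.β x y := by
  have h1 := D.anti (y ^ n) x
  have h2 := D.anti y x
  rw [h1, D.pow_left, h2]
  ring

theorem coord (x y : P) :
    D.β x y * D.β D.a D.b = D.β x D.b * D.β D.a y - D.β D.a x * D.β y D.b := by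
  obtain ⟨l, i, rfl⟩ := D.cov x
  obtain ⟨l', i', rfl⟩ := D.cov y
  have hba := D.anti D.a D.b
  simp only [D.add_left, D.add_right, D.pow_left, D.pow_right, D.self, hba]
  ring

/-- in a "two-dimensional" alternating space, a vector orthogonal to a non-orthogonal pair
is in the radical -/
theorem la1 {x y z : P} (hxy : D.β x y ≠ 0) (hzx : D.β z x = 0) (hzy : D.β z y = 0) (w : P) :
    D.β z w = 0 := by
  have h0 := D.ne
  have e1 := D.coord x y
  have e2 := D.coord z x
  have e3 := D.coord z y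
  have e4 := D.coord z w
  rw [hzx, zero_mul] at e2
  rw [hzy, zero_mul] at e3
  have hdet : D.β x D.b * D.β D.a y - D.β D.a x * D.β y D.b ≠ 0 := by
    rw [← e1]
    exact mul_ne_zero hxy h0
  have hz1 : D.β z D.b = 0 := by
    have : D.β z D.b * (D.β x D.b * D.β D.a y - D.β D.a x * D.β y D.b) = 0 := by
      linear_combination (-(D.β x D.b)) * e3 + (D.β y D.b) * e2
    rcases mul_eq_zero.mp this with h | h
    · exact h
    · exact absurd h hdet
  have hz2 : D.β D.a z = 0 := by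
    have : D.β D.a z * (D.β x D.b * D.β D.a y - D.β D.a x * D.β y D.b) = 0 := by
      linear_combination (-(D.β D.a x)) * e3 + (D.β D.a y) * e2
    rcases mul_eq_zero.mp this with h | h
    · exact h
    · exact absurd h hdet
  rw [hz1, hz2] at e4
  have : D.β z w * D.β D.a D.b = 0 := by rw [e4]; ring
  rcases mul_eq_zero.mp this with h | h
  · exact h
  · exact absurd h h0

/-- elements of the radical are `p`-th powers in the coordinates -/
theorem rad_pow {z : P} (hz : ∀ w, D.β z w = 0) :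
    ∃ l i : ℕ, z = D.a ^ (p * l) * D.b ^ (p * i) := by
  obtain ⟨L, I, rfl⟩ := D.cov z
  have h1 := hz D.b
  have h2 := hz D.a
  have hba := D.anti D.a D.b
  rw [D.add_left, D.pow_left, D.pow_left, D.self, mul_zero, add_zero] at h1
  rw [D.add_left, D.pow_left, D.pow_left, D.self, mul_zero, zero_add, hba] at h2
  have hL : (L : ZMod p) = 0 := by
    rcases mul_eq_zero.mp h1 with h | h
    · exact h
    · exact absurd h D.ne
  have hI : (I : ZMod p) = 0 := by
    rcases mul_eq_zero.mp h2 with h | h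
    · exact h
    · exact absurd (neg_eq_zero.mp h) D.ne
  obtain ⟨l, rfl⟩ := (ZMod.natCast_eq_zero_iff L p).mp hL
  obtain ⟨i, rfl⟩ := (ZMod.natCast_eq_zero_iff I p).mp hI
  exact ⟨l, i, rfl⟩

end Dat

/-! ### class two identities -/

section cls2

variable {P : Type*} [Group P]

theorem comm_mul_left (h : ∀ x y : P, ⁅x, y⁆ ∈ Subgroup.center P) (x x' y : P) :
    ⁅x * x', y⁆ = ⁅x, y⁆ * ⁅x', y⁆ := by
  have h1 := Subgroup.mem_center_iff.mp (h x' y)
  have h2 := h1 x
  have h3 := h1 (x * y * x⁻¹ * y⁻¹)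
  simp only [commutatorElement_def] at h2 h3 ⊢
  calc x * x' * y * (x * x')⁻¹ * y⁻¹
      = (x * (x' * y * x'⁻¹ * y⁻¹)) * y * x⁻¹ * y⁻¹ := by group
    _ = ((x' * y * x'⁻¹ * y⁻¹) * x) * y * x⁻¹ * y⁻¹ := by rw [h2]
    _ = (x' * y * x'⁻¹ * y⁻¹) * (x * y * x⁻¹ * y⁻¹) := by group
    _ = x * y * x⁻¹ * y⁻¹ * (x' * y * x'⁻¹ * y⁻¹) := h3.symm

theorem comm_pow_left (h : ∀ x y : P, ⁅x, y⁆ ∈ Subgroup.center P) (x y : P) (n : ℕ) :
    ⁅x ^ n, y⁆ = ⁅x, y⁆ ^ n := by
  induction n with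
  | zero => simp
  | succ k ih => rw [pow_succ, comm_mul_left h, ih, pow_succ]

theorem comm_pow_right (h : ∀ x y : P, ⁅x, y⁆ ∈ Subgroup.center P) (x y : P) (n : ℕ) :
    ⁅x, y ^ n⁆ = ⁅x, y⁆ ^ n := by
  rw [← commutatorElement_inv, comm_pow_left h, ← inv_pow, commutatorElement_inv]

theorem mul_pow_c2 (h : ∀ x y : P, ⁅x, y⁆ ∈ Subgroup.center P) (x y : P) (n : ℕ) :
    (x * y) ^ n = x ^ n * y ^ n * ⁅y, x⁆ ^ (n * (n - 1) / 2) := by
  have hc : ∀ g : P, Commute ⁅y, x⁆ g := fun g =>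
    (Subgroup.mem_center_iff.mp (h y x) g).symm
  have hyx1 : y * x = x * y * ⁅y, x⁆ := by
    have := (hc (x * y)).eq
    rw [← this, commutatorElement_def]
    group
  have hyx : ∀ j : ℕ, y ^ j * x = x * y ^ j * ⁅y, x⁆ ^ j := by
    intro j
    induction j with
    | zero => simp
    | succ j ihj =>
      calc y ^ (j + 1) * x = y ^ j * (y * x) := by rw [pow_succ, mul_assoc]
        _ = y ^ j * (x * y * ⁅y, x⁆) := by rw [hyx1]
        _ = (y ^ j * x) * y * ⁅y, x⁆ := by group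
        _ = x * y ^ j * ⁅y, x⁆ ^ j * y * ⁅y, x⁆ := by rw [ihj]
        _ = x * y ^ j * (⁅y, x⁆ ^ j * y) * ⁅y, x⁆ := by group
        _ = x * y ^ j * (y * ⁅y, x⁆ ^ j) * ⁅y, x⁆ := by rw [((hc y).pow_left j).eq]
        _ = x * (y ^ j * y) * (⁅y, x⁆ ^ j * ⁅y, x⁆) := by group
        _ = x * y ^ (j + 1) * ⁅y, x⁆ ^ (j + 1) := by rw [← pow_succ, ← pow_succ]
  induction n with
  | zero => simp
  | succ k ih =>
    rw [Nat.triangle_succ]
    calc (x * y) ^ (k + 1) = (x * y) ^ k * (x * y) := pow_succ _ _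
      _ = x ^ k * y ^ k * ⁅y, x⁆ ^ (k * (k - 1) / 2) * (x * y) := by rw [ih]
      _ = x ^ k * y ^ k * ((x * y) * ⁅y, x⁆ ^ (k * (k - 1) / 2)) := by
          rw [mul_assoc (x ^ k * y ^ k), ((hc (x * y)).pow_left _).eq]
      _ = x ^ k * (y ^ k * x) * y * ⁅y, x⁆ ^ (k * (k - 1) / 2) := by group
      _ = x ^ k * (x * y ^ k * ⁅y, x⁆ ^ k) * y * ⁅y, x⁆ ^ (k * (k - 1) / 2) := by rw [hyx k]
      _ = x ^ k * x * y ^ k * (⁅y, x⁆ ^ k * y) * ⁅y, x⁆ ^ (k * (k - 1) / 2) := by group
      _ = x ^ k * x * y ^ k * (y * ⁅y, x⁆ ^ k) * ⁅y, x⁆ ^ (k * (k - 1) / 2) := by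
          rw [((hc y).pow_left k).eq]
      _ = (x ^ k * x) * (y ^ k * y) * (⁅y, x⁆ ^ k * ⁅y, x⁆ ^ (k * (k - 1) / 2)) := by group
      _ = x ^ (k + 1) * y ^ (k + 1) * ⁅y, x⁆ ^ (k * (k - 1) / 2 + k) := by
          rw [← pow_succ, ← pow_succ, ← pow_add, Nat.add_comm k (k * (k - 1) / 2)]

/-- the `m`-th power map is multiplicative when `m` is an odd multiple-compatible exponent -/
theorem mul_pow_of_dvd (h : ∀ x y : P, ⁅x, y⁆ ∈ Subgroup.center P) {q m : ℕ} (hq : Odd q)
    (hqm : q ∣ m) (hcq : ∀ x y : P, ⁅x, y⁆ ^ q = 1) (x y : P) :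
    (x * y) ^ m = x ^ m * y ^ m := by
  rw [mul_pow_c2 h]
  have h2 : 2 * (m * (m - 1) / 2) = m * (m - 1) := by
    have : Even (m * (m - 1)) := Nat.even_mul_pred_self m
    obtain ⟨r, hr⟩ := this
    rw [hr]
    omega
  have h3 : q ∣ m * (m - 1) / 2 := by
    have h4 : q ∣ 2 * (m * (m - 1) / 2) := by
      rw [h2]
      exact Dvd.dvd.mul_right hqm _
    exact (Nat.Coprime.dvd_mul_left (Nat.Coprime.symm (Nat.coprime_two_left.mpr hq))).mp h4
  obtain ⟨t, ht⟩ := h3
  rw [ht, pow_mul, hcq, one_pow, mul_one]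

end cls2

/-! ### metacyclic groups: subgroups and exponent bounds -/

theorem metacyclic_subgroup {X : Type*} [Group X] (hm : Cfsg.IsMetacyclic X) (H : Subgroup X) :
    Cfsg.IsMetacyclic ↥H := by
  obtain ⟨N, hN, hNc, hQc⟩ := hm
  refine ⟨N.subgroupOf H, inferInstance, ?_, ?_⟩
  · let f : ↥(N.subgroupOf H) →* ↥N :=
      { toFun := fun x => ⟨((x : ↥H) : X), Subgroup.mem_subgroupOf.mp x.2⟩
        map_one' := rfl
        map_mul' := fun _ _ => rfl }
    refine isCyclic_of_injective f (fun x y hxy => ?_)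
    apply Subtype.ext
    apply Subtype.ext
    exact congrArg (fun z : ↥N => (z : X)) hxy
  · have hle : N.subgroupOf H ≤ N.comap H.subtype := le_refl _
    let g : ↥H ⧸ N.subgroupOf H →* X ⧸ N :=
      QuotientGroup.map (N.subgroupOf H) N H.subtype hle
    refine isCyclic_of_injective g ?_
    rw [injective_iff_map_eq_one]
    intro q hq
    obtain ⟨x, rfl⟩ := QuotientGroup.mk_surjective q
    rw [QuotientGroup.map_mk, QuotientGroup.eq_one_iff] at hq
    rw [QuotientGroup.eq_one_iff]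
    exact hq

theorem card_le_of_exp {E : Type*} [Group E] [Finite E] (hm : Cfsg.IsMetacyclic E) {p : ℕ}
    (hp : 0 < p) (hexp : ∀ x : E, x ^ p = 1) : Nat.card E ≤ p ^ 2 := by
  obtain ⟨N, hN, hNc, hQc⟩ := hm
  have h1 : Nat.card N ≤ p := by
    obtain ⟨g, hg⟩ := IsCyclic.exists_generator (α := N)
    rw [← orderOf_eq_card_of_forall_mem_zpowers hg]
    exact Nat.le_of_dvd hp (orderOf_dvd_of_pow_eq_one (Subtype.ext (by simpa using hexp g)))
  have h2 : Nat.card (E ⧸ N) ≤ p := by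
    obtain ⟨g, hg⟩ := IsCyclic.exists_generator (α := E ⧸ N)
    rw [← orderOf_eq_card_of_forall_mem_zpowers hg]
    refine Nat.le_of_dvd hp (orderOf_dvd_of_pow_eq_one ?_)
    obtain ⟨x, rfl⟩ := QuotientGroup.mk_surjective g
    rw [← QuotientGroup.mk_pow, hexp]
    rfl
  rw [Subgroup.card_eq_card_quotient_mul_card_subgroup N, sq]
  exact Nat.mul_le_mul h2 h1

end Cfsg.Agent.Lib.Helper8.MetaOdd
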