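import Mathlib
import Cfsg.Agent.Lib.Helper8.WrAut
import Cfsg.Prelude.Def_OddOrderLocal

set_option autoImplicit false

namespace Cfsg.Agent.Lib.Helper8.MetaAut

open Cfsg.Agent.Lib.Helper8.WrAut

/-- a nontrivial element of a 2-group has a power which is an involution -/
theorem exists_pow_invol {P : Type*} [Group P] (h2 : IsPGroup 2 P) {x : P} (hx : x ≠ 1) :
    ∃ j : ℕ, x ^ (2 ^ j) ≠ 1 ∧ x ^ (2 ^ j) * x ^ (2 ^ j) = 1 := by
  classical
  have hex : ∃ k : ℕ, x ^ 2 ^ k = 1 := h2 x
  have hm0 : Nat.find hex ≠ 0 := by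
    intro h0
    have h1 := Nat.find_spec hex
    rw [h0, pow_zero, pow_one] at h1
    exact hx h1
  refine ⟨Nat.find hex - 1, ?_, ?_⟩
  · exact Nat.find_min hex (by omega)
  · rw [← pow_add]
    have e : 2 ^ (Nat.find hex - 1) + 2 ^ (Nat.find hex - 1) = 2 ^ Nat.find hex := by
      obtain ⟨m, hm⟩ : ∃ m, Nat.find hex = m + 1 := ⟨Nat.find hex - 1, by omega⟩
      rw [hm, Nat.add_sub_cancel, pow_succ]; ring
    rw [e]
    exact Nat.find_spec hex

/-- in a commutative metacyclic group there are at most four solutions of `x * x = 1` -/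
theorem om_bound {X : Type*} [CommGroup X] [Finite X] (hm : Cfsg.IsMetacyclic X) :
    ∀ s : Finset X, (∀ x ∈ s, x * x = 1) → s.card ≤ 4 := by
  classical
  obtain ⟨N, hN, hNc, hQc⟩ := hm
  have := Fintype.ofFinite X
  have := Fintype.ofFinite N
  have := Fintype.ofFinite (X ⧸ N)
  intro s hs
  have h1 : (s.image (QuotientGroup.mk : X → X ⧸ N)).card ≤ 2 := by
    have hle := IsCyclic.card_pow_eq_one_le (α := X ⧸ N) (n := 2) (by norm_num)
    refine le_trans (Finset.card_le_card ?_) hle
    intro q hq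
    obtain ⟨x, hx, rfl⟩ := Finset.mem_image.mp hq
    rw [Finset.mem_filter]
    refine ⟨Finset.mem_univ _, ?_⟩
    rw [← QuotientGroup.mk_pow, pow_two, hs x hx]
    rfl
  have h2 : ∀ q ∈ s.image (QuotientGroup.mk : X → X ⧸ N),
      (s.filter (fun x => (QuotientGroup.mk x : X ⧸ N) = q)).card ≤ 2 := by
    intro q hq
    obtain ⟨x₀, hx₀, rfl⟩ := Finset.mem_image.mp hq
    have hle := IsCyclic.card_pow_eq_one_le (α := N) (n := 2) (by norm_num)
    refine le_trans ?_ hle
    refine Finset.card_le_card_of_injOn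
      (fun x => if h : x₀⁻¹ * x ∈ N then (⟨x₀⁻¹ * x, h⟩ : N) else 1) ?_ ?_
    · intro x hx
      have hx' := Finset.mem_filter.mp hx
      have hmem : x₀⁻¹ * x ∈ N := QuotientGroup.eq.mp hx'.2.symm
      simp only [hmem, dif_pos]
      rw [Finset.mem_coe, Finset.mem_filter]
      refine ⟨Finset.mem_univ _, ?_⟩
      apply Subtype.ext
      show (x₀⁻¹ * x) ^ 2 = 1
      rw [mul_pow, inv_pow, pow_two, pow_two, hs x₀ hx₀, hs x hx'.1, inv_one, one_mul]
    · intro x hx y hy hxy
      have hx' := Finset.mem_filter.mp hx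
      have hy' := Finset.mem_filter.mp hy
      have hmemx : x₀⁻¹ * x ∈ N := QuotientGroup.eq.mp hx'.2.symm
      have hmemy : x₀⁻¹ * y ∈ N := QuotientGroup.eq.mp hy'.2.symm
      simp only [hmemx, hmemy, dif_pos] at hxy
      have := congrArg Subtype.val hxy
      exact mul_left_cancel this
  have h3 := Finset.card_le_mul_card_image s 2 h2
  omega

/-- the standing hypotheses for a commutative 2-group with an automorphism of odd order -/
structure AData (X : Type*) [CommGroup X] (φ : MulAut X) (m : ℕ) : Prop where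
  two : IsPGroup 2 X
  odd : Odd m
  pow : φ ^ m = 1
  om : ∀ s : Finset X, (∀ x ∈ s, x * x = 1) → s.card ≤ 4

variable {X : Type*} [CommGroup X] {φ : MulAut X} {m : ℕ}

theorem AData.fix_stab (h : AData X φ m) (g : X) (hg : φ (g⁻¹ * φ g) = g⁻¹ * φ g) : φ g = g :=
  fix_of_stab h.two φ m h.odd h.pow g hg

omit [CommGroup X] in
theorem five_le {s : Finset X} {a b c d e : X} (ha : a ∈ s) (hb : b ∈ s) (hc : c ∈ s) (hd : d ∈ s)
    (he : e ∈ s) (hab : a ≠ b) (hac : a ≠ c) (had : a ≠ d) (hae : a ≠ e) (hbc : b ≠ c)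
    (hbd : b ≠ d) (hbe : b ≠ e) (hcd : c ≠ d) (hce : c ≠ e) (hde : d ≠ e) : 5 ≤ s.card := by
  classical
  have hsub : ({a, b, c, d, e} : Finset X) ⊆ s := by
    intro x hx
    simp only [Finset.mem_insert, Finset.mem_singleton] at hx
    rcases hx with rfl | rfl | rfl | rfl | rfl <;> assumption
  have hcard : ({a, b, c, d, e} : Finset X).card = 5 := by
    rw [Finset.card_insert_of_notMem, Finset.card_insert_of_notMem, Finset.card_insert_of_notMem,
      Finset.card_insert_of_notMem, Finset.card_singleton]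
    · simp [hde]
    · simp [hcd, hce]
    · simp [hbc, hbd, hbe]
    · simp [hab, hac, had, hae]
  rw [← hcard]
  exact Finset.card_le_card hsub

/-- an automorphism fixing one involution fixes all of them -/
theorem AData.fix_om (h : AData X φ m) {t : X} (ht1 : t ≠ 1) (ht2 : t * t = 1) (hφt : φ t = t)
    (u : X) (hu : u * u = 1) : φ u = u := by
  classical
  by_cases hu1 : u = 1
  · rw [hu1, map_one]
  by_cases hut : u = t
  · rw [hut, hφt]
  have hφu2 : φ u * φ u = 1 := by rw [← map_mul, hu, map_one]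
  have htu2 : (t * u) * (t * u) = 1 := by
    rw [mul_mul_mul_comm, ht2, hu, one_mul]
  have hmem : φ u = u ∨ φ u = t * u := by
    by_contra hcon
    push Not at hcon
    have hφ1 : φ u ≠ 1 := by
      intro h0
      apply hu1
      have := congrArg (φ⁻¹ : MulAut X) h0
      rwa [MulAut.inv_apply_self, map_one] at this
    have hφt' : φ u ≠ t := by
      intro h0
      apply hut
      rw [← hφt] at h0
      exact φ.injective h0
    have h5 := five_le (s := {1, t, u, t * u, φ u}) (a := 1) (b := t) (c := u) (d := t * u)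
      (e := φ u) (by simp) (by simp) (by simp) (by simp) (by simp) (Ne.symm ht1) (Ne.symm hu1)
      (by
        intro h0
        apply hut
        have : u = t⁻¹ := eq_inv_of_mul_eq_one_right h0.symm
        rw [this]
        exact inv_eq_of_mul_eq_one_left ht2)
      (Ne.symm hφ1) (Ne.symm hut)
      (by intro h0; exact hu1 (mul_eq_left.mp h0.symm))
      (Ne.symm hφt')
      (by intro h0; exact ht1 (mul_eq_right.mp h0.symm))
      (Ne.symm hcon.1) (Ne.symm hcon.2)
    have h4 := h.om {1, t, u, t * u, φ u} (by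
      intro x hx
      simp only [Finset.mem_insert, Finset.mem_singleton] at hx
      rcases hx with rfl | rfl | rfl | rfl | rfl
      · exact one_mul 1
      · exact ht2
      · exact hu
      · exact htu2
      · exact hφu2)
    omega
  apply h.fix_stab
  rcases hmem with h1 | h1
  · rw [h1, inv_mul_cancel, map_one]
  · rw [h1, mul_comm t u, inv_mul_cancel_left, hφt]

/-- an automorphism of odd order fixing an involution is trivial -/
theorem AData.fix_all (h : AData X φ m) {t : X} (ht1 : t ≠ 1) (ht2 : t * t = 1) (hφt : φ t = t) :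
    ∀ x : X, φ x = x := by
  have key : ∀ n : ℕ, ∀ x : X, x ^ 2 ^ n = 1 → φ x = x := by
    intro n
    induction n with
    | zero =>
      intro x hx
      rw [pow_zero, pow_one] at hx
      rw [hx, map_one]
    | succ n ih =>
      intro x hx
      have h1 : (x * x) ^ 2 ^ n = 1 := by
        rw [← pow_two, ← pow_mul, ← pow_succ']
        exact hx
      have h2 := ih _ h1
      apply h.fix_stab
      apply h.fix_om ht1 ht2 hφt
      rw [mul_mul_mul_comm, ← map_mul, h2, ← mul_inv, inv_mul_cancel]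
  intro x
  obtain ⟨n, hn⟩ := h.two x
  exact key n x hn

theorem AData.no_fix (h : AData X φ m) (hφ : φ ≠ 1) {t : X} (ht1 : t ≠ 1) (ht2 : t * t = 1) :
    φ t ≠ t := by
  intro h0
  apply hφ
  ext x
  exact h.fix_all ht1 ht2 h0 x


/-- structure of invariant subgroups on which the automorphism acts nontrivially -/
theorem AData.sub_struct [Finite X] (h : AData X φ m) (hφ : φ ≠ 1) : ∀ n : ℕ, ∀ D : Subgroup X,
    Nat.card D = n → (∀ d ∈ D, φ d ∈ D) → (∃ d ∈ D, φ d ≠ d) →
    ∃ j : ℕ, 1 ≤ j ∧ Nat.card D = 4 ^ j ∧ ∀ d ∈ D, d ^ 2 ^ j = 1 := by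
  classical
  intro n
  induction n using Nat.strong_induction_on with
  | _ n ih =>
  intro D hn hinv ⟨d₀, hd₀, hd₀φ⟩
  have hd₀1 : d₀ ≠ 1 := by
    intro h0
    rw [h0, map_one] at hd₀φ
    exact hd₀φ rfl
  obtain ⟨j₀, hj1, hj2⟩ := exists_pow_invol h.two hd₀1
  obtain ⟨t, ht⟩ : ∃ t, t = d₀ ^ 2 ^ j₀ := ⟨_, rfl⟩
  rw [← ht] at hj1 hj2
  have htD : t ∈ D := by rw [ht]; exact D.pow_mem hd₀ _
  have hφt : φ t ≠ t := h.no_fix hφ hj1 hj2
  have hφtD : φ t ∈ D := hinv t htD
  have hφt1 : φ t ≠ 1 := by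
    intro h0
    apply hj1
    have := congrArg (φ⁻¹ : MulAut X) h0
    rwa [MulAut.inv_apply_self, map_one] at this
  have hφt2 : φ t * φ t = 1 := by rw [← map_mul, hj2, map_one]
  have htφ1 : t * φ t ≠ 1 := by
    intro h0
    apply hφt
    have : φ t = t⁻¹ := eq_inv_of_mul_eq_one_right h0
    rw [this]
    exact inv_eq_of_mul_eq_one_left hj2
  have htφ2 : (t * φ t) * (t * φ t) = 1 := by rw [mul_mul_mul_comm, hj2, hφt2, one_mul]
  -- all involutions are among the four
  have hfour : ∀ u : X, u * u = 1 → u = 1 ∨ u = t ∨ u = φ t ∨ u = t * φ t := by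
    intro u hu
    by_contra hcon
    push Not at hcon
    have h5 := five_le (s := {1, t, φ t, t * φ t, u}) (a := 1) (b := t) (c := φ t) (d := t * φ t)
      (e := u) (by simp) (by simp) (by simp) (by simp) (by simp) (Ne.symm hj1) (Ne.symm hφt1)
      (Ne.symm htφ1) (Ne.symm hcon.1) (Ne.symm hφt)
      (by intro h0; exact hφt1 (mul_eq_left.mp h0.symm))
      (Ne.symm hcon.2.1)
      (by intro h0; exact hj1 (mul_eq_right.mp h0.symm))
      (Ne.symm hcon.2.2.1) (Ne.symm hcon.2.2.2)
    have h4 := h.om {1, t, φ t, t * φ t, u} (by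
      intro x hx
      simp only [Finset.mem_insert, Finset.mem_singleton] at hx
      rcases hx with rfl | rfl | rfl | rfl | rfl
      · exact one_mul 1
      · exact hj2
      · exact hφt2
      · exact htφ2
      · exact hu)
    omega
  -- the kernel of squaring
  obtain ⟨f, hf⟩ : ∃ f : X →* X, f = powMonoidHom 2 := ⟨_, rfl⟩
  have hfx : ∀ x : X, f x = x * x := by
    intro x; rw [hf, powMonoidHom_apply, pow_two]
  have hkerD : f.ker ≤ D := by
    intro u hu
    rw [MonoidHom.mem_ker, hfx] at hu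
    rcases hfour u hu with h1 | h1 | h1 | h1
    · rw [h1]; exact D.one_mem
    · rw [h1]; exact htD
    · rw [h1]; exact hφtD
    · rw [h1]; exact D.mul_mem htD hφtD
  have hkercard : Nat.card f.ker = 4 := by
    have := Fintype.ofFinite X
    rw [Nat.card_eq_fintype_card, Fintype.card_subtype]
    have hset : (Finset.univ.filter (fun x : X => x ∈ f.ker)) = {1, t, φ t, t * φ t} := by
      ext u
      simp only [Finset.mem_filter, Finset.mem_univ, true_and, Finset.mem_insert,
        Finset.mem_singleton, MonoidHom.mem_ker, hfx]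
      constructor
      · exact hfour u
      · rintro (rfl | rfl | rfl | rfl)
        · exact one_mul 1
        · exact hj2
        · exact hφt2
        · exact htφ2
    rw [hset, Finset.card_insert_of_notMem, Finset.card_insert_of_notMem,
      Finset.card_insert_of_notMem, Finset.card_singleton]
    · simp only [Finset.mem_singleton]
      intro h0; exact hj1 (mul_eq_right.mp h0.symm)
    · simp only [Finset.mem_insert, Finset.mem_singleton]
      push Not
      exact ⟨Ne.symm hφt, fun h0 => hφt1 (mul_eq_left.mp h0.symm)⟩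
    · simp only [Finset.mem_insert, Finset.mem_singleton]
      push Not
      exact ⟨Ne.symm hj1, Ne.symm hφt1, Ne.symm htφ1⟩
  have hcard : Nat.card D = Nat.card (D.map f) * 4 := by
    have h1 := Subgroup.relIndex_mul_relIndex ⊥ f.ker D bot_le hkerD
    rw [Subgroup.relIndex_bot_left, Subgroup.relIndex_bot_left, Subgroup.relIndex_ker, hkercard] at h1
    omega
  have hinv' : ∀ e ∈ D.map f, φ e ∈ D.map f := by
    rintro e ⟨d, hd, rfl⟩
    refine ⟨φ d, hinv d hd, ?_⟩
    rw [hfx, hfx, map_mul]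
  have hpos : 0 < Nat.card (D.map f) := Nat.card_pos
  by_cases hex : ∃ e ∈ D.map f, φ e ≠ e
  · obtain ⟨j, hj, hjc, hje⟩ := ih (Nat.card (D.map f)) (by omega) (D.map f) rfl hinv' hex
    refine ⟨j + 1, by omega, ?_, ?_⟩
    · rw [hcard, hjc, pow_succ]
    · intro d hd
      have h1 := hje (f d) ⟨d, hd, rfl⟩
      rw [hfx, ← pow_two, ← pow_mul, ← pow_succ'] at h1
      exact h1
  · push Not at hex
    have hbot : D.map f = ⊥ := by
      rw [eq_bot_iff]
      intro e he
      rw [Subgroup.mem_bot]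
      by_contra he1
      obtain ⟨i, hi1, hi2⟩ := exists_pow_invol h.two he1
      apply h.no_fix hφ hi1 hi2
      rw [map_pow, hex e he]
    refine ⟨1, le_rfl, ?_, ?_⟩
    · rw [hcard, hbot, Subgroup.card_bot]; norm_num
    · intro d hd
      have h1 : f d ∈ D.map f := ⟨d, hd, rfl⟩
      rw [hbot, Subgroup.mem_bot, hfx] at h1
      rw [pow_one, pow_two]
      exact h1

theorem AData.top_struct [Finite X] (h : AData X φ m) (hφ : φ ≠ 1) :
    ∃ j : ℕ, 1 ≤ j ∧ Nat.card X = 4 ^ j ∧ ∀ x : X, x ^ 2 ^ j = 1 := by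
  have hex : ∃ d ∈ (⊤ : Subgroup X), φ d ≠ d := by
    by_contra hcon
    push Not at hcon
    apply hφ
    ext x
    exact hcon x (Subgroup.mem_top x)
  obtain ⟨j, hj, hc, he⟩ := h.sub_struct hφ _ ⊤ rfl (fun d _ => Subgroup.mem_top _) hex
  rw [Subgroup.card_top] at hc
  exact ⟨j, hj, hc, fun x => he x (Subgroup.mem_top x)⟩

theorem AData.no_index_two [Finite X] (h : AData X φ m) (hφ : φ ≠ 1) (D : Subgroup X)
    (hD : ∀ d ∈ D, φ d ∈ D) : D.index ≠ 2 := by
  intro hidx
  obtain ⟨j, hj, hc, _⟩ := h.top_struct hφ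
  have h1 := D.card_mul_index
  rw [hidx, hc] at h1
  by_cases hex : ∃ d ∈ D, φ d ≠ d
  · obtain ⟨i, _, hic, _⟩ := h.sub_struct hφ _ D rfl hD hex
    rw [hic] at h1
    have h2 : (2 : ℕ) ^ (2 * i + 1) = 2 ^ (2 * j) := by
      rw [pow_succ, pow_mul, pow_mul]
      norm_num
      exact h1
    have h3 := Nat.pow_right_injective (le_refl 2) h2
    omega
  · push Not at hex
    have hD2 : 2 ≤ Nat.card D := by
      have h4 : 4 ≤ 4 ^ j := by
        calc 4 = 4 ^ 1 := by norm_num
          _ ≤ 4 ^ j := Nat.pow_le_pow_right (by norm_num) hj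
      omega
    have hnt : Nontrivial D := Finite.one_lt_card_iff_nontrivial.mp (by omega)
    obtain ⟨⟨d, hd⟩, hd1⟩ := exists_ne (1 : D)
    have hd1' : d ≠ 1 := fun h0 => hd1 (Subtype.ext h0)
    obtain ⟨i, hi1, hi2⟩ := exists_pow_invol h.two hd1'
    apply h.no_fix hφ hi1 hi2
    rw [map_pow, hex d hd]

/-- the homomorphism from `ZMod n` determined by an element of exponent `n` -/
noncomputable def zhom (n : ℕ) (a : X) (ha : a ^ n = 1) : Multiplicative (ZMod n) →* X :=
  AddMonoidHom.toMultiplicativeLeft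
    (ZMod.lift n ⟨zmultiplesHom (Additive X) (Additive.ofMul a), by
      show (n : ℤ) • Additive.ofMul a = 0
      rw [natCast_zsmul, ← ofMul_pow, ha]
      rfl⟩)

theorem zhom_apply (n : ℕ) (a : X) (ha : a ^ n = 1) (i : ℤ) :
    zhom n a ha (Multiplicative.ofAdd (i : ZMod n)) = a ^ i := by
  show ((ZMod.lift n ⟨zmultiplesHom (Additive X) (Additive.ofMul a), _⟩) (i : ZMod n)).toMul = a ^ i
  rw [ZMod.lift_coe]
  show (i • Additive.ofMul a).toMul = a ^ i
  rw [← ofMul_zpow]
  rfl

/-- a commutative group of order `n²` generated by two elements of exponent `n` -/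
theorem homocyclic_equiv [Finite X] (n : ℕ) (hn : n ≠ 0) (a b : X) (ha : a ^ n = 1)
    (hb : b ^ n = 1) (hgen : ∀ g : X, ∃ i j : ℤ, g = a ^ i * b ^ j) (hcard : Nat.card X = n * n) :
    Nonempty (X ≃* Multiplicative (ZMod n) × Multiplicative (ZMod n)) := by
  have : NeZero n := ⟨hn⟩
  let ψ : Multiplicative (ZMod n) × Multiplicative (ZMod n) →* X :=
    (zhom n a ha).coprod (zhom n b hb)
  have hsurj : Function.Surjective ψ := by
    intro g
    obtain ⟨i, j, rfl⟩ := hgen g
    refine ⟨(Multiplicative.ofAdd (i : ZMod n), Multiplicative.ofAdd (j : ZMod n)), ?_⟩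
    show zhom n a ha (Multiplicative.ofAdd (i : ZMod n)) *
      zhom n b hb (Multiplicative.ofAdd (j : ZMod n)) = _
    rw [zhom_apply, zhom_apply]
  have hc : Nat.card (Multiplicative (ZMod n) × Multiplicative (ZMod n)) = Nat.card X := by
    rw [Nat.card_prod, hcard]
    have : Nat.card (Multiplicative (ZMod n)) = n := by
      rw [Nat.card_congr Multiplicative.toAdd, Nat.card_zmod]
    rw [this]
  have hbij : Function.Bijective ψ :=
    ⟨(Finite.injective_iff_surjective_of_equiv (Finite.card_eq.mp hc).some).mpr hsurj, hsurj⟩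
  exact ⟨(MulEquiv.ofBijective ψ hbij).symm⟩

end Cfsg.Agent.Lib.Helper8.MetaAut
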