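import Mathlib
import Cfsg.Agent.Lib.Helper8.MetaAut
import Cfsg.Agent.Lib.Helper20.Omega

set_option autoImplicit false

namespace Cfsg.Agent.Lib.Helper8.MetaAut

open Cfsg.Agent.Lib.Helper8.WrAut

universe u

/-- the standing hypotheses: a metacyclic 2-group with a nontrivial automorphism of odd order -/
structure BData (X : Type u) [Group X] (φ : MulAut X) (m : ℕ) : Prop where
  fin : Finite X
  two : IsPGroup 2 X
  mc : Cfsg.IsMetacyclic X
  odd : Odd m
  pow : φ ^ m = 1
  ne : φ ≠ 1

section quot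

variable {X : Type u} [Group X]

/-- a quotient of a metacyclic group is metacyclic -/
theorem metacyclic_quot (hm : Cfsg.IsMetacyclic X) (Z : Subgroup X) [Z.Normal] :
    Cfsg.IsMetacyclic (X ⧸ Z) := by
  obtain ⟨N, hN, hNc, hQc⟩ := hm
  have hsurj : Function.Surjective (QuotientGroup.mk' Z) := QuotientGroup.mk'_surjective Z
  have hn : (N.map (QuotientGroup.mk' Z)).Normal := hN.map _ hsurj
  refine ⟨N.map (QuotientGroup.mk' Z), hn, ?_, ?_⟩
  · exact isCyclic_of_surjective ((QuotientGroup.mk' Z).subgroupMap N)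
      ((QuotientGroup.mk' Z).subgroupMap_surjective N)
  · have hle : N ≤ (N.map (QuotientGroup.mk' Z)).comap (QuotientGroup.mk' Z) :=
      Subgroup.le_comap_map _ _
    refine isCyclic_of_surjective
      (QuotientGroup.map N (N.map (QuotientGroup.mk' Z)) (QuotientGroup.mk' Z) hle) ?_
    intro q
    induction q using QuotientGroup.induction_on with
    | H y =>
      obtain ⟨x, rfl⟩ := hsurj y
      exact ⟨QuotientGroup.mk x, rfl⟩

/-- the automorphism induced on the quotient by an invariant normal subgroup -/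
noncomputable def qAut (φ : MulAut X) (Z : Subgroup X) [Z.Normal] (hZ : Z.map (φ : X →* X) = Z) :
    MulAut (X ⧸ Z) :=
  QuotientGroup.congr Z Z φ hZ

theorem qAut_mk (φ : MulAut X) (Z : Subgroup X) [Z.Normal] (hZ : Z.map (φ : X →* X) = Z) (x : X) :
    qAut φ Z hZ (QuotientGroup.mk x) = QuotientGroup.mk (φ x) := rfl

theorem qAut_pow_mk (φ : MulAut X) (Z : Subgroup X) [Z.Normal] (hZ : Z.map (φ : X →* X) = Z)
    (j : ℕ) (x : X) : (qAut φ Z hZ ^ j) (QuotientGroup.mk x) = QuotientGroup.mk ((φ ^ j) x) := by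
  induction j generalizing x with
  | zero => simp
  | succ j ih =>
    rw [pow_succ, pow_succ, MulAut.mul_apply, MulAut.mul_apply, qAut_mk, ih]

theorem qAut_pow (φ : MulAut X) (Z : Subgroup X) [Z.Normal] (hZ : Z.map (φ : X →* X) = Z)
    (m : ℕ) (hφ : φ ^ m = 1) : qAut φ Z hZ ^ m = 1 := by
  ext q
  induction q using QuotientGroup.induction_on with
  | H x => rw [qAut_pow_mk, hφ]; rfl

end quot

section invol

variable {X : Type u} [Group X]

/-- a cyclic subgroup contains at most one involution -/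
theorem cyc_invol_unique [Finite X] (N : Subgroup X) [IsCyclic N] {s t : X} (hs : s ∈ N)
    (ht : t ∈ N) (hs1 : s ≠ 1) (ht1 : t ≠ 1) (hs2 : s * s = 1) (ht2 : t * t = 1) : s = t := by
  classical
  have := Fintype.ofFinite N
  by_contra hst
  have hle := IsCyclic.card_pow_eq_one_le (α := N) (n := 2) (by norm_num)
  have h3 : 3 ≤ (Finset.univ.filter (fun a : N => a ^ 2 = 1)).card := by
    have hsub : ({1, ⟨s, hs⟩, ⟨t, ht⟩} : Finset N) ⊆ Finset.univ.filter (fun a : N => a ^ 2 = 1) := by
      intro x hx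
      simp only [Finset.mem_insert, Finset.mem_singleton] at hx
      rw [Finset.mem_filter]
      refine ⟨Finset.mem_univ _, ?_⟩
      rcases hx with rfl | rfl | rfl
      · exact one_pow 2
      · apply Subtype.ext; show s ^ 2 = 1; rw [pow_two]; exact hs2
      · apply Subtype.ext; show t ^ 2 = 1; rw [pow_two]; exact ht2
    have hcard : ({1, ⟨s, hs⟩, ⟨t, ht⟩} : Finset N).card = 3 := by
      rw [Finset.card_insert_of_notMem, Finset.card_insert_of_notMem, Finset.card_singleton]
      · simp only [Finset.mem_singleton]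
        intro h0; exact hst (congrArg Subtype.val h0)
      · simp only [Finset.mem_insert, Finset.mem_singleton]
        push Not
        exact ⟨fun h0 => hs1 (congrArg Subtype.val h0).symm,
          fun h0 => ht1 (congrArg Subtype.val h0).symm⟩
    rw [← hcard]
    exact Finset.card_le_card hsub
  omega

/-- in a nonabelian metacyclic 2-group the derived group contains a unique involution; it is
central and fixed by all automorphisms -/
theorem exists_z [Finite X] (h2 : IsPGroup 2 X) (hm : Cfsg.IsMetacyclic X)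
    (hna : ∃ x y : X, x * y ≠ y * x) :
    ∃ z : X, z ≠ 1 ∧ z * z = 1 ∧ (∀ g : X, g * z = z * g) ∧ (∀ φ : MulAut X, φ z = z) ∧
      ∀ t ∈ commutator X, t ≠ 1 → t * t = 1 → t = z := by
  obtain ⟨N, hN, hNc, hQc⟩ := hm
  have hXN : commutator X ≤ N := by
    let _ : CommGroup (X ⧸ N) := IsCyclic.commGroup
    have h1 := Abelianization.commutator_subset_ker (QuotientGroup.mk' N)
    rwa [QuotientGroup.ker_mk'] at h1
  obtain ⟨x, y, hxy⟩ := hna
  have hc1 : x * y * x⁻¹ * y⁻¹ ≠ 1 := by
    intro h0
    apply hxy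
    calc x * y = (x * y * x⁻¹ * y⁻¹) * y * x := by group
      _ = y * x := by rw [h0, one_mul]
  have hcX : x * y * x⁻¹ * y⁻¹ ∈ commutator X := by
    rw [commutator_def]
    exact Subgroup.commutator_mem_commutator (Subgroup.mem_top x) (Subgroup.mem_top y)
  obtain ⟨j, hj1, hj2⟩ := exists_pow_invol h2 hc1
  obtain ⟨z, hz⟩ : ∃ z, z = (x * y * x⁻¹ * y⁻¹) ^ 2 ^ j := ⟨_, rfl⟩
  rw [← hz] at hj1 hj2
  have hzX : z ∈ commutator X := by rw [hz]; exact Subgroup.pow_mem _ hcX _
  have huniq : ∀ t ∈ commutator X, t ≠ 1 → t * t = 1 → t = z := fun t ht ht1 ht2 =>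
    cyc_invol_unique N (hXN ht) (hXN hzX) ht1 hj1 ht2 hj2
  refine ⟨z, hj1, hj2, ?_, ?_, huniq⟩
  · intro g
    have hn : (commutator X).Normal := inferInstance
    have h1 : g * z * g⁻¹ ∈ commutator X := hn.conj_mem z hzX g
    have h2' : g * z * g⁻¹ = z := by
      apply huniq _ h1
      · intro h0
        apply hj1
        calc z = g⁻¹ * (g * z * g⁻¹) * g := by group
          _ = 1 := by rw [h0]; group
      · calc g * z * g⁻¹ * (g * z * g⁻¹) = g * (z * z) * g⁻¹ := by group
          _ = 1 := by rw [hj2]; group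
    calc g * z = (g * z * g⁻¹) * g := by group
      _ = z * g := by rw [h2']
  · intro φ
    have hchar : (commutator X).Characteristic := inferInstance
    have h1 : φ z ∈ commutator X := by
      have := (Subgroup.characteristic_iff_le_comap.mp hchar) φ hzX
      exact this
    apply huniq _ h1
    · intro h0
      apply hj1
      have := congrArg (φ⁻¹ : MulAut X) h0
      rwa [MulAut.inv_apply_self, map_one] at this
    · rw [← map_mul, hj2, map_one]

end invol


section zdata

variable {X : Type u} [Group X]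

/-- the data of a central involution fixed by the automorphism -/
structure ZData (X : Type u) [Group X] (φ : MulAut X) (m : ℕ) (z : X) : Prop extends
    BData X φ m where
  z1 : z ≠ 1
  z2 : z * z = 1
  zc : ∀ g : X, g * z = z * g
  zφ : φ z = z
  zu : ∀ t ∈ commutator X, t ≠ 1 → t * t = 1 → t = z

variable {φ : MulAut X} {m : ℕ} {z : X}

theorem ZData.normal (d : ZData X φ m z) : (Subgroup.zpowers z).Normal := by
  refine ⟨fun n hn g => ?_⟩
  obtain ⟨k, rfl⟩ := Subgroup.mem_zpowers_iff.mp hn
  have hc : Commute g z := d.zc g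
  have e : g * z ^ k * g⁻¹ = z ^ k := by
    rw [(hc.zpow_right k).eq]; group
  rw [e]; exact Subgroup.zpow_mem_zpowers z k

theorem ZData.orderOf (d : ZData X φ m z) : orderOf z = 2 := by
  have : Fact (Nat.Prime 2) := ⟨Nat.prime_two⟩
  exact orderOf_eq_prime (by rw [pow_two]; exact d.z2) d.z1

theorem ZData.mem (d : ZData X φ m z) (g : X) : g ∈ Subgroup.zpowers z ↔ g = 1 ∨ g = z := by
  constructor
  · intro hg
    obtain ⟨k, rfl⟩ := Subgroup.mem_zpowers_iff.mp hg
    rw [← zpow_mod_orderOf, d.orderOf, Nat.cast_ofNat]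
    rcases Int.emod_two_eq_zero_or_one k with h0 | h0
    · left; rw [h0, zpow_zero]
    · right; rw [h0, zpow_one]
  · rintro (rfl | rfl)
    · exact Subgroup.one_mem _
    · exact Subgroup.mem_zpowers _

theorem ZData.map (d : ZData X φ m z) :
    (Subgroup.zpowers z).map (φ : X →* X) = Subgroup.zpowers z := by
  rw [MonoidHom.map_zpowers]
  congr 1
  exact d.zφ

theorem ZData.fixZ (d : ZData X φ m z) {g : X} (hg : g ∈ Subgroup.zpowers z) : φ g = g := by
  rcases (d.mem g).mp hg with rfl | rfl
  · exact map_one φ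
  · exact d.zφ

theorem ZData.stab (d : ZData X φ m z) (g : X) (hg : g⁻¹ * φ g ∈ Subgroup.zpowers z) :
    φ g = g :=
  fix_of_stab d.two φ m d.odd d.pow g (d.fixZ hg)

theorem ZData.central (d : ZData X φ m z) {ζ : X} (hζ : ζ ∈ Subgroup.zpowers z) (g : X) :
    g * ζ = ζ * g := by
  rcases (d.mem ζ).mp hζ with rfl | rfl
  · rw [mul_one, one_mul]
  · exact d.zc g

theorem ZData.sqZ (d : ZData X φ m z) {ζ : X} (hζ : ζ ∈ Subgroup.zpowers z) : ζ * ζ = 1 := by
  rcases (d.mem ζ).mp hζ with rfl | rfl
  · exact one_mul 1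
  · exact d.z2

theorem ZData.mem_of_map (d : ZData X φ m z) {g : X} (hg : φ g ∈ Subgroup.zpowers z) :
    g ∈ Subgroup.zpowers z := by
  rcases (d.mem _).mp hg with h0 | h0
  · have : g = 1 := by
      have := congrArg (φ⁻¹ : MulAut X) h0
      rwa [MulAut.inv_apply_self, map_one] at this
    rw [this]; exact Subgroup.one_mem _
  · have : g = z := by
      rw [← d.zφ] at h0
      exact φ.injective h0
    rw [this]; exact Subgroup.mem_zpowers _

theorem ZData.card_two (d : ZData X φ m z) : Nat.card (Subgroup.zpowers z) = 2 := by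
  rw [Nat.card_zpowers, d.orderOf]

theorem ZData.quot (d : ZData X φ m z) [hn : (Subgroup.zpowers z).Normal] :
    BData (X ⧸ Subgroup.zpowers z) (qAut φ (Subgroup.zpowers z) d.map) m where
  fin := by
    have := d.fin
    infer_instance
  two := d.two.to_quotient _
  mc := metacyclic_quot d.mc _
  odd := d.odd
  pow := qAut_pow φ _ d.map m d.pow
  ne := by
    intro h0
    apply d.ne
    ext x
    apply d.stab
    have h1 : qAut φ (Subgroup.zpowers z) d.map (QuotientGroup.mk x) = QuotientGroup.mk x := by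
      rw [h0]; rfl
    rw [qAut_mk] at h1
    exact QuotientGroup.eq.mp h1.symm

theorem ZData.card (d : ZData X φ m z) [(Subgroup.zpowers z).Normal] :
    Nat.card X = 2 * Nat.card (X ⧸ Subgroup.zpowers z) := by
  rw [Subgroup.card_eq_card_quotient_mul_card_subgroup (Subgroup.zpowers z), d.card_two, mul_comm]

/-- squares only depend on the coset -/
theorem ZData.sq_coset (d : ZData X φ m z) {u g : X} (h : u⁻¹ * g ∈ Subgroup.zpowers z) :
    g * g = u * u := by
  obtain ⟨ζ, hζ⟩ : ∃ ζ, ζ = u⁻¹ * g := ⟨_, rfl⟩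
  rw [← hζ] at h
  have hg : g = u * ζ := by rw [hζ]; group
  rw [hg]
  calc u * ζ * (u * ζ) = u * (ζ * u) * ζ := by group
    _ = u * (u * ζ) * ζ := by rw [d.central h u]
    _ = u * u * (ζ * ζ) := by group
    _ = u * u := by rw [d.sqZ h, mul_one]

end zdata

end Cfsg.Agent.Lib.Helper8.MetaAut
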