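import Mathlib
import Cfsg.Agent.Lib.Helper8.MetaAut2

set_option autoImplicit false

namespace Cfsg.Agent.Lib.Helper8.MetaAut

open Cfsg.Agent.Lib.Helper8.WrAut

universe u

/-- the quaternion-type conclusion -/
def Qt (X : Type u) [Group X] (φ : MulAut X) : Prop :=
  Nat.card X = 8 ∧ ∃ z : X, z ≠ 1 ∧ z * z = 1 ∧ (∀ g : X, g * z = z * g) ∧ φ z = z ∧
    ∀ g : X, g = 1 ∨ g = z ∨ g * g = z

section caseab

variable {X : Type u} [Group X] {φ : MulAut X} {m : ℕ} {z : X}

theorem even_choose (j : ℕ) (hj : 2 ≤ j) : ∃ e : ℕ, (2 ^ j).choose 2 = 2 * e := by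
  obtain ⟨i, rfl⟩ : ∃ i, j = i + 2 := ⟨j - 2, by omega⟩
  refine ⟨2 ^ i * (2 ^ (i + 2) - 1), ?_⟩
  rw [Nat.choose_two_right]
  have e : 2 ^ (i + 2) * (2 ^ (i + 2) - 1) = 2 * (2 * (2 ^ i * (2 ^ (i + 2) - 1))) := by
    rw [pow_add]; ring
  rw [e, Nat.mul_div_cancel_left _ (by norm_num : 0 < 2)]

/-- exponent two implies commutativity -/
theorem comm_of_sq (hsq : ∀ g : X, g * g = 1) (x y : X) : x * y = y * x := by
  have h1 := hsq (x * y)
  calc x * y = x * (x * y * (x * y)) * y := by rw [h1, mul_one]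
    _ = (x * x) * y * x * (y * y) := by group
    _ = y * x := by rw [hsq x, hsq y, one_mul, mul_one]

theorem pow_odd_fix (hodd : Odd m) (hpow : φ ^ m = 1) {x : X} (h : (φ ^ 2) x = x) : φ x = x := by
  obtain ⟨k, hk⟩ := hodd
  have h1 : ∀ i : ℕ, ((φ ^ 2) ^ i) x = x := by
    intro i
    induction i with
    | zero => simp
    | succ i ih => rw [pow_succ, MulAut.mul_apply, h, ih]
  have h2 : (φ ^ 2) ^ (k + 1) = φ := by
    rw [← pow_mul]
    have e : 2 * (k + 1) = m + 1 := by omega
    rw [e, pow_succ, hpow, one_mul]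
  have h3 := h1 (k + 1)
  rwa [h2] at h3

theorem case_ab_one (d : ZData X φ m z) [hn : (Subgroup.zpowers z).Normal]
    (hna : ∃ x y : X, x * y ≠ y * x) (hcard : Nat.card (X ⧸ Subgroup.zpowers z) = 4)
    (hsq : ∀ x : X, x * x ∈ Subgroup.zpowers z) : Qt X φ := by
  classical
  have := d.fin
  refine ⟨by rw [d.card, hcard], z, d.z1, d.z2, d.zc, d.zφ, ?_⟩
  -- an element moved by φ
  obtain ⟨x₀, hx₀⟩ : ∃ x₀, φ x₀ ≠ x₀ := by
    by_contra hcon
    push Not at hcon
    apply d.ne
    ext x
    exact hcon x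
  have hx₀Z : x₀ ∉ Subgroup.zpowers z := fun h0 => hx₀ (d.fixZ h0)
  have hy₀Z : φ x₀ ∉ Subgroup.zpowers z := fun h0 => hx₀Z (d.mem_of_map h0)
  have hw₀Z : φ (φ x₀) ∉ Subgroup.zpowers z := fun h0 => hy₀Z (d.mem_of_map h0)
  have hxy : x₀⁻¹ * φ x₀ ∉ Subgroup.zpowers z := fun h0 => hx₀ (d.stab x₀ h0)
  have hyw : (φ x₀)⁻¹ * φ (φ x₀) ∉ Subgroup.zpowers z := by
    intro h0
    apply hxy
    apply d.mem_of_map
    rwa [map_mul, map_inv]
  have hxw : x₀⁻¹ * φ (φ x₀) ∉ Subgroup.zpowers z := by
    intro h0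
    apply hx₀
    apply pow_odd_fix d.odd d.pow
    have hpow2 : (φ ^ 2) ^ m = 1 := by rw [← pow_mul, mul_comm, pow_mul, d.pow, one_pow]
    have e : (φ ^ 2) x₀ = φ (φ x₀) := by rw [pow_two, MulAut.mul_apply]
    apply fix_of_stab d.two (φ ^ 2) m d.odd hpow2 x₀
    rw [e]
    have h1 := d.fixZ h0
    rw [pow_two, MulAut.mul_apply, h1, d.fixZ h0]
  -- the common square
  obtain ⟨s, hs⟩ : ∃ s, s = x₀ * x₀ := ⟨_, rfl⟩
  have hsZ : s ∈ Subgroup.zpowers z := by rw [hs]; exact hsq x₀
  have hy₀s : φ x₀ * φ x₀ = s := by rw [← map_mul, ← hs, d.fixZ hsZ]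
  have hw₀s : φ (φ x₀) * φ (φ x₀) = s := by rw [← map_mul, hy₀s, d.fixZ hsZ]
  -- every element lies in one of four cosets
  have hcos : ∀ g : X, g ∈ Subgroup.zpowers z ∨ x₀⁻¹ * g ∈ Subgroup.zpowers z ∨
      (φ x₀)⁻¹ * g ∈ Subgroup.zpowers z ∨ (φ (φ x₀))⁻¹ * g ∈ Subgroup.zpowers z := by
    intro g
    by_contra hcon
    push Not at hcon
    have := Fintype.ofFinite (X ⧸ Subgroup.zpowers z)
    have hne : ∀ {a b : X}, a⁻¹ * b ∉ Subgroup.zpowers z →
        (QuotientGroup.mk a : X ⧸ Subgroup.zpowers z) ≠ QuotientGroup.mk b :=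
      fun h h0 => h (QuotientGroup.eq.mp h0)
    have hne1 : ∀ {b : X}, b ∉ Subgroup.zpowers z →
        (1 : X ⧸ Subgroup.zpowers z) ≠ QuotientGroup.mk b := by
      intro b h h0
      exact h ((QuotientGroup.eq_one_iff b).mp h0.symm)
    have h5 := five_le (s := (Finset.univ : Finset (X ⧸ Subgroup.zpowers z)))
      (a := 1) (b := QuotientGroup.mk x₀) (c := QuotientGroup.mk (φ x₀))
      (d := QuotientGroup.mk (φ (φ x₀))) (e := QuotientGroup.mk g)
      (Finset.mem_univ _) (Finset.mem_univ _) (Finset.mem_univ _) (Finset.mem_univ _)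
      (Finset.mem_univ _) (hne1 hx₀Z) (hne1 hy₀Z) (hne1 hw₀Z) (hne1 hcon.1) (hne hxy) (hne hxw)
      (hne hcon.2.1) (hne hyw) (hne hcon.2.2.1) (hne hcon.2.2.2)
    rw [Finset.card_univ, ← Nat.card_eq_fintype_card, hcard] at h5
    omega
  have hall : ∀ g : X, g ∉ Subgroup.zpowers z → g * g = s := by
    intro g hg
    rcases hcos g with h1 | h1 | h1 | h1
    · exact absurd h1 hg
    · rw [d.sq_coset h1, hs]
    · rw [d.sq_coset h1, hy₀s]
    · rw [d.sq_coset h1, hw₀s]
  by_cases hsz : s = z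
  · intro g
    by_cases hg : g ∈ Subgroup.zpowers z
    · rcases (d.mem g).mp hg with h1 | h1
      · exact Or.inl h1
      · exact Or.inr (Or.inl h1)
    · right; right
      rw [hall g hg, hsz]
  · exfalso
    have hs1 : s = 1 := by
      rcases (d.mem s).mp hsZ with h1 | h1
      · exact h1
      · exact absurd h1 hsz
    obtain ⟨x, y, hxy'⟩ := hna
    apply hxy'
    apply comm_of_sq
    intro g
    by_cases hg : g ∈ Subgroup.zpowers z
    · exact d.sqZ hg
    · rw [hall g hg, hs1]

theorem case_ab_big (d : ZData X φ m z) [hn : (Subgroup.zpowers z).Normal]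
    (hab : ∀ a b : X ⧸ Subgroup.zpowers z, a * b = b * a) (j : ℕ) (hj : 2 ≤ j)
    (hcard : Nat.card (X ⧸ Subgroup.zpowers z) = 4 ^ j)
    (hexp : ∀ x : X, x ^ 2 ^ j ∈ Subgroup.zpowers z)
    (hno : ∀ D : Subgroup (X ⧸ Subgroup.zpowers z),
      (∀ q ∈ D, qAut φ (Subgroup.zpowers z) d.map q ∈ D) → D.index ≠ 2) : False := by
  classical
  have := d.fin
  have hcomm : ∀ x y : X, y * x * y⁻¹ * x⁻¹ ∈ Subgroup.zpowers z := by
    intro x y
    rw [← QuotientGroup.eq_one_iff, QuotientGroup.mk_mul, QuotientGroup.mk_mul,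
      QuotientGroup.mk_mul, QuotientGroup.mk_inv, QuotientGroup.mk_inv,
      hab (QuotientGroup.mk y) (QuotientGroup.mk x)]
    group
  have hpow : ∀ x y : X, (x * y) ^ 2 ^ j = x ^ 2 ^ j * y ^ 2 ^ j := by
    intro x y
    have hc := hcomm x y
    have h1 := Cfsg.Agent.Lib.Helper20.Omega.mul_pow_class_two x y (d.central hc x).symm
      (d.central hc y).symm (2 ^ j)
    obtain ⟨e, he⟩ := even_choose j hj
    rw [he, pow_mul, pow_two, d.sqZ hc, one_pow, one_mul] at h1
    exact h1
  have hzpow : z ^ 2 ^ j = 1 := by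
    obtain ⟨i, rfl⟩ : ∃ i, j = i + 1 := ⟨j - 1, by omega⟩
    rw [pow_succ', pow_mul, pow_two, d.z2, one_pow]
  by_cases hK : ∀ x : X, x ^ 2 ^ j = 1
  · obtain ⟨N, hN, hNc, hQc⟩ := d.mc
    have hN_le : Nat.card N ≤ 2 ^ j := by
      obtain ⟨g, hg⟩ := IsCyclic.exists_generator (α := N)
      rw [← orderOf_eq_card_of_forall_mem_zpowers hg]
      apply Nat.le_of_dvd (by positivity)
      apply orderOf_dvd_of_pow_eq_one
      apply Subtype.ext
      show (g : X) ^ 2 ^ j = 1
      exact hK g
    have hQ_le : Nat.card (X ⧸ N) ≤ 2 ^ j := by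
      obtain ⟨q, hq⟩ := IsCyclic.exists_generator (α := X ⧸ N)
      rw [← orderOf_eq_card_of_forall_mem_zpowers hq]
      apply Nat.le_of_dvd (by positivity)
      apply orderOf_dvd_of_pow_eq_one
      induction q using QuotientGroup.induction_on with
      | H x => rw [← QuotientGroup.mk_pow, hK x]; rfl
    have h1 := Subgroup.card_eq_card_quotient_mul_card_subgroup N
    have h2 : Nat.card X ≤ 2 ^ j * 2 ^ j := by
      rw [h1]; exact Nat.mul_le_mul hQ_le hN_le
    have h3 := d.card
    rw [hcard] at h3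
    have h4 : (4 : ℕ) ^ j = 2 ^ j * 2 ^ j := by rw [← mul_pow]; norm_num
    have h5 : 0 < (4 : ℕ) ^ j := by positivity
    omega
  · push Not at hK
    obtain ⟨a, ha⟩ := hK
    have hval : ∀ x : X, x ^ 2 ^ j ≠ 1 → x ^ 2 ^ j = z := by
      intro x hx
      rcases (d.mem _).mp (hexp x) with h | h
      · exact absurd h hx
      · exact h
    let K : Subgroup X :=
      { carrier := {x | x ^ 2 ^ j = 1}
        mul_mem' := fun {a b} ha hb => by
          have ha' : a ^ 2 ^ j = 1 := ha
          have hb' : b ^ 2 ^ j = 1 := hb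
          show (a * b) ^ 2 ^ j = 1
          rw [hpow, ha', hb', one_mul]
        one_mem' := one_pow _
        inv_mem' := fun {a} ha => by
          have ha' : a ^ 2 ^ j = 1 := ha
          show a⁻¹ ^ 2 ^ j = 1
          rw [inv_pow, ha', inv_one] }
    have hmemK : ∀ x : X, x ∈ K ↔ x ^ 2 ^ j = 1 := fun x => Iff.rfl
    have hidx : K.index = 2 := by
      rw [Subgroup.index_eq_two_iff]
      refine ⟨a, fun b => ?_⟩
      by_cases hb : b ∈ K
      · right
        refine ⟨hb, ?_⟩
        rw [hmemK] at hb ⊢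
        rw [hpow, hb, one_mul]
        exact ha
      · left
        refine ⟨?_, hb⟩
        rw [hmemK] at hb ⊢
        rw [hpow, hval b hb, hval a ha, d.z2]
    have hZK : Subgroup.zpowers z ≤ K := by
      rw [Subgroup.zpowers_le, hmemK]
      exact hzpow
    have hidx' : (K.map (QuotientGroup.mk' (Subgroup.zpowers z))).index = 2 := by
      rw [Subgroup.index_map, QuotientGroup.ker_mk', sup_eq_left.mpr hZK,
        MonoidHom.range_eq_top.mpr (QuotientGroup.mk'_surjective _), Subgroup.index_top, mul_one,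
        hidx]
    apply hno _ _ hidx'
    rintro q ⟨k, hk, rfl⟩
    refine ⟨φ k, ?_, rfl⟩
    have hk' : k ^ 2 ^ j = 1 := hk
    show (φ k) ^ 2 ^ j = 1
    rw [← map_pow, hk', map_one]

theorem comm_eq_sq {G : Type*} [Group G] (g h : G) (hg : ∀ w : G, w * (g * g) = (g * g) * w) :
    g * h * g⁻¹ * h⁻¹ = (g * h) * (g * h) * (g * g)⁻¹ * (h * h)⁻¹ := by
  have e : h * (g * g)⁻¹ = (g * g)⁻¹ * h := by
    have := hg h
    calc h * (g * g)⁻¹ = (g * g)⁻¹ * ((g * g) * h) * (g * g)⁻¹ := by group
      _ = (g * g)⁻¹ * (h * (g * g)) * (g * g)⁻¹ := by rw [this]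
      _ = (g * g)⁻¹ * h := by group
  calc g * h * g⁻¹ * h⁻¹ = g * h * g * ((g * g)⁻¹ * h) * h⁻¹ * h⁻¹ := by group
    _ = g * h * g * (h * (g * g)⁻¹) * h⁻¹ * h⁻¹ := by rw [e]
    _ = (g * h) * (g * h) * (g * g)⁻¹ * (h * h)⁻¹ := by group

theorem case_q (d : ZData X φ m z) [hn : (Subgroup.zpowers z).Normal]
    (hna : ∃ a b : X ⧸ Subgroup.zpowers z, a * b ≠ b * a)
    (hQ : Qt (X ⧸ Subgroup.zpowers z) (qAut φ (Subgroup.zpowers z) d.map)) : False := by
  classical
  have := d.fin
  obtain ⟨hc8, z₁, hz₁1, hz₁2, hz₁c, hz₁φ, hz₁all⟩ := hQ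
  have hsqQ : ∀ q : X ⧸ Subgroup.zpowers z, q * q = 1 ∨ q * q = z₁ := by
    intro q
    rcases hz₁all q with h | h | h
    · left; rw [h, one_mul]
    · left; rw [h, hz₁2]
    · right; exact h
  have hsqc : ∀ q w : X ⧸ Subgroup.zpowers z, w * (q * q) = (q * q) * w := by
    intro q w
    rcases hsqQ q with h | h
    · rw [h, mul_one, one_mul]
    · rw [h]; exact hz₁c w
  have hPmul : ∀ p q : X ⧸ Subgroup.zpowers z, (p = 1 ∨ p = z₁) → (q = 1 ∨ q = z₁) →
      (p * q = 1 ∨ p * q = z₁) := by
    rintro p q (rfl | rfl) (rfl | rfl)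
    · left; exact one_mul 1
    · right; exact one_mul _
    · right; exact mul_one _
    · left; exact hz₁2
  have hPinv : ∀ p : X ⧸ Subgroup.zpowers z, (p = 1 ∨ p = z₁) → (p⁻¹ = 1 ∨ p⁻¹ = z₁) := by
    rintro p (rfl | rfl)
    · left; exact inv_one
    · right; exact inv_eq_of_mul_eq_one_left hz₁2
  obtain ⟨a', b', hab⟩ := hna
  obtain ⟨a, rfl⟩ := QuotientGroup.mk_surjective a'
  obtain ⟨b, rfl⟩ := QuotientGroup.mk_surjective b'
  obtain ⟨c, hc⟩ : ∃ c, c = a * b * a⁻¹ * b⁻¹ := ⟨_, rfl⟩
  have hmkc : (QuotientGroup.mk c : X ⧸ Subgroup.zpowers z) = z₁ := by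
    have e0 : (QuotientGroup.mk c : X ⧸ Subgroup.zpowers z) =
        (QuotientGroup.mk a) * (QuotientGroup.mk b) * (QuotientGroup.mk a)⁻¹ *
          (QuotientGroup.mk b)⁻¹ := by
      rw [hc]; rfl
    have hne1 : (QuotientGroup.mk c : X ⧸ Subgroup.zpowers z) ≠ 1 := by
      intro h0
      apply hab
      rw [e0] at h0
      calc (QuotientGroup.mk a : X ⧸ Subgroup.zpowers z) * QuotientGroup.mk b
          = ((QuotientGroup.mk a) * (QuotientGroup.mk b) * (QuotientGroup.mk a)⁻¹ *
            (QuotientGroup.mk b)⁻¹) * QuotientGroup.mk b * QuotientGroup.mk a := by group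
        _ = QuotientGroup.mk b * QuotientGroup.mk a := by rw [h0, one_mul]
    have hP : (QuotientGroup.mk c : X ⧸ Subgroup.zpowers z) = 1 ∨
        (QuotientGroup.mk c : X ⧸ Subgroup.zpowers z) = z₁ := by
      rw [e0, comm_eq_sq _ _ (hsqc _)]
      exact hPmul _ _ (hPmul _ _ (hsqQ _) (hPinv _ (hsqQ _))) (hPinv _ (hsqQ _))
    exact hP.resolve_left hne1
  have hcX : c ∈ commutator X := by
    rw [hc, commutator_def]
    exact Subgroup.commutator_mem_commutator (Subgroup.mem_top a) (Subgroup.mem_top b)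
  have hcZ : c ∉ Subgroup.zpowers z := by
    intro h0
    apply hz₁1
    rw [← hmkc]
    exact (QuotientGroup.eq_one_iff c).mpr h0
  have hc1 : c ≠ 1 := by
    intro h0
    apply hcZ
    rw [h0]; exact Subgroup.one_mem _
  have hcc : c * c = z := by
    have h1 : c * c ∈ Subgroup.zpowers z := by
      rw [← QuotientGroup.eq_one_iff, QuotientGroup.mk_mul, hmkc, hz₁2]
    rcases (d.mem _).mp h1 with h2 | h2
    · exfalso
      apply hcZ
      rw [d.zu c hcX hc1 h2]
      exact Subgroup.mem_zpowers z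
    · exact h2
  have hφc : φ c = c := by
    apply d.stab
    apply QuotientGroup.eq.mp
    have h1 := hz₁φ
    rw [← hmkc, qAut_mk] at h1
    exact h1.symm
  have hχ : ∀ g : X, g * c * g⁻¹ * c⁻¹ ∈ Subgroup.zpowers z := by
    intro g
    rw [← QuotientGroup.eq_one_iff, QuotientGroup.mk_mul, QuotientGroup.mk_mul,
      QuotientGroup.mk_mul, QuotientGroup.mk_inv, QuotientGroup.mk_inv, hmkc,
      hz₁c (QuotientGroup.mk g)]
    group
  have hdich : ∀ g : X, g * c = c * g ∨ g * c = z * c * g := by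
    intro g
    rcases (d.mem _).mp (hχ g) with h | h
    · left
      calc g * c = (g * c * g⁻¹ * c⁻¹) * c * g := by group
        _ = c * g := by rw [h, one_mul]
    · right
      calc g * c = (g * c * g⁻¹ * c⁻¹) * c * g := by group
        _ = z * c * g := by rw [h]
  have hi : ∀ x : X, (x⁻¹ * φ x) * c = c * (x⁻¹ * φ x) := by
    intro x
    have h1 : φ (x * c * x⁻¹ * c⁻¹) = x * c * x⁻¹ * c⁻¹ := d.fixZ (hχ x)
    rw [map_mul, map_mul, map_mul, map_inv, map_inv, hφc] at h1
    have h2 : φ x * c * (φ x)⁻¹ = x * c * x⁻¹ := by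
      calc φ x * c * (φ x)⁻¹ = (φ x * c * (φ x)⁻¹ * c⁻¹) * c := by group
        _ = (x * c * x⁻¹ * c⁻¹) * c := by rw [h1]
        _ = x * c * x⁻¹ := by group
    calc x⁻¹ * φ x * c = x⁻¹ * (φ x * c * (φ x)⁻¹) * φ x := by group
      _ = x⁻¹ * (x * c * x⁻¹) * φ x := by rw [h2]
      _ = c * (x⁻¹ * φ x) := by group
  have hii : ∀ g : X, g * c = c * g → φ g = g := by
    by_cases hall : ∀ g : X, g * c = c * g
    · exfalso
      have haa : ∀ w : X, w * (a * a) = (a * a) * w := by
        intro w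
        rcases hsqQ (QuotientGroup.mk a) with h | h
        · have h1 : a * a ∈ Subgroup.zpowers z := by
            rw [← QuotientGroup.eq_one_iff, QuotientGroup.mk_mul]; exact h
          exact d.central h1 w
        · have h1 : c⁻¹ * (a * a) ∈ Subgroup.zpowers z := by
            apply QuotientGroup.eq.mp
            rw [hmkc, QuotientGroup.mk_mul]; exact h.symm
          obtain ⟨ζ, hζ⟩ : ∃ ζ, ζ = c⁻¹ * (a * a) := ⟨_, rfl⟩
          rw [← hζ] at h1
          have e : a * a = c * ζ := by rw [hζ]; group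
          rw [e]
          calc w * (c * ζ) = (w * c) * ζ := by group
            _ = (c * w) * ζ := by rw [hall w]
            _ = c * (w * ζ) := by group
            _ = c * (ζ * w) := by rw [d.central h1 w]
            _ = c * ζ * w := by group
      have hab' : a * b = c * b * a := by rw [hc]; group
      have h1 : a * a * b = c * c * (b * (a * a)) := by
        calc a * a * b = a * (a * b) := by group
          _ = a * (c * b * a) := by rw [hab']
          _ = (a * c) * b * a := by group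
          _ = (c * a) * b * a := by rw [hall a]
          _ = c * (a * b) * a := by group
          _ = c * (c * b * a) * a := by rw [hab']
          _ = c * c * (b * (a * a)) := by group
      have h2 : a * a * b = b * (a * a) := (haa b).symm
      rw [h2] at h1
      have h3 : c * c = 1 := mul_eq_right.mp h1.symm
      rw [hcc] at h3
      exact d.z1 h3
    · push Not at hall
      obtain ⟨a₀, ha₀⟩ := hall
      have ha₀' : a₀ * c = z * c * a₀ := (hdich a₀).resolve_left ha₀
      obtain ⟨C, hC⟩ : ∃ C : Subgroup X, C = Subgroup.centralizer {c} := ⟨_, rfl⟩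
      have hmemC : ∀ g : X, g ∈ C ↔ g * c = c * g := by
        intro g
        rw [hC, Subgroup.mem_centralizer_iff]
        simp only [Set.mem_singleton_iff, forall_eq]
        exact eq_comm
      have hidx : C.index = 2 := by
        rw [Subgroup.index_eq_two_iff]
        refine ⟨a₀, fun b₀ => ?_⟩
        by_cases hb : b₀ ∈ C
        · right
          refine ⟨hb, ?_⟩
          rw [hmemC] at hb ⊢
          intro h0
          have h1 : b₀ * a₀ * c = z * (c * (b₀ * a₀)) := by
            calc b₀ * a₀ * c = b₀ * (a₀ * c) := by group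
              _ = b₀ * (z * c * a₀) := by rw [ha₀']
              _ = (b₀ * z) * c * a₀ := by group
              _ = (z * b₀) * c * a₀ := by rw [d.zc b₀]
              _ = z * (b₀ * c) * a₀ := by group
              _ = z * (c * b₀) * a₀ := by rw [hb]
              _ = z * (c * (b₀ * a₀)) := by group
          rw [h0] at h1
          exact d.z1 (mul_eq_right.mp h1.symm)
        · left
          refine ⟨?_, hb⟩
          rw [hmemC] at hb ⊢
          have hb' : b₀ * c = z * c * b₀ := (hdich b₀).resolve_left hb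
          calc b₀ * a₀ * c = b₀ * (a₀ * c) := by group
            _ = b₀ * (z * c * a₀) := by rw [ha₀']
            _ = (b₀ * z) * c * a₀ := by group
            _ = (z * b₀) * c * a₀ := by rw [d.zc b₀]
            _ = z * (b₀ * c) * a₀ := by group
            _ = z * (z * c * b₀) * a₀ := by rw [hb']
            _ = (z * z) * (c * (b₀ * a₀)) := by group
            _ = c * (b₀ * a₀) := by rw [d.z2, one_mul]
      have hord : orderOf c = 4 := by
        have : Fact (Nat.Prime 2) := ⟨Nat.prime_two⟩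
        have h1 : ¬ c ^ 2 ^ 1 = 1 := by rw [pow_one, pow_two, hcc]; exact d.z1
        have h2 : c ^ 2 ^ (1 + 1) = 1 := by
          have e : c ^ 2 ^ (1 + 1) = (c * c) * (c * c) := by
            rw [pow_succ, pow_one, pow_mul, pow_two, pow_two]
          rw [e, hcc, d.z2]
        exact orderOf_eq_prime_pow h1 h2
      have hMC : Subgroup.zpowers c ≤ C := by
        rw [Subgroup.zpowers_le, hmemC]
      have hcardX : Nat.card X = 16 := by rw [d.card, hc8]
      have hcardC : Nat.card C = 8 := by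
        have h1 := C.card_mul_index
        rw [hidx, hcardX] at h1
        omega
      have hcardM : Nat.card (Subgroup.zpowers c) = 4 := by rw [Nat.card_zpowers, hord]
      have hrel : ((Subgroup.zpowers c).subgroupOf C).index = 2 := by
        have h1 := Subgroup.relIndex_mul_relIndex ⊥ (Subgroup.zpowers c) C bot_le hMC
        rw [Subgroup.relIndex_bot_left, Subgroup.relIndex_bot_left, hcardM, hcardC] at h1
        show (Subgroup.zpowers c).relIndex C = 2
        omega
      have hfixM : ∀ g ∈ Subgroup.zpowers c, φ g = g := by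
        intro g hg
        obtain ⟨k, rfl⟩ := Subgroup.mem_zpowers_iff.mp hg
        rw [map_zpow, hφc]
      intro g hg
      by_cases hgM : g ∈ Subgroup.zpowers c
      · exact hfixM g hgM
      · have hgC : g ∈ C := (hmemC g).mpr hg
        have hφgC : φ g ∈ C := by
          rw [hmemC]
          calc φ g * c = φ g * φ c := by rw [hφc]
            _ = φ (g * c) := (map_mul φ g c).symm
            _ = φ (c * g) := by rw [hg]
            _ = φ c * φ g := map_mul φ c g
            _ = c * φ g := by rw [hφc]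
        have hφgM : φ g ∉ Subgroup.zpowers c := by
          intro h0
          obtain ⟨k, hk⟩ := Subgroup.mem_zpowers_iff.mp h0
          apply hgM
          have h1 : φ (c ^ k) = φ g := by rw [map_zpow, hφc, hk]
          rw [← φ.injective h1]
          exact Subgroup.zpow_mem_zpowers c k
        have h1 := Subgroup.mul_mem_iff_of_index_two hrel (a := (⟨g⁻¹, C.inv_mem hgC⟩ : C))
          (b := (⟨φ g, hφgC⟩ : C))
        have h2 : g⁻¹ * φ g ∈ Subgroup.zpowers c := by
          have h3 : (⟨g⁻¹, C.inv_mem hgC⟩ : C) * ⟨φ g, hφgC⟩ ∈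
              (Subgroup.zpowers c).subgroupOf C := by
            rw [h1]
            constructor
            · intro h4
              exact absurd ((Subgroup.zpowers c).inv_mem_iff.mp (Subgroup.mem_subgroupOf.mp h4)) hgM
            · intro h4
              exact absurd (Subgroup.mem_subgroupOf.mp h4) hφgM
          exact Subgroup.mem_subgroupOf.mp h3
        exact fix_of_stab d.two φ m d.odd d.pow g (hfixM _ h2)
  apply d.ne
  ext x
  exact fix_of_stab d.two φ m d.odd d.pow x (hii _ (hi x))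

end caseab

/-- a nonabelian metacyclic 2-group with a nontrivial automorphism of odd order is of
quaternion type of order 8 -/
theorem nonab_struct : ∀ n : ℕ, ∀ (X : Type u) [Group X] (φ : MulAut X) (m : ℕ),
    Nat.card X = n → BData X φ m → (∃ x y : X, x * y ≠ y * x) → Qt X φ := by
  intro n
  induction n using Nat.strong_induction_on with
  | _ n ih =>
  intro X _ φ m hn h hna
  have := h.fin
  obtain ⟨z, hz1, hz2, hzc, hzφ, huniq⟩ := exists_z h.two h.mc hna
  have d : ZData X φ m z :=
    { h with z1 := hz1, z2 := hz2, zc := hzc, zφ := hzφ φ, zu := huniq }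
  have hnorm := d.normal
  have hB := d.quot
  have hcard := d.card
  by_cases hab : ∀ a b : X ⧸ Subgroup.zpowers z, a * b = b * a
  · let _ : CommGroup (X ⧸ Subgroup.zpowers z) :=
      { (inferInstance : Group (X ⧸ Subgroup.zpowers z)) with mul_comm := hab }
    have hA : AData (X ⧸ Subgroup.zpowers z) (qAut φ (Subgroup.zpowers z) d.map) m :=
      { two := hB.two, odd := hB.odd, pow := hB.pow, om := om_bound hB.mc }
    obtain ⟨j, hj, hcj, hexp⟩ := hA.top_struct hB.ne
    have hexp' : ∀ x : X, x ^ 2 ^ j ∈ Subgroup.zpowers z := by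
      intro x
      rw [← QuotientGroup.eq_one_iff, QuotientGroup.mk_pow]
      exact hexp _
    by_cases hj1 : j = 1
    · subst hj1
      apply case_ab_one d hna (by rw [hcj]; norm_num)
      intro x
      have h1 := hexp' x
      rwa [pow_one, pow_two] at h1
    · exfalso
      exact case_ab_big d hab j (by omega) hcj hexp' (fun D hD => hA.no_index_two hB.ne D hD)
  · push Not at hab
    have hlt : Nat.card (X ⧸ Subgroup.zpowers z) < n := by
      rw [← hn, hcard]
      have h0 : 0 < Nat.card (X ⧸ Subgroup.zpowers z) := Nat.card_pos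
      omega
    exact (case_q d hab (ih _ hlt _ _ m rfl hB hab)).elim

end Cfsg.Agent.Lib.Helper8.MetaAut
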