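import Mathlib

set_option autoImplicit false

namespace Cfsg.Agent.Lib.Helper8.NilNum

open Nat

/-- exponent of 2 in `n!` -/
def ee (n : ℕ) : ℕ := (n !).factorization 2

/-- the 2-part of `n!` -/
def hh (n : ℕ) : ℕ := 2 ^ ee n

/-- the bound for nilpotent subgroups of the symmetric group of degree `n` -/
def gg (n : ℕ) : ℕ := if n % 4 = 3 then 3 * hh (n - 3) else hh n

def cc (r : ℕ) : ℕ := if r = 0 then 1 else r

theorem hh_pos (n : ℕ) : 0 < hh n := by unfold hh; positivity

theorem ee_add (a b : ℕ) : ee a + ee b ≤ ee (a + b) := by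
  unfold ee
  have h := Nat.factorial_mul_factorial_dvd_factorial_add a b
  have h2 := (Nat.factorization_le_iff_dvd
    (mul_ne_zero (Nat.factorial_ne_zero a) (Nat.factorial_ne_zero b))
    (Nat.factorial_ne_zero (a+b))).mpr h
  have h3 := h2 2
  rw [Nat.factorization_mul (Nat.factorial_ne_zero a) (Nat.factorial_ne_zero b)] at h3
  simpa using h3

theorem hh_mul_le (a b : ℕ) : hh a * hh b ≤ hh (a + b) := by
  unfold hh
  rw [← pow_add]
  exact Nat.pow_le_pow_right (by norm_num) (ee_add a b)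

theorem ee_one : ee 1 = 0 := by simp [ee]

theorem ee_zero : ee 0 = 0 := by simp [ee]

theorem hh_one : hh 1 = 1 := by simp [hh, ee_one]

theorem hh_zero : hh 0 = 1 := by simp [hh, ee_zero]

theorem hh_mono {a b : ℕ} (h : a ≤ b) : hh a ≤ hh b := by
  obtain ⟨c, rfl⟩ := Nat.exists_eq_add_of_le h
  calc hh a = hh a * 1 := by ring
    _ ≤ hh a * hh c := Nat.mul_le_mul_left _ (hh_pos c)
    _ ≤ hh (a + c) := hh_mul_le a c

theorem ee_two_mul (m : ℕ) : ee (2 * m) = ee m + m := by
  unfold ee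
  rw [Nat.factorization_def _ Nat.prime_two, Nat.factorization_def _ Nat.prime_two]
  have : Fact (Nat.Prime 2) := ⟨Nat.prime_two⟩
  exact padicValNat_factorial_mul m

theorem ee_two_mul_add_one (m : ℕ) : ee (2 * m + 1) = ee (2 * m) := by
  unfold ee
  rw [Nat.factorization_def _ Nat.prime_two, Nat.factorization_def _ Nat.prime_two]
  have : Fact (Nat.Prime 2) := ⟨Nat.prime_two⟩
  exact padicValNat_factorial_mul_add m (by norm_num)

theorem hh_two_mul (m : ℕ) : hh (2 * m) = 2 ^ m * hh m := by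
  unfold hh
  rw [ee_two_mul, pow_add, mul_comm]

theorem hh_two_mul_add_one (m : ℕ) : hh (2 * m + 1) = hh (2 * m) := by
  unfold hh
  rw [ee_two_mul_add_one]

theorem hh_two : hh 2 = 2 := by
  have := hh_two_mul 1
  simpa [hh_one] using this

theorem hh_four_mul (q : ℕ) : hh (4 * q) = 8 ^ q * hh q := by
  have h1 : 4 * q = 2 * (2 * q) := by ring
  rw [h1, hh_two_mul, hh_two_mul]
  have : (8 : ℕ) ^ q = 2 ^ (2 * q) * 2 ^ q := by
    rw [← pow_add, show 2 * q + q = 3 * q by ring, pow_mul]; norm_num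
  rw [this]; ring

theorem hh_four_mul_add_one (q : ℕ) : hh (4 * q + 1) = 8 ^ q * hh q := by
  have h1 : 4 * q + 1 = 2 * (2 * q) + 1 := by ring
  rw [h1, hh_two_mul_add_one, ← hh_four_mul]
  congr 1; ring

theorem hh_four_mul_add_two (q : ℕ) : hh (4 * q + 2) = 2 * 8 ^ q * hh q := by
  have h1 : 4 * q + 2 = 2 * (2 * q + 1) := by ring
  rw [h1, hh_two_mul, hh_two_mul_add_one, hh_two_mul]
  have : (8 : ℕ) ^ q = 2 ^ (2 * q) * 2 ^ q := by
    rw [← pow_add, show 2 * q + q = 3 * q by ring, pow_mul]; norm_num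
  rw [this, pow_succ]; ring

theorem hh_four_mul_add_three (q : ℕ) : hh (4 * q + 3) = 2 * 8 ^ q * hh q := by
  have h1 : 4 * q + 3 = 2 * (2 * q + 1) + 1 := by ring
  rw [h1, hh_two_mul_add_one, ← hh_four_mul_add_two]
  congr 1; ring

theorem gg_eq (q r : ℕ) (hr : r < 4) : gg (4 * q + r) = cc r * 8 ^ q * hh q := by
  unfold gg
  interval_cases r
  · have : (4 * q + 0) % 4 ≠ 3 := by omega
    rw [if_neg this]; simp [cc, hh_four_mul]
  · have : (4 * q + 1) % 4 ≠ 3 := by omega
    rw [if_neg this]; simp [cc, hh_four_mul_add_one]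
  · have : (4 * q + 2) % 4 ≠ 3 := by omega
    rw [if_neg this]; simp [cc, hh_four_mul_add_two]
  · have : (4 * q + 3) % 4 = 3 := by omega
    rw [if_pos this]
    have h2 : 4 * q + 3 - 3 = 4 * q := by omega
    rw [h2, hh_four_mul]; simp [cc]; ring

theorem hh_le_gg (n : ℕ) : hh n ≤ gg n := by
  have h := Nat.div_add_mod n 4
  have hr : n % 4 < 4 := Nat.mod_lt _ (by norm_num)
  by_cases h3 : n % 4 = 3
  · have hn : n = 4 * (n / 4) + 3 := by omega
    rw [hn, gg_eq _ 3 (by norm_num), hh_four_mul_add_three]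
    simp only [cc]
    have : 0 < 8 ^ (n / 4) * hh (n / 4) := Nat.mul_pos (by positivity) (hh_pos _)
    norm_num
    nlinarith
  · unfold gg; rw [if_neg h3]

theorem gg_pos (n : ℕ) : 0 < gg n := lt_of_lt_of_le (hh_pos n) (hh_le_gg n)

theorem gg_one : gg 1 = 1 := by
  unfold gg; simp [hh_one]

theorem aux1 (c c' C A B x y z : ℕ) (hc : c * c' ≤ C) (hz : x * y ≤ z) :
    (c * A * x) * (c' * B * y) ≤ C * (A * B) * z := by
  calc (c * A * x) * (c' * B * y) = (c * c') * (A * B) * (x * y) := by ring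
    _ ≤ C * (A * B) * z := by gcongr

theorem aux2 (c c' C A B x y z : ℕ) (hc : c * c' ≤ 8 * C) (hz : x * y ≤ z) :
    (c * A * x) * (c' * B * y) ≤ C * (8 * (A * B)) * z := by
  calc (c * A * x) * (c' * B * y) = (c * c') * (A * B) * (x * y) := by ring
    _ ≤ (8 * C) * (A * B) * z := by gcongr
    _ = C * (8 * (A * B)) * z := by ring

theorem gg_mul_le (a b : ℕ) : gg a * gg b ≤ gg (a + b) := by
  have ha := Nat.div_add_mod a 4
  have hb := Nat.div_add_mod b 4
  have hra : a % 4 < 4 := Nat.mod_lt _ (by norm_num)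
  have hrb : b % 4 < 4 := Nat.mod_lt _ (by norm_num)
  generalize a / 4 = q at ha
  generalize b / 4 = q' at hb
  generalize a % 4 = r at ha hra
  generalize b % 4 = r' at hb hrb
  subst ha hb
  rw [gg_eq q r hra, gg_eq q' r' hrb]
  by_cases h : r + r' < 4
  · have e : 4 * q + r + (4 * q' + r') = 4 * (q + q') + (r + r') := by ring
    rw [e, gg_eq _ _ h, pow_add]
    apply aux1
    · interval_cases r <;> interval_cases r' <;> simp [cc] <;> omega
    · exact hh_mul_le q q'
  · have e : 4 * q + r + (4 * q' + r') = 4 * (q + q' + 1) + (r + r' - 4) := by omega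
    rw [e, gg_eq _ _ (by omega)]
    have e2 : (8 : ℕ) ^ (q + q' + 1) = 8 * (8 ^ q * 8 ^ q') := by
      rw [pow_succ, pow_add]; ring
    rw [e2]
    apply aux2
    · interval_cases r <;> interval_cases r' <;> simp [cc]
    · exact (hh_mul_le q q').trans (hh_mono (by omega))

theorem gg_mono {a b : ℕ} (h : a ≤ b) : gg a ≤ gg b := by
  obtain ⟨c, rfl⟩ := Nat.exists_eq_add_of_le h
  calc gg a = gg a * 1 := by ring
    _ ≤ gg a * gg c := Nat.mul_le_mul_left _ (gg_pos c)
    _ ≤ gg (a + c) := gg_mul_le a c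

theorem le_hh (n : ℕ) (hn : 4 ≤ n) : n ≤ hh n := by
  have h := Nat.div_add_mod n 2
  have hm : 2 ≤ n / 2 := by omega
  have h1 : hh (2 * (n / 2)) ≤ hh n := hh_mono (by omega)
  rw [hh_two_mul] at h1
  have h2 : 2 ≤ hh (n / 2) := by
    have := hh_mono hm
    rwa [hh_two] at this
  have h3 : n / 2 < 2 ^ (n / 2) := Nat.lt_two_pow_self
  have h4 : 2 ^ (n / 2) * 2 ≤ 2 ^ (n / 2) * hh (n / 2) := Nat.mul_le_mul_left _ h2
  omega

theorem wreath (p n : ℕ) (hn : n ≠ 0) : hh p * hh n ^ p ≤ hh (p * n) := by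
  unfold hh
  rw [← pow_mul, ← pow_add]
  apply Nat.pow_le_pow_right (by norm_num)
  unfold ee
  have h := Nat.uniformBell_mul_eq p hn
  have hd : n ! ^ p * p ! ∣ (p * n)! := by
    rw [← h, mul_assoc]; exact Dvd.intro_left _ rfl
  have h2 := (Nat.factorization_le_iff_dvd
    (mul_ne_zero (pow_ne_zero _ (Nat.factorial_ne_zero n)) (Nat.factorial_ne_zero p))
    (Nat.factorial_ne_zero (p * n))).mpr hd
  have h3 := h2 2
  rw [Nat.factorization_mul (pow_ne_zero _ (Nat.factorial_ne_zero n)) (Nat.factorial_ne_zero p),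
    Nat.factorization_pow] at h3
  simp only [Finsupp.coe_add, Pi.add_apply, Finsupp.coe_smul, Pi.smul_apply, smul_eq_mul] at h3
  linarith [mul_comm ((n !).factorization 2) p]

/-- exponent of `p` in `(p^a)!` -/
def EE (p a : ℕ) : ℕ := ((p ^ a)!).factorization p

theorem EE_zero (p : ℕ) : EE p 0 = 0 := by simp [EE]

theorem EE_succ (p a : ℕ) (hp : p.Prime) : EE p (a + 1) = EE p a + p ^ a := by
  unfold EE
  rw [Nat.factorization_def _ hp, Nat.factorization_def _ hp]
  have : Fact (Nat.Prime p) := ⟨hp⟩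
  rw [pow_succ, mul_comm]
  exact padicValNat_factorial_mul (p ^ a)

theorem EE_formula (p a : ℕ) (hp : p.Prime) : (p - 1) * EE p a + 1 = p ^ a := by
  induction a with
  | zero => simp [EE_zero]
  | succ a ih =>
    rw [EE_succ p a hp, mul_add, pow_succ]
    have h1 : 1 ≤ p := hp.one_lt.le
    have : (p - 1) * p ^ a + p ^ a = p ^ a * p := by
      obtain ⟨k, rfl⟩ := Nat.exists_eq_add_of_le h1
      simp; ring
    linarith

theorem EE_succ' (p a : ℕ) (hp : p.Prime) : EE p (a + 1) = p * EE p a + 1 := by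
  have h := EE_formula p a hp
  rw [EE_succ p a hp, ← h]
  have h1 : 1 ≤ p := hp.one_lt.le
  obtain ⟨k, rfl⟩ := Nat.exists_eq_add_of_le h1
  simp; ring

theorem LL_succ (p a : ℕ) (hp : p.Prime) : p ^ EE p (a + 1) = p * (p ^ EE p a) ^ p := by
  rw [EE_succ' p a hp, pow_succ, ← pow_mul, mul_comm (EE p a) p, mul_comm]

theorem big_prime (p : ℕ) (hp : p.Prime) (h5 : 4 ≤ p) (a : ℕ) : p ^ EE p a ≤ hh (p ^ a) := by
  induction a with
  | zero => simp [EE_zero, hh_one]
  | succ a ih =>
    rw [LL_succ p a hp]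
    calc p * (p ^ EE p a) ^ p ≤ hh p * hh (p ^ a) ^ p :=
          Nat.mul_le_mul (le_hh p h5) (Nat.pow_le_pow_left ih p)
      _ ≤ hh (p * p ^ a) := wreath p (p ^ a) (pow_ne_zero _ hp.ne_zero)
      _ = hh (p ^ (a + 1)) := by rw [pow_succ, mul_comm]

theorem hh_three : hh 3 = 2 := by
  have := hh_two_mul_add_one 1
  simpa [hh_two] using this

theorem hh_nine : hh 9 = 128 := by
  have := hh_four_mul_add_one 2
  simpa [hh_two] using this

theorem three_prime (a : ℕ) : 3 * 3 ^ EE 3 (a + 2) ≤ 2 * hh (3 ^ (a + 2)) := by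
  induction a with
  | zero =>
    have e1 : EE 3 1 = 1 := by
      have := EE_succ' 3 0 Nat.prime_three
      simpa [EE_zero] using this
    have e2 : EE 3 2 = 4 := by
      have := EE_succ' 3 1 Nat.prime_three
      simpa [e1] using this
    simp only [zero_add, e2]
    norm_num [hh_nine]
  | succ a ih =>
    rw [LL_succ 3 (a + 2) Nat.prime_three]
    have hw := wreath 3 (3 ^ (a + 2)) (by positivity)
    rw [hh_three] at hw
    have e : 3 * 3 ^ (a + 2) = 3 ^ (a + 1 + 2) := by ring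
    rw [e] at hw
    have h27 : (3 * 3 ^ EE 3 (a + 2)) ^ 3 ≤ (2 * hh (3 ^ (a + 2))) ^ 3 :=
      Nat.pow_le_pow_left ih 3
    rw [mul_pow, mul_pow] at h27
    generalize (3 ^ EE 3 (a + 2)) ^ 3 = X at *
    generalize hh (3 ^ (a + 2)) ^ 3 = Y at *
    generalize hh (3 ^ (a + 1 + 2)) = Z at *
    norm_num at h27
    omega

theorem pgroup_bound (p : ℕ) (hp : p.Prime) (a : ℕ) :
    p ^ ((p ^ a)!).factorization p ≤ gg (p ^ a) := by
  change p ^ EE p a ≤ gg (p ^ a)
  rcases Nat.lt_or_ge p 4 with h4 | h4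
  · have hp23 : p = 2 ∨ p = 3 := by
      have := hp.two_le
      interval_cases p
      · left; rfl
      · right; rfl
    rcases hp23 with rfl | rfl
    · exact (show 2 ^ EE 2 a = hh (2 ^ a) from rfl).le.trans (hh_le_gg _)
    · rcases a with _ | _ | a
      · simp [EE_zero, gg_one]
      · have e1 : EE 3 1 = 1 := by
          have := EE_succ' 3 0 Nat.prime_three
          simpa [EE_zero] using this
        have : gg 3 = 3 := by
          have := gg_eq 0 3 (by norm_num)
          simpa [cc, hh_zero] using this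
        simp [e1, this]
      · show 3 ^ EE 3 (a + 2) ≤ gg (3 ^ (a + 2))
        have := three_prime a
        have h2 : hh (3 ^ (a + 2)) ≤ gg (3 ^ (a + 2)) := hh_le_gg _
        omega
  · exact (big_prime p hp h4 a).trans (hh_le_gg _)

theorem gg_of_mod (n : ℕ) (h : n % 4 ≠ 3) : gg n = 2 ^ (n !).factorization 2 := by
  unfold gg; rw [if_neg h]; rfl

end Cfsg.Agent.Lib.Helper8.NilNum
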