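import Mathlib
import Cfsg.Agent.Lib.Helper8.NilPerm

set_option autoImplicit false

namespace Cfsg.Agent.Lib.Helper8.NilGen

open Cfsg.Agent.Lib.Helper8.NilPerm

variable {α : Type}

/-- a bound function `G` adapted to the set `Ap` of allowed primes -/
structure Good (Ap : ℕ → Prop) (G : ℕ → ℕ) : Prop where
  pos : ∀ n, 0 < G n
  mul_le : ∀ a b, G a * G b ≤ G (a + b)
  mono : ∀ a b, a ≤ b → G a ≤ G b
  pbound : ∀ p, p.Prime → Ap p → ∀ a, p ^ ((p ^ a).factorial.factorization p) ≤ G (p ^ a)

def PrimesIn (Ap : ℕ → Prop) (m : ℕ) : Prop := ∀ p, p.Prime → p ∣ m → Ap p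

theorem primesIn_of_dvd {Ap : ℕ → Prop} {m n : ℕ} (h : m ∣ n) (hn : PrimesIn Ap n) :
    PrimesIn Ap m :=
  fun p hp hpm => hn p hp (hpm.trans h)

/-- the bound statement for degree `k` -/
def BoundG (Ap : ℕ → Prop) (G : ℕ → ℕ) (k : ℕ) : Prop :=
  ∀ (α : Type) [Finite α], Nat.card α = k → ∀ N : Subgroup (Equiv.Perm α),
    Group.IsNilpotent N → PrimesIn Ap (Nat.card N) → Nat.card N ≤ G k

theorem range_le {Ap : ℕ → Prop} {G : ℕ → ℕ} {k : ℕ} (ih : ∀ j < k, BoundG Ap G j)
    {M : Type} [Group M] [Group.IsNilpotent M] (hM : PrimesIn Ap (Nat.card M))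
    {β : Type} [Finite β] (f : M →* Equiv.Perm β) (hβ : Nat.card β < k) :
    Nat.card f.range ≤ G (Nat.card β) := by
  have : Group.IsNilpotent f.range :=
    Group.nilpotent_of_surjective f.rangeRestrict f.rangeRestrict_surjective
  exact ih _ hβ β rfl f.range this (primesIn_of_dvd (Subgroup.card_range_dvd f) hM)

theorem inj_le {Ap : ℕ → Prop} {G : ℕ → ℕ} {k : ℕ} (ih : ∀ j < k, BoundG Ap G j)
    {M : Type} [Group M] [Group.IsNilpotent M] (hM : PrimesIn Ap (Nat.card M))
    {β : Type} [Finite β] (f : M →* Equiv.Perm β) (hf : Function.Injective f)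
    (hβ : Nat.card β < k) : Nat.card M ≤ G (Nat.card β) := by
  rw [Nat.card_congr (MonoidHom.ofInjective hf).toEquiv]
  exact range_le ih hM f hβ

theorem intrans {Ap : ℕ → Prop} {G : ℕ → ℕ} (hG : Good Ap G) {k : ℕ}
    (ih : ∀ j < k, BoundG Ap G j) [Finite α] (hα : Nat.card α = k)
    (N : Subgroup (Equiv.Perm α)) [Group.IsNilpotent N] (hAp : PrimesIn Ap (Nat.card N)) (s : Set α)
    (hs : ∀ g ∈ N, ∀ x ∈ s, (g : Equiv.Perm α) x ∈ s) (hne : s.Nonempty) (hne' : sᶜ.Nonempty) :
    Nat.card N ≤ G k := by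
  have hs' : ∀ g ∈ N, ∀ x ∈ sᶜ, (g : Equiv.Perm α) x ∈ sᶜ := by
    intro g hg x hx hgx
    apply hx
    have := hs g⁻¹ (N.inv_mem hg) _ hgx
    simpa using this
  let f₁ := res N.subtype s (fun g x hx => hs g g.2 x hx)
  let f₂ := res N.subtype sᶜ (fun g x hx => hs' g g.2 x hx)
  have hcard : Nat.card s + Nat.card ↥sᶜ = k := by
    rw [← hα, Nat.card_coe_set_eq, Nat.card_coe_set_eq]; exact Set.ncard_add_ncard_compl s
  have h1 : 0 < Nat.card s := by
    have : Nonempty s := hne.to_subtype
    exact Nat.card_pos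
  have h2 : 0 < Nat.card ↥sᶜ := by
    have : Nonempty ↥sᶜ := hne'.to_subtype
    exact Nat.card_pos
  have b1 := range_le ih hAp f₁ (by omega)
  have b2 := range_le ih hAp f₂ (by omega)
  have hinj : Function.Injective (fun g : N => (f₁.rangeRestrict g, f₂.rangeRestrict g)) := by
    intro g g' h
    simp only [Prod.mk.injEq] at h
    obtain ⟨e1, e2⟩ := h
    have e1' : f₁ g = f₁ g' := congrArg Subtype.val e1
    have e2' : f₂ g = f₂ g' := congrArg Subtype.val e2
    apply Subtype.ext
    apply Equiv.ext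
    intro x
    by_cases hx : x ∈ s
    · have := congrArg (fun σ : Equiv.Perm s => ((σ ⟨x, hx⟩ : s) : α)) e1'
      exact this
    · have := congrArg (fun σ : Equiv.Perm ↥sᶜ => ((σ ⟨x, hx⟩ : ↥sᶜ) : α)) e2'
      exact this
  have hle := Nat.card_le_card_of_injective _ hinj
  rw [Nat.card_prod] at hle
  calc Nat.card N ≤ Nat.card f₁.range * Nat.card f₂.range := hle
    _ ≤ G (Nat.card s) * G (Nat.card ↥sᶜ) := Nat.mul_le_mul b1 b2
    _ ≤ G (Nat.card s + Nat.card ↥sᶜ) := hG.mul_le _ _
    _ = G k := by rw [hcard]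

theorem boundG_all {Ap : ℕ → Prop} {G : ℕ → ℕ} (hG : Good Ap G) : ∀ k, BoundG Ap G k := by
  intro k
  induction k using Nat.strong_induction_on with
  | _ k ih =>
  intro α _ hα N hN hAp
  by_cases hk : k ≤ 1
  · have h1 : Nat.card N ≤ Nat.card (Equiv.Perm α) := Subgroup.card_le_card_group N
    rw [Nat.card_perm, hα] at h1
    have : k.factorial = 1 := by interval_cases k <;> rfl
    rw [this] at h1
    exact h1.trans (hG.pos k)
  push Not at hk
  have hne : Nonempty α := by
    have : 0 < Nat.card α := by omega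
    exact (Nat.card_pos_iff.mp this).1
  obtain ⟨x⟩ := hne
  let s : Set α := {y | ∃ g ∈ N, (g : Equiv.Perm α) x = y}
  have hs : ∀ g ∈ N, ∀ y ∈ s, (g : Equiv.Perm α) y ∈ s := by
    rintro g hg y ⟨h, hh, rfl⟩
    exact ⟨g * h, N.mul_mem hg hh, rfl⟩
  have hxs : x ∈ s := ⟨1, N.one_mem, rfl⟩
  by_cases htr : s = Set.univ
  swap
  · exact intrans hG ih hα N hAp s hs ⟨x, hxs⟩ (Set.nonempty_compl.mpr htr)
  have htrans : ∀ y : α, ∃ g ∈ N, (g : Equiv.Perm α) x = y := by
    intro y
    have : y ∈ s := by rw [htr]; trivial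
    exact this
  by_cases hN1 : Nat.card N = 1
  · rw [hN1]; exact hG.pos k
  obtain ⟨p, hp, hpd⟩ := Nat.exists_prime_and_dvd hN1
  have hpF : Fact p.Prime := ⟨hp⟩
  let P : Sylow p N := default
  have hkdvd : k ∣ Nat.card N := by
    have h1 := MulAction.index_stabilizer N x
    have h2 : MulAction.orbit N x = Set.univ := by
      apply Set.eq_univ_iff_forall.mpr
      intro y
      obtain ⟨g, hg, rfl⟩ := htrans y
      exact ⟨⟨g, hg⟩, rfl⟩
    rw [h2, Set.ncard_univ, hα] at h1
    rw [← h1]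
    exact Subgroup.index_dvd_card _
  by_cases hPtop : (P : Subgroup N) = ⊤
  · -- p-group case
    obtain ⟨m, hm⟩ := IsPGroup.iff_card.mp P.2
    have hNm : Nat.card N = p ^ m := by
      rw [← hm, hPtop]; exact (Subgroup.card_top).symm
    rw [hNm] at hkdvd
    obtain ⟨a, -, rfl⟩ := (Nat.dvd_prime_pow hp).mp hkdvd
    have hdvd : Nat.card N ∣ (p ^ a).factorial := by
      have := Subgroup.card_subgroup_dvd_card N
      rwa [Nat.card_perm, hα] at this
    rw [hNm] at hdvd
    have hle := (hp.pow_dvd_iff_le_factorization (Nat.factorial_ne_zero _)).mp hdvd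
    rw [hNm]
    exact (Nat.pow_le_pow_right hp.pos hle).trans (hG.pbound p hp (hAp p hp hpd) a)
  · -- general transitive case
    obtain ⟨R, hR⟩ := Subgroup.exists_right_complement'_of_coprime (P.card_coprime_index)
    have hcomm := commute_compl p P R hR
    have hcardPR : Nat.card (P : Subgroup N) * Nat.card R = Nat.card N := hR.card_mul_card
    have hPidx : (P : Subgroup N).index = Nat.card R := hR.symm.index_eq_card
    have hcop : (Nat.card (P : Subgroup N)).Coprime (Nat.card R) := by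
      rw [← hPidx]; exact P.card_coprime_index
    have hdec : ∀ g : N, ∃ u ∈ (P : Subgroup N), ∃ v ∈ R, g = u * v := by
      intro g
      obtain ⟨⟨u, v⟩, huv⟩ := hR.2 g
      exact ⟨u.1, u.2, v.1, v.2, huv.symm⟩
    have hdec' : ∀ g : N, ∃ v ∈ R, ∃ u ∈ (P : Subgroup N), g = v * u := by
      intro g
      obtain ⟨u, hu, v, hv, h⟩ := hdec g
      exact ⟨v, hv, u, hu, by rw [h, hcomm u hu v hv]⟩
    -- stabilizer splitting
    have hF1 : ∀ u ∈ (P : Subgroup N), ∀ v ∈ R,
        ((u * v : N) : Equiv.Perm α) x = x → (u : Equiv.Perm α) x = x ∧ (v : Equiv.Perm α) x = x := by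
      intro u hu v hv h
      let S : Subgroup N := MulAction.stabilizer N x
      have huvS : u * v ∈ S := by
        rw [MulAction.mem_stabilizer_iff]; exact h
      have huS : u ∈ S := by
        apply mem_of_pow_mem S u _ _ hcop.symm
        · have h1 : (u * v) ^ Nat.card R = u ^ Nat.card R * v ^ Nat.card R :=
            (show Commute u v from hcomm u hu v hv).mul_pow _
          have h2 : v ^ Nat.card R = 1 := by
            have := pow_card_eq_one' (G := R) (x := ⟨v, hv⟩)
            exact congrArg Subtype.val this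
          rw [h2, mul_one] at h1
          rw [← h1]; exact S.pow_mem huvS _
        · have h2 : u ^ Nat.card (P : Subgroup N) = 1 := by
            have := pow_card_eq_one' (G := (P : Subgroup N)) (x := ⟨u, hu⟩)
            exact congrArg Subtype.val this
          rw [h2]; exact S.one_mem
      have hvS : v ∈ S := by
        have : v = u⁻¹ * (u * v) := by group
        rw [this]; exact S.mul_mem (S.inv_mem huS) huvS
      exact ⟨MulAction.mem_stabilizer_iff.mp huS, MulAction.mem_stabilizer_iff.mp hvS⟩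
    let A : Set α := {y | ∃ u ∈ (P : Subgroup N), ((u : N) : Equiv.Perm α) x = y}
    let B : Set α := {y | ∃ v ∈ R, ((v : N) : Equiv.Perm α) x = y}
    let φP : ↥(P : Subgroup N) →* Equiv.Perm α := N.subtype.comp (P : Subgroup N).subtype
    let φR : ↥R →* Equiv.Perm α := N.subtype.comp R.subtype
    have hA : ∀ g : ↥(P : Subgroup N), ∀ y ∈ A, φP g y ∈ A := by
      rintro g y ⟨u, hu, rfl⟩
      exact ⟨g.1 * u, (P : Subgroup N).mul_mem g.2 hu, rfl⟩
    have hB : ∀ g : ↥R, ∀ y ∈ B, φR g y ∈ B := by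
      rintro g y ⟨u, hu, rfl⟩
      exact ⟨g.1 * u, R.mul_mem g.2 hu, rfl⟩
    let fP := res φP A hA
    let fR := res φR B hB
    have hfP : Function.Injective fP := by
      rw [injective_iff_map_eq_one]
      intro u hu1
      apply Subtype.ext
      apply Subtype.ext
      apply Equiv.ext
      intro y
      obtain ⟨g, hg, rfl⟩ := htrans y
      obtain ⟨v, hv, u', hu', hgd⟩ := hdec' ⟨g, hg⟩
      have hg' : g = (v : Equiv.Perm α) * (u' : Equiv.Perm α) := by
        have := congrArg Subtype.val hgd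
        simpa using this
      have hfix : (u.1 : Equiv.Perm α) ((u' : Equiv.Perm α) x) = (u' : Equiv.Perm α) x := by
        have := congrArg (fun σ : Equiv.Perm A => ((σ ⟨(u' : Equiv.Perm α) x, ⟨u', hu', rfl⟩⟩ : A) : α)) hu1
        exact this
      have hc : ((u.1 : N) : Equiv.Perm α) * (v : Equiv.Perm α) = (v : Equiv.Perm α) * ((u.1 : N) : Equiv.Perm α) := by
        have := congrArg Subtype.val (hcomm u.1 u.2 v hv)
        simpa using this
      show ((u.1 : N) : Equiv.Perm α) (g x) = g x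
      rw [hg']
      show (((u.1 : N) : Equiv.Perm α) * (v : Equiv.Perm α)) ((u' : Equiv.Perm α) x) = _
      rw [hc]
      show (v : Equiv.Perm α) (((u.1 : N) : Equiv.Perm α) ((u' : Equiv.Perm α) x)) = _
      rw [hfix]; rfl
    have hfR : Function.Injective fR := by
      rw [injective_iff_map_eq_one]
      intro w hw1
      apply Subtype.ext
      apply Subtype.ext
      apply Equiv.ext
      intro y
      obtain ⟨g, hg, rfl⟩ := htrans y
      obtain ⟨u, hu, v', hv', hgd⟩ := hdec ⟨g, hg⟩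
      have hg' : g = (u : Equiv.Perm α) * (v' : Equiv.Perm α) := by
        have := congrArg Subtype.val hgd
        simpa using this
      have hfix : (w.1 : Equiv.Perm α) ((v' : Equiv.Perm α) x) = (v' : Equiv.Perm α) x := by
        have := congrArg (fun σ : Equiv.Perm B => ((σ ⟨(v' : Equiv.Perm α) x, ⟨v', hv', rfl⟩⟩ : B) : α)) hw1
        exact this
      have hc : ((w.1 : N) : Equiv.Perm α) * (u : Equiv.Perm α) = (u : Equiv.Perm α) * ((w.1 : N) : Equiv.Perm α) := by
        have := congrArg Subtype.val (hcomm u hu w.1 w.2)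
        simpa using this.symm
      show ((w.1 : N) : Equiv.Perm α) (g x) = g x
      rw [hg']
      show (((w.1 : N) : Equiv.Perm α) * (u : Equiv.Perm α)) ((v' : Equiv.Perm α) x) = _
      rw [hc]
      show (u : Equiv.Perm α) (((w.1 : N) : Equiv.Perm α) ((v' : Equiv.Perm α) x)) = _
      rw [hfix]; rfl
    -- nontriviality
    have hP1 : Nat.card (P : Subgroup N) ≠ 1 := by
      intro h
      exact P.ne_bot_of_dvd_card hpd (Subgroup.card_eq_one.mp h)
    have hR1 : Nat.card R ≠ 1 := by
      rw [← hPidx]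
      intro h
      exact hPtop (Subgroup.index_eq_one.mp h)
    have hxA : x ∈ A := ⟨1, (P : Subgroup N).one_mem, rfl⟩
    have hxB : x ∈ B := ⟨1, R.one_mem, rfl⟩
    -- moving elements
    have hmovP : ∃ u ∈ (P : Subgroup N), ((u : N) : Equiv.Perm α) x ≠ x := by
      by_contra hcon
      push Not at hcon
      apply hP1
      have hsub : Subsingleton A := by
        constructor
        rintro ⟨y, u, hu, rfl⟩ ⟨y', u', hu', rfl⟩
        apply Subtype.ext
        show (u : Equiv.Perm α) x = (u' : Equiv.Perm α) x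
        rw [hcon u hu, hcon u' hu']
      have h1 : Nat.card ↥(P : Subgroup N) ≤ Nat.card (Equiv.Perm A) :=
        Nat.card_le_card_of_injective fP hfP
      have h2 : Nat.card (Equiv.Perm A) = 1 := by
        rw [Nat.card_eq_one_iff_unique]
        exact ⟨inferInstance, ⟨1⟩⟩
      have h3 : 0 < Nat.card ↥(P : Subgroup N) := Nat.card_pos
      omega
    have hmovR : ∃ v ∈ R, ((v : N) : Equiv.Perm α) x ≠ x := by
      by_contra hcon
      push Not at hcon
      apply hR1
      have hsub : Subsingleton B := by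
        constructor
        rintro ⟨y, u, hu, rfl⟩ ⟨y', u', hu', rfl⟩
        apply Subtype.ext
        show (u : Equiv.Perm α) x = (u' : Equiv.Perm α) x
        rw [hcon u hu, hcon u' hu']
      have h1 : Nat.card ↥R ≤ Nat.card (Equiv.Perm B) :=
        Nat.card_le_card_of_injective fR hfR
      have h2 : Nat.card (Equiv.Perm B) = 1 := by
        rw [Nat.card_eq_one_iff_unique]
        exact ⟨inferInstance, ⟨1⟩⟩
      have h3 : 0 < Nat.card ↥R := Nat.card_pos
      omega
    obtain ⟨u₀, hu₀, hu₀x⟩ := hmovP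
    obtain ⟨v₀, hv₀, hv₀x⟩ := hmovR
    -- counting
    have hAB : A ∩ B ⊆ {x} := by
      rintro y ⟨⟨u, hu, rfl⟩, ⟨v, hv, hv2⟩⟩
      have h1 : ((u⁻¹ * v : N) : Equiv.Perm α) x = x := by
        show (u : Equiv.Perm α)⁻¹ ((v : Equiv.Perm α) x) = x
        rw [hv2]; simp
      have h2 := (hF1 u⁻¹ ((P : Subgroup N).inv_mem hu) v hv h1).2
      rw [Set.mem_singleton_iff, ← hv2]; exact h2
    let c : α := ((u₀ * v₀ : N) : Equiv.Perm α) x
    have hcA : c ∉ A := by
      rintro ⟨u, hu, hu2⟩
      have h1 : ((u⁻¹ * u₀ * v₀ : N) : Equiv.Perm α) x = x := by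
        show (u : Equiv.Perm α)⁻¹ (((u₀ * v₀ : N) : Equiv.Perm α) x) = x
        show (u : Equiv.Perm α)⁻¹ c = x
        rw [← hu2]; simp
      exact hv₀x (hF1 (u⁻¹ * u₀) ((P : Subgroup N).mul_mem ((P : Subgroup N).inv_mem hu) hu₀) v₀ hv₀ h1).2
    have hcB : c ∉ B := by
      rintro ⟨v, hv, hv2⟩
      have h0 : u₀ * (v⁻¹ * v₀) = v⁻¹ * (u₀ * v₀) := by
        rw [← mul_assoc, hcomm u₀ hu₀ v⁻¹ (R.inv_mem hv), mul_assoc]
      have h1 : ((u₀ * (v⁻¹ * v₀) : N) : Equiv.Perm α) x = x := by
        rw [h0]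
        show (v : Equiv.Perm α)⁻¹ c = x
        rw [← hv2]; simp
      exact hu₀x (hF1 u₀ hu₀ (v⁻¹ * v₀) (R.mul_mem (R.inv_mem hv) hv₀) h1).1
    have hcount : A.ncard + B.ncard ≤ k := by
      have e1 := Set.ncard_union_add_ncard_inter A B
      have e2 : (A ∩ B).ncard ≤ 1 := by
        have := Set.ncard_le_ncard hAB
        simpa using this
      have hcAB : c ∉ A ∪ B := by
        rintro (h | h)
        · exact hcA h
        · exact hcB h
      have e3 := Set.ncard_insert_of_notMem hcAB
      have e4 := Set.ncard_le_card (insert c (A ∪ B))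
      rw [hα] at e4
      omega
    have hA2 : 2 ≤ A.ncard := by
      have : ({x, ((u₀ : N) : Equiv.Perm α) x} : Set α) ⊆ A := by
        rintro y (rfl | rfl)
        · exact hxA
        · exact ⟨u₀, hu₀, rfl⟩
      have h1 := Set.ncard_le_ncard this
      rw [Set.ncard_pair (Ne.symm hu₀x)] at h1
      exact h1
    have hB2 : 2 ≤ B.ncard := by
      have : ({x, ((v₀ : N) : Equiv.Perm α) x} : Set α) ⊆ B := by
        rintro y (rfl | rfl)
        · exact hxB
        · exact ⟨v₀, hv₀, rfl⟩
      have h1 := Set.ncard_le_ncard this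
      rw [Set.ncard_pair (Ne.symm hv₀x)] at h1
      exact h1
    have hcA' : Nat.card A = A.ncard := Nat.card_coe_set_eq A
    have hcB' : Nat.card B = B.ncard := Nat.card_coe_set_eq B
    have bP : Nat.card ↥(P : Subgroup N) ≤ G (Nat.card A) := inj_le ih (primesIn_of_dvd (Subgroup.card_subgroup_dvd_card _) hAp) fP hfP (by omega)
    have bR : Nat.card ↥R ≤ G (Nat.card B) := inj_le ih (primesIn_of_dvd (Subgroup.card_subgroup_dvd_card _) hAp) fR hfR (by omega)
    calc Nat.card N = Nat.card (P : Subgroup N) * Nat.card R := hcardPR.symm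
      _ ≤ G (Nat.card A) * G (Nat.card B) := Nat.mul_le_mul bP bR
      _ ≤ G (Nat.card A + Nat.card B) := hG.mul_le _ _
      _ ≤ G k := hG.mono _ _ (by omega)

end Cfsg.Agent.Lib.Helper8.NilGen
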