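import Mathlib
import Cfsg.Agent.Lib.Helper8.NilNum
import Cfsg.Agent.Lib.Helper8.NilPerm

set_option autoImplicit false

namespace Cfsg.Agent.Lib.Helper8.SylMax

open Cfsg.Agent.Lib.Helper8.NilNum Cfsg.Agent.Lib.Helper8.NilPerm

theorem ee_lt : ∀ m : ℕ, 1 ≤ m → ee m + 1 ≤ m := by
  intro m
  induction m using Nat.strong_induction_on with
  | _ m ih =>
    intro hm
    rcases Nat.even_or_odd' m with ⟨j, rfl | rfl⟩
    · have hj : 1 ≤ j := by omega
      have := ih j (by omega) hj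
      rw [ee_two_mul]; omega
    · rw [ee_two_mul_add_one]
      rcases Nat.eq_zero_or_pos j with rfl | hj
      · simp [ee]
      · have := ih j (by omega) hj
        rw [ee_two_mul]; omega

theorem ee_pow (k : ℕ) : ee (2 ^ k) + 1 = 2 ^ k := by
  induction k with
  | zero => simp [ee]
  | succ k ih => rw [pow_succ, mul_comm, ee_two_mul]; omega

theorem two_pow_eq (k : ℕ) (hk : 1 ≤ k) : 2 ^ k = 2 * 2 ^ (k - 1) := by
  have : k = (k - 1) + 1 := by omega
  conv_lhs => rw [this]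
  rw [pow_succ]; ring

theorem ee_pow_succ (k : ℕ) (hk : 1 ≤ k) : ee (2 ^ k + 1) = ee (2 ^ k) := by
  rw [two_pow_eq k hk]; exact ee_two_mul_add_one _

/-- a subgroup preserving two sets and fixing all other points has order dividing `a! b!` -/
theorem card_dvd_of_invariant {α : Type} [Finite α] (Q : Subgroup (Equiv.Perm α)) (s t : Set α)
    (hs : ∀ g ∈ Q, ∀ x ∈ s, g x ∈ s) (ht : ∀ g ∈ Q, ∀ x ∈ t, g x ∈ t)
    (hfix : ∀ g ∈ Q, ∀ x, x ∉ s → x ∉ t → g x = x) :
    Nat.card Q ∣ (Nat.card s).factorial * (Nat.card t).factorial := by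
  classical
  let φ : Q →* Equiv.Perm α := Q.subtype
  let r1 : Q →* Equiv.Perm s := res φ s (fun g x hx => hs g.1 g.2 x hx)
  let r2 : Q →* Equiv.Perm t := res φ t (fun g x hx => ht g.1 g.2 x hx)
  let ψ : Q →* Equiv.Perm s × Equiv.Perm t := r1.prod r2
  have hinj : Function.Injective ψ := by
    rw [injective_iff_map_eq_one]
    intro g hg
    have h1 : r1 g = 1 := congrArg Prod.fst hg
    have h2 : r2 g = 1 := congrArg Prod.snd hg
    apply Subtype.ext
    apply Equiv.ext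
    intro x
    show (g : Equiv.Perm α) x = x
    by_cases hxs : x ∈ s
    · have e1 : ((r1 g) ⟨x, hxs⟩ : α) = (g : Equiv.Perm α) x := rfl
      rw [h1] at e1
      exact e1.symm
    · by_cases hxt : x ∈ t
      · have e1 : ((r2 g) ⟨x, hxt⟩ : α) = (g : Equiv.Perm α) x := rfl
        rw [h2] at e1
        exact e1.symm
      · exact hfix g.1 g.2 x hxs hxt
  have hc : Nat.card Q = Nat.card ψ.range :=
    Nat.card_congr (MonoidHom.ofInjective hinj).toEquiv
  rw [hc]
  have hd := Subgroup.card_subgroup_dvd_card ψ.range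
  rw [Nat.card_prod, Nat.card_perm, Nat.card_perm] at hd
  exact hd

theorem sylow_perm_card (n : ℕ) (P : Sylow 2 (Equiv.Perm (Fin n))) :
    Nat.card P = 2 ^ ee n := by
  have : Fact (Nat.Prime 2) := ⟨Nat.prime_two⟩
  rw [Sylow.card_eq_multiplicity, Nat.card_perm, Nat.card_fin]
  rfl

theorem sylow_conj_mem {G : Type*} [Group G] [Finite G] (P : Sylow 2 G) (Q : Subgroup G)
    (hQ : IsPGroup 2 Q) : ∃ g : G, ∀ x ∈ Q, g * x * g⁻¹ ∈ (P : Subgroup G) := by
  have : Fact (Nat.Prime 2) := ⟨Nat.prime_two⟩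
  obtain ⟨P₀, hP₀⟩ := hQ.exists_le_sylow
  obtain ⟨g, hg⟩ := MulAction.exists_smul_eq G P₀ P
  refine ⟨g, fun x hx => ?_⟩
  rw [← hg, Sylow.coe_subgroup_smul, Subgroup.mem_pointwise_smul_iff_inv_smul_mem]
  have e : (MulAut.conj g)⁻¹ • (g * x * g⁻¹) = x := by
    rw [← map_inv, MulAut.smul_def, MulAut.conj_apply]
    group
  rw [e]
  exact hP₀ hx

theorem isPGroup_of_sq {G : Type*} [Group G] (Q : Subgroup G) (h : ∀ x ∈ Q, x * x = 1) :
    IsPGroup 2 Q := by
  intro x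
  refine ⟨1, ?_⟩
  apply Subtype.ext
  show (x : G) ^ 2 ^ 1 = 1
  rw [pow_one, pow_two]
  exact h x.1 x.2

theorem sq_of_closure {G : Type*} [Group G] (S : Set G) (hS : ∀ x ∈ S, x * x = 1)
    (hc : ∀ x ∈ S, ∀ y ∈ S, x * y = y * x) :
    ∀ x ∈ Subgroup.closure S, x * x = 1 := by
  have comm : ∀ x ∈ Subgroup.closure S, ∀ y ∈ Subgroup.closure S, x * y = y * x := by
    intro x hx y hy
    have h1 : Subgroup.closure S ≤ Subgroup.centralizer S := by
      rw [Subgroup.closure_le]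
      intro a ha
      rw [SetLike.mem_coe, Subgroup.mem_centralizer_iff]
      intro b hb
      exact hc b hb a ha
    have h2 : Subgroup.closure S ≤ Subgroup.centralizer (Subgroup.closure S : Set G) := by
      rw [Subgroup.closure_le]
      intro a ha
      rw [SetLike.mem_coe, Subgroup.mem_centralizer_iff]
      intro b hb
      have := h1 hb
      rw [Subgroup.mem_centralizer_iff] at this
      exact (this a ha).symm
    have := h2 hx
    rw [Subgroup.mem_centralizer_iff] at this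
    exact (this y hy).symm
  intro x hx
  induction hx using Subgroup.closure_induction with
  | mem x hx => exact hS x hx
  | one => simp
  | mul x y hx hy ihx ihy =>
    calc x * y * (x * y) = x * (y * x) * y := by group
      _ = x * (x * y) * y := by rw [comm y hy x hx]
      _ = (x * x) * (y * y) := by group
      _ = 1 := by rw [ihx, ihy, one_mul]
  | inv x hx ih =>
    have : x⁻¹ * x⁻¹ = (x * x)⁻¹ := by group
    rw [this, ih, inv_one]

theorem fixed_point_of_odd {n : ℕ} (hn : Odd n) (Q : Subgroup (Equiv.Perm (Fin n)))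
    (hQ : IsPGroup 2 Q) : ∃ x₀ : Fin n, ∀ g ∈ Q, g x₀ = x₀ := by
  have : Fact (Nat.Prime 2) := ⟨Nat.prime_two⟩
  have h := hQ.nonempty_fixed_point_of_prime_not_dvd_card (Fin n) (by
    rw [Nat.card_fin]; obtain ⟨j, hj⟩ := hn; omega)
  obtain ⟨x₀, hx₀⟩ := h
  refine ⟨x₀, fun g hg => ?_⟩
  exact hx₀ ⟨g, hg⟩

theorem exists_not_mem {n : ℕ} (F : Finset (Fin n)) (h : F.card < n) : ∃ w, w ∉ F := by
  by_contra hcon
  push Not at hcon
  have : F = Finset.univ := Finset.eq_univ_iff_forall.mpr hcon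
  rw [this, Finset.card_univ, Fintype.card_fin] at h
  exact lt_irrefl _ h

/-- a Sylow 2-subgroup of the symmetric group of degree `2^k+1` is transitive off its fixed point -/
theorem sylow_trans (k : ℕ) (hk : 1 ≤ k) (P : Sylow 2 (Equiv.Perm (Fin (2 ^ k + 1))))
    (x₀ : Fin (2 ^ k + 1))
    (hx₀ : ∀ g ∈ (P : Subgroup (Equiv.Perm (Fin (2 ^ k + 1)))), g x₀ = x₀)
    (y y' : Fin (2 ^ k + 1)) (hy : y ≠ x₀) (hy' : y' ≠ x₀) :
    ∃ p ∈ (P : Subgroup (Equiv.Perm (Fin (2 ^ k + 1)))), p y = y' := by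
  by_contra hcon
  push Not at hcon
  obtain ⟨Q, hQ⟩ : ∃ Q : Subgroup (Equiv.Perm (Fin (2 ^ k + 1))), Q = P := ⟨_, rfl⟩
  rw [← hQ] at hcon hx₀
  let s : Set (Fin (2 ^ k + 1)) := {w | ∃ p ∈ Q, p y = w}
  let t : Set (Fin (2 ^ k + 1)) := {w | w ≠ x₀ ∧ w ∉ s}
  have hx₀s : x₀ ∉ s := by
    rintro ⟨p, hp, hpy⟩
    apply hy
    have := hx₀ p hp
    exact p.injective (hpy.trans this.symm)
  have hs : ∀ g ∈ Q, ∀ x ∈ s, g x ∈ s := by
    rintro g hg x ⟨p, hp, rfl⟩
    exact ⟨g * p, Q.mul_mem hg hp, rfl⟩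
  have ht : ∀ g ∈ Q, ∀ x ∈ t, g x ∈ t := by
    rintro g hg x ⟨hx1, hx2⟩
    refine ⟨fun h => hx1 (g.injective (h.trans (hx₀ g hg).symm)), ?_⟩
    rintro ⟨p, hp, hpy⟩
    apply hx2
    refine ⟨g⁻¹ * p, Q.mul_mem (Q.inv_mem hg) hp, ?_⟩
    show g⁻¹ (p y) = x
    rw [hpy]; simp
  have hfix : ∀ g ∈ Q, ∀ x, x ∉ s → x ∉ t → g x = x := by
    intro g hg x hxs hxt
    have : x = x₀ := by
      by_contra hne
      exact hxt ⟨hne, hxs⟩
    rw [this]; exact hx₀ g hg
  have hdvd := card_dvd_of_invariant Q s t hs ht hfix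
  have hcard : Nat.card Q = 2 ^ ee (2 ^ k + 1) := by rw [hQ]; exact sylow_perm_card _ P
  rw [hcard] at hdvd
  have hys : y ∈ s := ⟨1, Q.one_mem, rfl⟩
  have hy't : y' ∈ t := ⟨hy', fun ⟨p, hp, hpy⟩ => hcon p hp hpy⟩
  have ha : 1 ≤ Nat.card s := by
    rw [Nat.card_coe_set_eq]
    exact (Set.ncard_pos (Set.toFinite _)).mpr ⟨y, hys⟩
  have hb : 1 ≤ Nat.card t := by
    rw [Nat.card_coe_set_eq]
    exact (Set.ncard_pos (Set.toFinite _)).mpr ⟨y', hy't⟩
  have hsum : Nat.card s + Nat.card t + 1 = 2 ^ k + 1 := by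
    rw [Nat.card_coe_set_eq, Nat.card_coe_set_eq]
    have h1 := Set.ncard_add_ncard_compl s
    rw [Nat.card_fin] at h1
    have h2 : t = sᶜ \ {x₀} := by
      ext w
      simp only [t, Set.mem_ofPred_eq, Set.mem_sdiff, Set.mem_compl_iff, Set.mem_singleton_iff]
      tauto
    have h3 : (sᶜ \ {x₀}).ncard = sᶜ.ncard - 1 := Set.ncard_sdiff_singleton_of_mem hx₀s
    have h4 : 1 ≤ sᶜ.ncard := (Set.ncard_pos (Set.toFinite _)).mpr ⟨x₀, hx₀s⟩
    rw [h2, h3]; omega
  have e1 := ee_pow_succ k hk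
  have e2 := ee_pow k
  have e3 := ee_lt _ ha
  have e4 := ee_lt _ hb
  have hfac : ee (2 ^ k + 1) ≤ ee (Nat.card s) + ee (Nat.card t) := by
    have hne : (Nat.card s).factorial * (Nat.card t).factorial ≠ 0 :=
      mul_ne_zero (Nat.factorial_ne_zero _) (Nat.factorial_ne_zero _)
    have := (Nat.Prime.pow_dvd_iff_le_factorization Nat.prime_two hne).mp hdvd
    rw [Nat.factorization_mul (Nat.factorial_ne_zero _) (Nat.factorial_ne_zero _)] at this
    exact this
  omega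

end Cfsg.Agent.Lib.Helper8.SylMax
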