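import Mathlib
import Cfsg.Agent.Lib.Helper8.NilPerm3
import Cfsg.Agent.Lib.Helper8.SylMaxA

set_option autoImplicit false

namespace Cfsg.Agent.Lib.Helper8.SelfNorm

open Cfsg.Agent.Lib.Helper8.NilNum Cfsg.Agent.Lib.Helper8.SylMax

variable {α : Type} [DecidableEq α]

theorem inv_app (g : Equiv.Perm α) (x : α) : g⁻¹ (g x) = x := by simp

theorem app_inv (g : Equiv.Perm α) (x : α) : g (g⁻¹ x) = x := by simp

theorem conj_swap (g : Equiv.Perm α) (a b : α) :
    g * Equiv.swap a b * g⁻¹ = Equiv.swap (g a) (g b) := by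
  rw [Equiv.mul_swap_eq_swap_mul g a b]; simp

/-- in a 2-group of permutations, a point lies in at most one transposition -/
theorem sib_unique [Finite α] (P : Subgroup (Equiv.Perm α)) (hP : IsPGroup 2 P) {a b d : α}
    (hab : a ≠ b) (had : a ≠ d) (h1 : Equiv.swap a b ∈ P) (h2 : Equiv.swap a d ∈ P) : b = d := by
  classical
  have : Fintype α := Fintype.ofFinite α
  by_contra hbd
  have h3 : (Equiv.swap a b * Equiv.swap a d).IsThreeCycle :=
    Equiv.Perm.isThreeCycle_swap_mul_swap_same hab had hbd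
  obtain ⟨k, hk⟩ := hP ⟨_, P.mul_mem h1 h2⟩
  have hk' : (Equiv.swap a b * Equiv.swap a d) ^ 2 ^ k = 1 := congrArg Subtype.val hk
  have hd := orderOf_dvd_of_pow_eq_one hk'
  have h3o : orderOf (Equiv.swap a b * Equiv.swap a d) = 3 := by
    convert h3.orderOf
  rw [h3o] at hd
  have := Nat.Prime.dvd_of_dvd_pow Nat.prime_three hd
  omega

theorem fix_of_conj (h : Equiv.Perm α) (a b : α) (hab : a ≠ b)
    (hc : h * Equiv.swap a b * h⁻¹ = Equiv.swap a b) :
    (h a = a ∧ h b = b) ∨ (h a = b ∧ h b = a) := by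
  rw [conj_swap] at hc
  have e := congrArg (fun f : Equiv.Perm α => f (h a)) hc
  simp only [Equiv.swap_apply_left] at e
  by_cases h1 : h a = a
  · left
    rw [h1, Equiv.swap_apply_left] at e
    exact ⟨h1, e⟩
  · by_cases h2 : h a = b
    · right
      rw [h2, Equiv.swap_apply_right] at e
      exact ⟨h2, e⟩
    · exfalso
      rw [Equiv.swap_apply_of_ne_of_ne h1 h2] at e
      exact hab (h.injective e).symm

theorem swap_form {t : Equiv.Perm α} (ht : t.IsSwap) {x : α} (hx : t x ≠ x) :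
    ∃ y, y ≠ x ∧ t = Equiv.swap x y := by
  obtain ⟨a, b, hab, rfl⟩ := ht
  by_cases hxa : x = a
  · exact ⟨b, fun h => hab (hxa ▸ h.symm), by rw [hxa]⟩
  · by_cases hxb : x = b
    · exact ⟨a, fun h => hab (hxb ▸ h), by rw [hxb, Equiv.swap_comm]⟩
    · exact absurd (Equiv.swap_apply_of_ne_of_ne hxa hxb) hx

/-- `x` lies in a transposition of `P` -/
def Matched (P : Subgroup (Equiv.Perm α)) (x : α) : Prop :=
  ∃ b, b ≠ x ∧ Equiv.swap x b ∈ P

/-- `g` maps transpositions of `P` to transpositions of `P` -/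
def Pres (P : Subgroup (Equiv.Perm α)) (g : Equiv.Perm α) : Prop :=
  ∀ a b : α, a ≠ b → Equiv.swap a b ∈ P → Equiv.swap (g a) (g b) ∈ P

theorem pres_of_mem (P : Subgroup (Equiv.Perm α)) {g : Equiv.Perm α}
    (hg : ∀ p ∈ P, g * p * g⁻¹ ∈ P) : Pres P g := by
  intro a b _ h
  have := hg _ h
  rw [conj_swap] at this
  exact this

theorem matched_of_pres (P : Subgroup (Equiv.Perm α)) {g : Equiv.Perm α} (hg : Pres P g) {x : α}
    (hx : Matched P x) : Matched P (g x) := by
  obtain ⟨b, hb, h⟩ := hx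
  exact ⟨g b, fun e => hb (g.injective e), hg x b (Ne.symm hb) h⟩

/-- a Sylow 2-subgroup of a symmetric group has at most one point outside its transpositions -/
theorem unmatched_unique [Finite α] (P : Subgroup (Equiv.Perm α)) (hP : IsPGroup 2 P)
    (hcard : Nat.card P = 2 ^ ee (Nat.card α)) (x y : α) (hx : ¬ Matched P x)
    (hy : ¬ Matched P y) : x = y := by
  classical
  have hp2 : Fact (Nat.Prime 2) := ⟨Nat.prime_two⟩
  obtain ⟨n, hn⟩ : ∃ n, n = Nat.card α := ⟨_, rfl⟩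
  have e : α ≃ Fin n := hn ▸ Finite.equivFin α
  have hS : Nat.card P = 2 ^ (Nat.card (Equiv.Perm α)).factorization 2 := by
    rw [hcard, Nat.card_perm]; rfl
  have hne : ∀ (a b : ℕ) (ha : a < n) (hb : b < n), a ≠ b →
      e.symm ⟨a, ha⟩ ≠ e.symm ⟨b, hb⟩ :=
    fun a b ha hb hab h => hab (congrArg Fin.val (e.symm.injective h))
  obtain ⟨gens, hgens⟩ : ∃ gens : Set (Equiv.Perm α), gens = {s | ∃ (i : ℕ) (h : 2 * i + 1 < n),
      s = Equiv.swap (e.symm ⟨2 * i, by omega⟩) (e.symm ⟨2 * i + 1, h⟩)} := ⟨_, rfl⟩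
  have hsq : ∀ x ∈ Subgroup.closure gens, x * x = 1 := by
    apply sq_of_closure
    · intro s hs
      rw [hgens] at hs
      obtain ⟨i, h, rfl⟩ := hs
      exact Equiv.swap_mul_self _ _
    · intro s hs t ht
      rw [hgens] at hs ht
      obtain ⟨i, hi, rfl⟩ := hs
      obtain ⟨j, hj, rfl⟩ := ht
      by_cases hij : i = j
      · subst hij; rfl
      · exact (Equiv.Perm.disjoint_swap_swap (by
          simp [hne _ _ _ _ (show 2 * i ≠ 2 * i + 1 by omega),
            hne _ _ _ _ (show 2 * i ≠ 2 * j by omega),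
            hne _ _ _ _ (show 2 * i ≠ 2 * j + 1 by omega),
            hne _ _ _ _ (show 2 * i + 1 ≠ 2 * j by omega),
            hne _ _ _ _ (show 2 * i + 1 ≠ 2 * j + 1 by omega),
            hne _ _ _ _ (show 2 * j ≠ 2 * j + 1 by omega)])).commute.eq
  obtain ⟨g, hg⟩ := sylow_conj_mem (Sylow.ofCard P hS) _ (isPGroup_of_sq _ hsq)
  have hg' : ∀ s ∈ gens, g * s * g⁻¹ ∈ P := fun s hs => hg s (Subgroup.subset_closure hs)
  have key : ∀ a : α, ¬ Matched P a → (e (g⁻¹ a)).val + 1 = n := by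
    intro a ha
    by_contra hcon
    apply ha
    have hi : (e (g⁻¹ a)).val < n := (e (g⁻¹ a)).isLt
    rcases Nat.even_or_odd' (e (g⁻¹ a)).val with ⟨j, hj | hj⟩
    · have h1 : 2 * j + 1 < n := by omega
      have hmem := hg' _ (by rw [hgens]; exact ⟨j, h1, rfl⟩)
      rw [conj_swap] at hmem
      have e1 : e.symm ⟨2 * j, by omega⟩ = g⁻¹ a := by
        have : (⟨2 * j, by omega⟩ : Fin n) = e (g⁻¹ a) := Fin.ext hj.symm
        rw [this, Equiv.symm_apply_apply]
      rw [e1] at hmem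
      have e2 : g (g⁻¹ a) = a := by simp
      rw [e2] at hmem
      refine ⟨_, ?_, hmem⟩
      intro h
      have h' := congrArg (g⁻¹ : Equiv.Perm α) h
      rw [inv_app, ← e1] at h'
      exact hne _ _ _ _ (show 2 * j + 1 ≠ 2 * j by omega) h'
    · have h1 : 2 * j + 1 < n := by omega
      have hmem := hg' _ (by rw [hgens]; exact ⟨j, h1, rfl⟩)
      rw [conj_swap] at hmem
      have e1 : e.symm ⟨2 * j + 1, h1⟩ = g⁻¹ a := by
        have : (⟨2 * j + 1, h1⟩ : Fin n) = e (g⁻¹ a) := Fin.ext hj.symm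
        rw [this, Equiv.symm_apply_apply]
      rw [e1] at hmem
      have e2 : g (g⁻¹ a) = a := by simp
      rw [e2, Equiv.swap_comm] at hmem
      refine ⟨_, ?_, hmem⟩
      intro h
      have h' := congrArg (g⁻¹ : Equiv.Perm α) h
      rw [inv_app, ← e1] at h'
      exact hne _ _ _ _ (show 2 * j ≠ 2 * j + 1 by omega) h'
  have kx := key x hx
  have ky := key y hy
  have h1 : e (g⁻¹ x) = e (g⁻¹ y) := Fin.ext (by omega)
  have h2 := e.injective h1
  exact (g⁻¹ : Equiv.Perm α).injective h2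

theorem fix_unmatched [Finite α] (P : Subgroup (Equiv.Perm α)) (hP : IsPGroup 2 P)
    (hcard : Nat.card P = 2 ^ ee (Nat.card α)) (g : Equiv.Perm α) (hg : Pres P g⁻¹) (x : α)
    (hx : ¬ Matched P x) : g x = x := by
  apply unmatched_unique P hP hcard
  · intro h
    have := matched_of_pres P hg h
    rw [inv_app] at this
    exact hx this
  · exact hx

/-- the transpositions of `P` -/
abbrev TT (P : Subgroup (Equiv.Perm α)) : Type := {t : Equiv.Perm α // t ∈ P ∧ t.IsSwap}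

/-- conjugation action on the transpositions of `P` -/
@[reducible] def actT (P N : Subgroup (Equiv.Perm α)) (hN : ∀ g ∈ N, Pres P g) :
    MulAction N (TT P) where
  smul g t := ⟨g.1 * t.1 * g.1⁻¹, by
    obtain ⟨ht, a, b, hab, he⟩ := t.2
    rw [he, conj_swap]
    exact ⟨hN g.1 g.2 a b hab (he ▸ ht), g.1 a, g.1 b, fun e => hab (g.1.injective e), rfl⟩⟩
  one_smul t := Subtype.ext (by
    show (1 : Equiv.Perm α) * t.1 * (1 : Equiv.Perm α)⁻¹ = t.1
    simp)
  mul_smul g h t := Subtype.ext (by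
    show (g.1 * h.1) * t.1 * (g.1 * h.1)⁻¹ = g.1 * (h.1 * t.1 * h.1⁻¹) * g.1⁻¹
    group)

/-- the permutation representation on the transpositions of `P` -/
def phiT (P N : Subgroup (Equiv.Perm α)) (hN : ∀ g ∈ N, Pres P g) :
    N →* Equiv.Perm (TT P) :=
  @MulAction.toPermHom N (TT P) _ (actT P N hN)

theorem phiT_apply (P N : Subgroup (Equiv.Perm α)) (hN : ∀ g ∈ N, Pres P g) (g : N)
    (t : TT P) : ((phiT P N hN g) t : Equiv.Perm α) = g.1 * t.1 * g.1⁻¹ := rfl

/-- kernel elements are involutions -/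
theorem ker_sq [Finite α] (P N : Subgroup (Equiv.Perm α)) (hP : IsPGroup 2 P)
    (hcard : Nat.card P = 2 ^ ee (Nat.card α)) (hN : ∀ g ∈ N, Pres P g) (g : N)
    (hg : phiT P N hN g = 1) : g.1 * g.1 = 1 := by
  apply Equiv.ext
  intro x
  show g.1 (g.1 x) = x
  by_cases hx : Matched P x
  · obtain ⟨b, hb, hsw⟩ := hx
    have h1 := phiT_apply P N hN g ⟨Equiv.swap x b, hsw, x, b, Ne.symm hb, rfl⟩
    rw [hg] at h1
    have h2 : g.1 * Equiv.swap x b * g.1⁻¹ = Equiv.swap x b := h1.symm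
    rcases fix_of_conj g.1 x b (Ne.symm hb) h2 with ⟨e1, _⟩ | ⟨e1, e2⟩
    · rw [e1, e1]
    · rw [e1, e2]
  · have hfix := fix_unmatched P hP hcard g.1 (hN _ (N.inv_mem g.2)) x hx
    rw [hfix, hfix]

end Cfsg.Agent.Lib.Helper8.SelfNorm
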