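import Mathlib
import Cfsg.Agent.Lib.Helper8.SelfNormA

set_option autoImplicit false
set_option linter.unusedVariables false
set_option linter.unusedSectionVars false

namespace Cfsg.Agent.Lib.Helper8.SelfNorm

open Cfsg.Agent.Lib.Helper8.NilNum Cfsg.Agent.Lib.Helper8.SylMax Cfsg.Agent.Lib.Helper8.NilPerm3

variable {α : Type} [DecidableEq α]

/-- restriction of `phiT` to `P` -/
def psiT (P N : Subgroup (Equiv.Perm α)) (hN : ∀ g ∈ N, Pres P g) (hPN : P ≤ N) :
    P →* Equiv.Perm (TT P) :=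
  (phiT P N hN).comp (Subgroup.inclusion hPN)

theorem psiT_apply (P N : Subgroup (Equiv.Perm α)) (hN : ∀ g ∈ N, Pres P g) (hPN : P ≤ N)
    (p : P) (t : TT P) : ((psiT P N hN hPN p) t : Equiv.Perm α) = p.1 * t.1 * p.1⁻¹ := rfl

theorem ker_card_le [Finite α] (P N : Subgroup (Equiv.Perm α)) (hP : IsPGroup 2 P)
    (hcard : Nat.card P = 2 ^ ee (Nat.card α)) (hN : ∀ g ∈ N, Pres P g) (hPN : P ≤ N) :
    Nat.card (psiT P N hN hPN).ker ≤ 2 ^ Nat.card (TT P) := by
  classical
  have hpt : ∀ t : TT P, ∃ c : α, t.1 c ≠ c := by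
    intro t
    obtain ⟨_, a, b, hab, he⟩ := t.2
    exact ⟨a, by rw [he, Equiv.swap_apply_left]; exact hab.symm⟩
  choose pt hptc using hpt
  let f : (psiT P N hN hPN).ker → (TT P → Bool) := fun p t => decide (p.1.1 (pt t) ≠ pt t)
  have hinj : Function.Injective f := by
    intro p q hpq
    apply Subtype.ext
    apply Subtype.ext
    apply Equiv.ext
    intro x
    have kp : ∀ (r : (psiT P N hN hPN).ker) (t : TT P), r.1.1 * t.1 * r.1.1⁻¹ = t.1 := by
      intro r t
      have h1 := psiT_apply P N hN hPN r.1 t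
      have h2 : psiT P N hN hPN r.1 = 1 := r.2
      rw [h2] at h1
      exact h1.symm
    by_cases hx : Matched P x
    · obtain ⟨b, hb, hsw⟩ := hx
      obtain ⟨t, ht⟩ : ∃ t : TT P, t.1 = Equiv.swap x b :=
        ⟨⟨Equiv.swap x b, hsw, x, b, Ne.symm hb, rfl⟩, rfl⟩
      have hp := fix_of_conj p.1.1 x b (Ne.symm hb) (ht ▸ kp p t)
      have hq := fix_of_conj q.1.1 x b (Ne.symm hb) (ht ▸ kp q t)
      have hf := congrFun hpq t
      have hf' : (p.1.1 (pt t) ≠ pt t) ↔ (q.1.1 (pt t) ≠ pt t) := decide_eq_decide.mp hf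
      have hc : pt t = x ∨ pt t = b := by
        by_contra hcon
        push Not at hcon
        have := hptc t
        rw [ht] at this
        exact this (Equiv.swap_apply_of_ne_of_ne hcon.1 hcon.2)
      show p.1.1 x = q.1.1 x
      rcases hc with hc | hc
      · rw [hc] at hf'
        rcases hp with ⟨p1, p2⟩ | ⟨p1, p2⟩ <;> rcases hq with ⟨q1, q2⟩ | ⟨q1, q2⟩
        · rw [p1, q1]
        · exact absurd p1 (hf'.mpr (by rw [q1]; exact hb))
        · exact absurd q1 (hf'.mp (by rw [p1]; exact hb))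
        · rw [p1, q1]
      · rw [hc] at hf'
        rcases hp with ⟨p1, p2⟩ | ⟨p1, p2⟩ <;> rcases hq with ⟨q1, q2⟩ | ⟨q1, q2⟩
        · rw [p1, q1]
        · exact absurd p2 (hf'.mpr (by rw [q2]; exact Ne.symm hb))
        · exact absurd q2 (hf'.mp (by rw [p2]; exact Ne.symm hb))
        · rw [p1, q1]
    · show p.1.1 x = q.1.1 x
      have hp := fix_unmatched P hP hcard p.1.1 (pres_of_mem P (fun r hr =>
        P.mul_mem (P.mul_mem (P.inv_mem p.1.2) hr) (P.inv_mem (P.inv_mem p.1.2)))) x hx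
      have hq := fix_unmatched P hP hcard q.1.1 (pres_of_mem P (fun r hr =>
        P.mul_mem (P.mul_mem (P.inv_mem q.1.2) hr) (P.inv_mem (P.inv_mem q.1.2)))) x hx
      rw [hp, hq]
  calc Nat.card (psiT P N hN hPN).ker ≤ Nat.card (TT P → Bool) :=
        Nat.card_le_card_of_injective f hinj
    _ = 2 ^ Nat.card (TT P) := by rw [Nat.card_fun]; simp

theorem two_mul_card_TT_le [Finite α] (P : Subgroup (Equiv.Perm α)) (hP : IsPGroup 2 P) :
    2 * Nat.card (TT P) ≤ Nat.card α := by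
  classical
  have : Fintype α := Fintype.ofFinite α
  obtain ⟨Tf, hTf⟩ : ∃ Tf : Finset (Equiv.Perm α),
      Tf = Finset.univ.filter (fun t => t ∈ P ∧ t.IsSwap) := ⟨_, rfl⟩
  have hcardT : Nat.card (TT P) = Tf.card := by
    rw [Nat.card_eq_fintype_card, Fintype.card_subtype, hTf]
  have hdisj : (Tf : Set (Equiv.Perm α)).PairwiseDisjoint (fun t => t.support) := by
    intro t₁ h₁ t₂ h₂ hne
    rw [Finset.mem_coe, hTf, Finset.mem_filter] at h₁ h₂
    show Disjoint t₁.support t₂.support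
    rw [Finset.disjoint_left]
    intro x hx₁ hx₂
    rw [Equiv.Perm.mem_support] at hx₁ hx₂
    obtain ⟨y₁, hy₁, e₁⟩ := swap_form h₁.2.2 hx₁
    obtain ⟨y₂, hy₂, e₂⟩ := swap_form h₂.2.2 hx₂
    have hyy : y₁ = y₂ :=
      sib_unique P hP (Ne.symm hy₁) (Ne.symm hy₂) (e₁ ▸ h₁.2.1) (e₂ ▸ h₂.2.1)
    apply hne
    rw [e₁, e₂, hyy]
  have h1 : (Tf.biUnion (fun t => t.support)).card = ∑ t ∈ Tf, t.support.card :=
    Finset.card_biUnion hdisj
  have h2 : ∀ t ∈ Tf, t.support.card = 2 := by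
    intro t ht
    rw [hTf, Finset.mem_filter] at ht
    exact Equiv.Perm.card_support_eq_two.mpr ht.2.2
  rw [Finset.sum_congr rfl h2, Finset.sum_const, smul_eq_mul] at h1
  have h3 := Finset.card_le_univ (Tf.biUnion (fun t => t.support))
  rw [h1] at h3
  rw [hcardT, Nat.card_eq_fintype_card]
  omega

theorem range_card [Finite α] (P N : Subgroup (Equiv.Perm α)) (hP : IsPGroup 2 P)
    (hcard : Nat.card P = 2 ^ ee (Nat.card α)) (hN : ∀ g ∈ N, Pres P g) (hPN : P ≤ N) :
    IsPGroup 2 (psiT P N hN hPN).range ∧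
      Nat.card (psiT P N hN hPN).range = 2 ^ ee (Nat.card (TT P)) := by
  have hp2 : Fact (Nat.Prime 2) := ⟨Nat.prime_two⟩
  have hpg : IsPGroup 2 (psiT P N hN hPN).range :=
    IsPGroup.of_surjective hP (psiT P N hN hPN).rangeRestrict
      (psiT P N hN hPN).rangeRestrict_surjective
  refine ⟨hpg, ?_⟩
  obtain ⟨j, hj⟩ := hpg.exists_card_eq
  have h1 := Subgroup.card_mul_index (psiT P N hN hPN).ker
  rw [Subgroup.index_ker, hj, hcard] at h1
  have h2 := ker_card_le P N hP hcard hN hPN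
  have h3 := two_mul_card_TT_le P hP
  have h4 : 2 ^ j ∣ (Nat.card (TT P)).factorial := by
    have := Subgroup.card_subgroup_dvd_card (psiT P N hN hPN).range
    rw [hj, Nat.card_perm] at this
    exact this
  have h5 : j ≤ ee (Nat.card (TT P)) :=
    (Nat.Prime.pow_dvd_iff_le_factorization Nat.prime_two (Nat.factorial_ne_zero _)).mp h4
  have h6 : ee (2 * Nat.card (TT P)) ≤ ee (Nat.card α) := ee_mono h3
  rw [ee_two_mul] at h6
  have h7 : 2 ^ ee (Nat.card α) ≤ 2 ^ (Nat.card (TT P) + j) := by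
    rw [← h1, pow_add]
    exact Nat.mul_le_mul_right _ h2
  have h8 : ee (Nat.card α) ≤ Nat.card (TT P) + j :=
    (Nat.pow_le_pow_iff_right (by norm_num)).mp h7
  rw [hj]
  congr 1
  omega

/-- conjugating the image of `P` -/
theorem range_conj (P N : Subgroup (Equiv.Perm α)) (hN : ∀ g ∈ N, Pres P g) (hPN : P ≤ N)
    (g : N) (p : P) (hg : g.1 * p.1 * g.1⁻¹ ∈ P) :
    phiT P N hN g * psiT P N hN hPN p * (phiT P N hN g)⁻¹ =
      psiT P N hN hPN ⟨g.1 * p.1 * g.1⁻¹, hg⟩ := by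
  show phiT P N hN g * phiT P N hN (Subgroup.inclusion hPN p) * (phiT P N hN g)⁻¹ =
    phiT P N hN (Subgroup.inclusion hPN ⟨g.1 * p.1 * g.1⁻¹, hg⟩)
  rw [← map_inv, ← map_mul, ← map_mul]
  rfl

/-- an odd-order element normalising a Sylow 2-subgroup of a symmetric group is trivial -/
theorem odd_normalizer_trivial : ∀ (n : ℕ) (α : Type) [Finite α], Nat.card α = n →
    ∀ (P : Subgroup (Equiv.Perm α)), IsPGroup 2 P → Nat.card P = 2 ^ ee n →
    ∀ h : Equiv.Perm α, h ∈ Subgroup.normalizer (P : Set (Equiv.Perm α)) →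
    ∀ k : ℕ, h ^ (2 * k + 1) = 1 → h = 1 := by
  intro n
  induction n using Nat.strong_induction_on with
  | _ n ih =>
    intro α _ hα P hP hcard h hh k hk
    classical
    rcases Nat.eq_zero_or_pos n with hn0 | hnpos
    · apply Equiv.ext
      intro x
      have hne : Nonempty α := ⟨x⟩
      have := Nat.card_pos (α := α)
      omega
    subst hα
    obtain ⟨N, hNdef⟩ : ∃ N : Subgroup (Equiv.Perm α),
        N = Subgroup.normalizer (P : Set (Equiv.Perm α)) := ⟨_, rfl⟩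
    have hPN : P ≤ N := hNdef ▸ Subgroup.le_normalizer
    have hmemN : ∀ g, g ∈ N → ∀ p, p ∈ P ↔ g * p * g⁻¹ ∈ P := by
      intro g hg
      rw [hNdef] at hg
      exact Subgroup.mem_normalizer_iff.mp hg
    have hhN : h ∈ N := hNdef ▸ hh
    have hN : ∀ g ∈ N, Pres P g := by
      intro g hg
      apply pres_of_mem
      intro p hp
      exact (hmemN g hg p).mp hp
    obtain ⟨hpg, hrc⟩ := range_card P N hP hcard hN hPN
    have h3 := two_mul_card_TT_le P hP
    obtain ⟨h', hh'def⟩ : ∃ h' : Equiv.Perm (TT P), h' = phiT P N hN ⟨h, hhN⟩ := ⟨_, rfl⟩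
    have hh' : h' ∈ Subgroup.normalizer ((psiT P N hN hPN).range : Set (Equiv.Perm (TT P))) := by
      rw [Subgroup.mem_normalizer_iff]
      intro q
      constructor
      · rintro ⟨p, rfl⟩
        rw [hh'def, range_conj P N hN hPN ⟨h, hhN⟩ p ((hmemN h hhN p.1).mp p.2)]
        exact ⟨_, rfl⟩
      · rintro ⟨p, hp⟩
        have hinv : h⁻¹ * p.1 * h⁻¹⁻¹ ∈ P := (hmemN h⁻¹ (N.inv_mem hhN) p.1).mp p.2
        have e1 := range_conj P N hN hPN (⟨h, hhN⟩ : N)⁻¹ p hinv
        rw [hp, map_inv, ← hh'def] at e1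
        have e2 : q = h'⁻¹ * (h' * q * h'⁻¹) * h'⁻¹⁻¹ := by group
        rw [e2, e1]
        exact ⟨_, rfl⟩
    have hk' : h' ^ (2 * k + 1) = 1 := by
      rw [hh'def, ← map_pow]
      have : (⟨h, hhN⟩ : N) ^ (2 * k + 1) = 1 := Subtype.ext hk
      rw [this, map_one]
    have hlt : Nat.card (TT P) < Nat.card α := by omega
    have h1 := ih (Nat.card (TT P)) hlt (TT P) rfl (psiT P N hN hPN).range hpg hrc h' hh' k hk'
    rw [hh'def] at h1
    have hsq : h * h = 1 := ker_sq P N hP hcard hN ⟨h, hhN⟩ h1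
    have e : h ^ (2 * k + 1) = h := by
      rw [pow_succ, pow_mul, pow_two, hsq, one_pow, one_mul]
    rw [← e, hk]

end Cfsg.Agent.Lib.Helper8.SelfNorm
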