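import Mathlib

set_option autoImplicit false

namespace Cfsg.Agent.Lib.Helper8.SylMax

/-- the main double count for a family of 4-sets with even pairwise intersections -/
theorem design_count {Ω : Type*} [DecidableEq Ω] [Fintype Ω] (F : Finset (Finset Ω))
    (T : Finset Ω) (hT : T ∈ F) (h4 : ∀ S ∈ F, S.card = 4)
    (hint : ∀ S ∈ F, S ≠ T → (S ∩ T).card = 0 ∨ (S ∩ T).card = 2)
    (lam : ℕ) (hlam : ∀ x y : Ω, x ≠ y → (F.filter (fun S => x ∈ S ∧ y ∈ S)).card = lam) :
    (Fintype.card Ω - 4) * lam + 6 = 6 * lam := by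
  classical
  have dc : ∀ Q : Finset (Ω × Ω), ∑ p ∈ Q, (F.filter (fun S => p.1 ∈ S ∧ p.2 ∈ S)).card
      = ∑ S ∈ F, (Q.filter (fun p => p.1 ∈ S ∧ p.2 ∈ S)).card := by
    intro Q
    simp_rw [Finset.card_filter]
    exact Finset.sum_comm
  have c1 := dc (T ×ˢ Tᶜ)
  have c2 := dc T.offDiag
  have l1 : ∑ p ∈ T ×ˢ Tᶜ, (F.filter (fun S => p.1 ∈ S ∧ p.2 ∈ S)).card
      = 4 * (Fintype.card Ω - 4) * lam := by
    have h : ∀ p ∈ T ×ˢ Tᶜ, (F.filter (fun S => p.1 ∈ S ∧ p.2 ∈ S)).card = lam := by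
      intro p hp
      rw [Finset.mem_product, Finset.mem_compl] at hp
      exact hlam p.1 p.2 (fun h => hp.2 (h ▸ hp.1))
    rw [Finset.sum_congr rfl h, Finset.sum_const, Finset.card_product, Finset.card_compl,
      h4 T hT, smul_eq_mul]
  have l2 : ∑ p ∈ T.offDiag, (F.filter (fun S => p.1 ∈ S ∧ p.2 ∈ S)).card = 12 * lam := by
    have h : ∀ p ∈ T.offDiag, (F.filter (fun S => p.1 ∈ S ∧ p.2 ∈ S)).card = lam := by
      intro p hp
      rw [Finset.mem_offDiag] at hp
      exact hlam p.1 p.2 hp.2.2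
    rw [Finset.sum_congr rfl h, Finset.sum_const, Finset.offDiag_card, h4 T hT, smul_eq_mul]
  have r1 : ∀ S ∈ F, ((T ×ˢ Tᶜ).filter (fun p => p.1 ∈ S ∧ p.2 ∈ S)).card
      = (S ∩ T).card * (4 - (S ∩ T).card) := by
    intro S hS
    have h : (T ×ˢ Tᶜ).filter (fun p => p.1 ∈ S ∧ p.2 ∈ S) = (S ∩ T) ×ˢ (S \ T) := by
      ext ⟨a, b⟩
      simp only [Finset.mem_filter, Finset.mem_product, Finset.mem_compl, Finset.mem_inter,
        Finset.mem_sdiff]
      tauto
    rw [h, Finset.card_product]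
    have h' := Finset.card_sdiff_add_card_inter S T
    rw [h4 S hS] at h'
    congr 1; omega
  have r2 : ∀ S ∈ F, (T.offDiag.filter (fun p => p.1 ∈ S ∧ p.2 ∈ S)).card
      = (S ∩ T).card * (S ∩ T).card - (S ∩ T).card := by
    intro S hS
    have h : T.offDiag.filter (fun p => p.1 ∈ S ∧ p.2 ∈ S) = (S ∩ T).offDiag := by
      ext ⟨a, b⟩
      simp only [Finset.mem_filter, Finset.mem_offDiag, Finset.mem_inter]
      tauto
    rw [h, Finset.offDiag_card]
  have comb : ∀ S ∈ F, ((T ×ˢ Tᶜ).filter (fun p => p.1 ∈ S ∧ p.2 ∈ S)).card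
      + (if S = T then 24 else 0)
      = 2 * (T.offDiag.filter (fun p => p.1 ∈ S ∧ p.2 ∈ S)).card := by
    intro S hS
    rw [r1 S hS, r2 S hS]
    by_cases hST : S = T
    · rw [hST, if_pos rfl, Finset.inter_self, h4 T hT]
    · rw [if_neg hST]
      rcases hint S hS hST with h | h <;> rw [h]
  have total := Finset.sum_congr (rfl : F = F) comb
  rw [Finset.sum_add_distrib, Finset.sum_ite_eq' F T (fun _ => 24), if_pos hT, ← Finset.mul_sum,
    ← c1, l1, ← c2, l2] at total
  have e : 4 * (Fintype.card Ω - 4) * lam = 4 * ((Fintype.card Ω - 4) * lam) := by ring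
  rw [e] at total
  generalize (Fintype.card Ω - 4) * lam = X at *
  omega

/-- at most `(n-2)/2` blocks through a pair -/
theorem design_bound {Ω : Type*} [DecidableEq Ω] [Fintype Ω] (F : Finset (Finset Ω))
    (h4 : ∀ S ∈ F, S.card = 4)
    (hint : ∀ S ∈ F, ∀ S' ∈ F, S ≠ S' → (S ∩ S').card = 0 ∨ (S ∩ S').card = 2)
    (lam : ℕ) (a e : Ω) (hae : a ≠ e)
    (hlam : (F.filter (fun S => a ∈ S ∧ e ∈ S)).card = lam) :
    2 * lam + 2 ≤ Fintype.card Ω := by
  classical
  obtain ⟨G, hG⟩ : ∃ G : Finset (Finset Ω), G = F.filter (fun S => a ∈ S ∧ e ∈ S) := ⟨_, rfl⟩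
  rw [← hG] at hlam
  have hdisj : (G : Set (Finset Ω)).PairwiseDisjoint (fun S => S \ {a, e}) := by
    intro S hS S' hS' hne
    rw [Finset.mem_coe, hG, Finset.mem_filter] at hS hS'
    show Disjoint (S \ {a, e}) (S' \ {a, e})
    rw [Finset.disjoint_left]
    intro x hx hx'
    rw [Finset.mem_sdiff] at hx hx'
    have hx2 := hx.2
    simp only [Finset.mem_insert, Finset.mem_singleton, not_or] at hx2
    have hsub : ({a, e, x} : Finset Ω) ⊆ S ∩ S' := by
      intro y hy
      simp only [Finset.mem_insert, Finset.mem_singleton] at hy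
      rcases hy with h | h | h
      · rw [h]; exact Finset.mem_inter.mpr ⟨hS.2.1, hS'.2.1⟩
      · rw [h]; exact Finset.mem_inter.mpr ⟨hS.2.2, hS'.2.2⟩
      · rw [h]; exact Finset.mem_inter.mpr ⟨hx.1, hx'.1⟩
    have hc3 : ({a, e, x} : Finset Ω).card = 3 :=
      Finset.card_eq_three.mpr ⟨a, e, x, hae, Ne.symm hx2.1, Ne.symm hx2.2, rfl⟩
    have hle := Finset.card_le_card hsub
    rcases hint S hS.1 S' hS'.1 hne with h | h <;> omega
  have hcard : (G.biUnion (fun S => S \ {a, e})).card = ∑ S ∈ G, (S \ {a, e}).card :=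
    Finset.card_biUnion hdisj
  have h2 : ∀ S ∈ G, (S \ {a, e}).card = 2 := by
    intro S hS
    rw [hG, Finset.mem_filter] at hS
    have hsub : ({a, e} : Finset Ω) ⊆ S := by
      intro y hy
      simp only [Finset.mem_insert, Finset.mem_singleton] at hy
      rcases hy with h | h
      · rw [h]; exact hS.2.1
      · rw [h]; exact hS.2.2
    rw [Finset.card_sdiff_of_subset hsub, h4 S hS.1, Finset.card_pair hae]
  rw [Finset.sum_congr rfl h2, Finset.sum_const, smul_eq_mul, hlam] at hcard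
  have hsub2 : G.biUnion (fun S => S \ {a, e}) ⊆ Finset.univ \ {a, e} := by
    intro x hx
    rw [Finset.mem_biUnion] at hx
    obtain ⟨S, _, hxS⟩ := hx
    rw [Finset.mem_sdiff] at hxS ⊢
    exact ⟨Finset.mem_univ _, hxS.2⟩
  have hfin := Finset.card_le_card hsub2
  rw [hcard, Finset.card_sdiff_of_subset (Finset.subset_univ _), Finset.card_univ,
    Finset.card_pair hae] at hfin
  have hpos : 2 ≤ Fintype.card Ω := by
    have := Finset.card_le_card (Finset.subset_univ ({a, e} : Finset Ω))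
    rw [Finset.card_pair hae, Finset.card_univ] at this
    exact this
  omega

theorem design_false (N lam : ℕ) (h1 : (N - 4) * lam + 6 = 6 * lam) (h2 : 2 * lam + 2 ≤ N)
    (hN : N = 5 ∨ 9 ≤ N) : False := by
  rcases hN with rfl | hN
  · norm_num at h1; omega
  · rcases Nat.eq_or_lt_of_le hN with rfl | hN'
    · norm_num at h1; omega
    · have h3 : 6 * lam ≤ (N - 4) * lam := Nat.mul_le_mul_right lam (by omega)
      omega

theorem sq_aux {G : Type*} [Group G] (A B C D : G) (hBA : Commute B A) (hBC : Commute B C)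
    (hBD : Commute B D) (hDA : Commute D A) (hDC : Commute D C) (hB : B * B = 1)
    (hD : D * D = 1) : (A * B * (C * D)) ^ 2 = (A * C) * (A * C) := by
  have e1 : A * B * (C * D) = (A * C) * (B * D) := by
    rw [mul_assoc, ← mul_assoc B C D, hBC.eq]; group
  have hcomm : Commute (A * C) (B * D) := by
    apply Commute.mul_left <;> apply Commute.mul_right
    · exact hBA.symm
    · exact hDA.symm
    · exact hBC.symm
    · exact hDC.symm
  rw [e1, hcomm.mul_pow, pow_two, pow_two]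
  have h : B * D * (B * D) = 1 := by
    rw [mul_assoc, ← mul_assoc D B D, hBD.symm.eq]
    calc B * (B * D * D) = (B * B) * (D * D) := by group
      _ = 1 := by rw [hB, hD, one_mul]
  rw [h, mul_one]

/-- the Klein four-group on the 4-set `S` lies in `M` -/
def V4in {Ω : Type*} [DecidableEq Ω] (M : Subgroup (Equiv.Perm Ω)) (S : Finset Ω) : Prop :=
  ∀ a b c d : Ω, a ∈ S → b ∈ S → c ∈ S → d ∈ S → a ≠ b → a ≠ c → a ≠ d → b ≠ c → b ≠ d →
    c ≠ d → Equiv.swap a b * Equiv.swap c d ∈ M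

theorem V4in_image {Ω : Type*} [DecidableEq Ω] (V M : Subgroup (Equiv.Perm Ω)) (S : Finset Ω)
    (h : V4in V S) (g : Equiv.Perm Ω) (hg : ∀ σ ∈ V, g * σ * g⁻¹ ∈ M) :
    V4in M (S.image g) := by
  intro a b c d ha hb hc hd n1 n2 n3 n4 n5 n6
  rw [Finset.mem_image] at ha hb hc hd
  obtain ⟨a, ha, rfl⟩ := ha
  obtain ⟨b, hb, rfl⟩ := hb
  obtain ⟨c, hc, rfl⟩ := hc
  obtain ⟨d, hd, rfl⟩ := hd
  have h0 := h a b c d ha hb hc hd (fun e => n1 (congrArg g e)) (fun e => n2 (congrArg g e))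
    (fun e => n3 (congrArg g e)) (fun e => n4 (congrArg g e)) (fun e => n5 (congrArg g e))
    (fun e => n6 (congrArg g e))
  have e : g * (Equiv.swap a b * Equiv.swap c d) * g⁻¹ =
      Equiv.swap (g a) (g b) * Equiv.swap (g c) (g d) := by
    calc g * (Equiv.swap a b * Equiv.swap c d) * g⁻¹
        = (g * Equiv.swap a b) * Equiv.swap c d * g⁻¹ := by group
      _ = Equiv.swap (g a) (g b) * (g * Equiv.swap c d) * g⁻¹ := by
          rw [Equiv.mul_swap_eq_swap_mul g a b]; group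
      _ = Equiv.swap (g a) (g b) * Equiv.swap (g c) (g d) := by
          rw [Equiv.mul_swap_eq_swap_mul g c d]; group
  rw [← e]
  exact hg _ h0

theorem three_cycle_of_V4 {Ω : Type*} [DecidableEq Ω] [Fintype Ω] (M : Subgroup (Equiv.Perm Ω))
    (S S' : Finset Ω) (hS : V4in M S) (hS' : V4in M S') (c4 : S.card = 4) (c4' : S'.card = 4)
    (h : (S ∩ S').card = 1 ∨ (S ∩ S').card = 3) : ∃ σ ∈ M, σ.IsThreeCycle := by
  rcases h with h | h
  · obtain ⟨a, ha⟩ := Finset.card_eq_one.mp h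
    have haS : a ∈ S ∧ a ∈ S' := by
      have : a ∈ S ∩ S' := by rw [ha]; exact Finset.mem_singleton_self a
      exact Finset.mem_inter.mp this
    have c3 : (S.erase a).card = 3 := by rw [Finset.card_erase_of_mem haS.1, c4]
    have c3' : (S'.erase a).card = 3 := by rw [Finset.card_erase_of_mem haS.2, c4']
    obtain ⟨b, c, d, hbc, hbd, hcd, hS3⟩ := Finset.card_eq_three.mp c3
    obtain ⟨e, f, k, hef, hek, hfk, hS3'⟩ := Finset.card_eq_three.mp c3'
    have mem3 : ∀ x, x ∈ S.erase a ↔ x = b ∨ x = c ∨ x = d := by intro x; rw [hS3]; simp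
    have mem3' : ∀ x, x ∈ S'.erase a ↔ x = e ∨ x = f ∨ x = k := by intro x; rw [hS3']; simp
    have hb := (mem3 b).mpr (Or.inl rfl)
    have hc := (mem3 c).mpr (Or.inr (Or.inl rfl))
    have hd := (mem3 d).mpr (Or.inr (Or.inr rfl))
    have he := (mem3' e).mpr (Or.inl rfl)
    have hf := (mem3' f).mpr (Or.inr (Or.inl rfl))
    have hk := (mem3' k).mpr (Or.inr (Or.inr rfl))
    rw [Finset.mem_erase] at hb hc hd he hf hk
    have notS' : ∀ x y, x ∈ S → x ≠ a → y ∈ S' → x ≠ y := by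
      intro x y hx hxa hy hxy
      have : x ∈ S ∩ S' := Finset.mem_inter.mpr ⟨hx, hxy ▸ hy⟩
      rw [ha, Finset.mem_singleton] at this
      exact hxa this
    have σ1 := hS a b c d haS.1 hb.2 hc.2 hd.2 hb.1.symm hc.1.symm hd.1.symm hbc hbd hcd
    have σ2 := hS' a e f k haS.2 he.2 hf.2 hk.2 he.1.symm hf.1.symm hk.1.symm hef hek hfk
    have hbe : b ≠ e := notS' b e hb.2 hb.1 he.2
    have hbf : b ≠ f := notS' b f hb.2 hb.1 hf.2
    have hbk : b ≠ k := notS' b k hb.2 hb.1 hk.2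
    have hce : c ≠ e := notS' c e hc.2 hc.1 he.2
    have hcf : c ≠ f := notS' c f hc.2 hc.1 hf.2
    have hck : c ≠ k := notS' c k hc.2 hc.1 hk.2
    have hde : d ≠ e := notS' d e hd.2 hd.1 he.2
    have hdf : d ≠ f := notS' d f hd.2 hd.1 hf.2
    have hdk : d ≠ k := notS' d k hd.2 hd.1 hk.2
    have hab := hb.1.symm
    have hac := hc.1.symm
    have had := hd.1.symm
    have hae := he.1.symm
    have haf := hf.1.symm
    have hak := hk.1.symm
    refine ⟨(Equiv.swap a b * Equiv.swap c d * (Equiv.swap a e * Equiv.swap f k)) ^ 2,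
      M.pow_mem (M.mul_mem σ1 σ2) 2, ?_⟩
    have hBA : Commute (Equiv.swap c d) (Equiv.swap a b) :=
      (Equiv.Perm.disjoint_swap_swap (by simp [hcd, hac.symm, hbc.symm, had.symm, hbd.symm, hab])).commute
    have hBC : Commute (Equiv.swap c d) (Equiv.swap a e) :=
      (Equiv.Perm.disjoint_swap_swap (by simp [hcd, hac.symm, hce, had.symm, hde, hae])).commute
    have hBD : Commute (Equiv.swap c d) (Equiv.swap f k) :=
      (Equiv.Perm.disjoint_swap_swap (by simp [hcd, hcf, hck, hdf, hdk, hfk])).commute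
    have hDA : Commute (Equiv.swap f k) (Equiv.swap a b) :=
      (Equiv.Perm.disjoint_swap_swap (by simp [hfk, haf.symm, hbf.symm, hak.symm, hbk.symm, hab])).commute
    have hDC : Commute (Equiv.swap f k) (Equiv.swap a e) :=
      (Equiv.Perm.disjoint_swap_swap (by simp [hfk, haf.symm, hef.symm, hak.symm, hek.symm, hae])).commute
    rw [sq_aux _ _ _ _ hBA hBC hBD hDA hDC (Equiv.swap_mul_self c d) (Equiv.swap_mul_self f k)]
    exact (Equiv.Perm.isThreeCycle_swap_mul_swap_same hab hae hbe).isThreeCycle_sq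
  · obtain ⟨a, b, c, hab, hac, hbc, hI⟩ := Finset.card_eq_three.mp h
    have memI : ∀ x, x ∈ S ∩ S' ↔ x = a ∨ x = b ∨ x = c := by intro x; rw [hI]; simp
    have ha := Finset.mem_inter.mp ((memI a).mpr (Or.inl rfl))
    have hb := Finset.mem_inter.mp ((memI b).mpr (Or.inr (Or.inl rfl)))
    have hc := Finset.mem_inter.mp ((memI c).mpr (Or.inr (Or.inr rfl)))
    have cd : (S \ S').card = 1 := by
      have := Finset.card_sdiff_add_card_inter S S'; omega
    have cd' : (S' \ S).card = 1 := by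
      have := Finset.card_sdiff_add_card_inter S' S
      rw [Finset.inter_comm] at this; omega
    obtain ⟨d, hd⟩ := Finset.card_eq_one.mp cd
    obtain ⟨e, he⟩ := Finset.card_eq_one.mp cd'
    have hdm : d ∈ S ∧ d ∉ S' :=
      Finset.mem_sdiff.mp (by rw [hd]; exact Finset.mem_singleton_self d)
    have hem : e ∈ S' ∧ e ∉ S :=
      Finset.mem_sdiff.mp (by rw [he]; exact Finset.mem_singleton_self e)
    have had : a ≠ d := fun h => hdm.2 (h ▸ ha.2)
    have hbd : b ≠ d := fun h => hdm.2 (h ▸ hb.2)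
    have hcd : c ≠ d := fun h => hdm.2 (h ▸ hc.2)
    have hae : a ≠ e := fun h => hem.2 (h ▸ ha.1)
    have hbe : b ≠ e := fun h => hem.2 (h ▸ hb.1)
    have hce : c ≠ e := fun h => hem.2 (h ▸ hc.1)
    have hde : d ≠ e := fun h => hdm.2 (h ▸ hem.1)
    have σ1 := hS a b c d ha.1 hb.1 hc.1 hdm.1 hab hac had hbc hbd hcd
    have σ2 := hS' a b c e ha.2 hb.2 hc.2 hem.1 hab hac hae hbc hbe hce
    refine ⟨Equiv.swap a b * Equiv.swap c d * (Equiv.swap a b * Equiv.swap c e),
      M.mul_mem σ1 σ2, ?_⟩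
    have e1 : Equiv.swap a b * Equiv.swap c d * (Equiv.swap a b * Equiv.swap c e) =
        Equiv.swap c d * Equiv.swap c e := by
      have hc1 : Commute (Equiv.swap a b) (Equiv.swap c d) :=
        (Equiv.Perm.disjoint_swap_swap (by simp [hab, hac, had, hbc, hbd, hcd])).commute
      calc Equiv.swap a b * Equiv.swap c d * (Equiv.swap a b * Equiv.swap c e)
          = Equiv.swap c d * (Equiv.swap a b * Equiv.swap a b) * Equiv.swap c e := by
            rw [hc1.eq]; group
        _ = Equiv.swap c d * Equiv.swap c e := by rw [Equiv.swap_mul_self, mul_one]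
    rw [e1]
    exact Equiv.Perm.isThreeCycle_swap_mul_swap_same hcd hce hde

theorem dt_variants {Ω : Type*} [DecidableEq Ω] (V : Subgroup (Equiv.Perm Ω)) (x y u v : Ω)
    (hxy : x ≠ y) (hxu : x ≠ u) (hxv : x ≠ v) (hyu : y ≠ u) (hyv : y ≠ v) (huv : u ≠ v)
    (h : Equiv.swap x y * Equiv.swap u v ∈ V) :
    Equiv.swap y x * Equiv.swap u v ∈ V ∧ Equiv.swap x y * Equiv.swap v u ∈ V ∧
    Equiv.swap y x * Equiv.swap v u ∈ V ∧ Equiv.swap u v * Equiv.swap x y ∈ V ∧
    Equiv.swap v u * Equiv.swap x y ∈ V ∧ Equiv.swap u v * Equiv.swap y x ∈ V ∧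
    Equiv.swap v u * Equiv.swap y x ∈ V := by
  have hc : Equiv.swap u v * Equiv.swap x y = Equiv.swap x y * Equiv.swap u v :=
    ((Equiv.Perm.disjoint_swap_swap (by simp [hxy, hxu, hxv, hyu, hyv, huv])).commute.eq).symm
  rw [Equiv.swap_comm y x, Equiv.swap_comm v u, hc]
  exact ⟨h, h, h, h, h, h, h⟩

end Cfsg.Agent.Lib.Helper8.SylMax
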