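import Mathlib
import Cfsg.Agent.Lib.Helper8.SylMaxA
import Cfsg.Agent.Lib.Helper8.SylMaxD

set_option autoImplicit false

namespace Cfsg.Agent.Lib.Helper8.SylMax

open Cfsg.Agent.Lib.Helper8.NilNum

theorem dt_comm {Ω : Type*} [DecidableEq Ω] (a b c d : Ω) (hab : a ≠ b) (hac : a ≠ c)
    (had : a ≠ d) (hbc : b ≠ c) (hbd : b ≠ d) (hcd : c ≠ d) :
    (Equiv.swap a b * Equiv.swap c d) * (Equiv.swap a c * Equiv.swap b d) =
    (Equiv.swap a c * Equiv.swap b d) * (Equiv.swap a b * Equiv.swap c d) := by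
  have e_a : (Equiv.swap a c * Equiv.swap b d) a = c := by
    rw [Equiv.Perm.mul_apply, Equiv.swap_apply_of_ne_of_ne hab had, Equiv.swap_apply_left]
  have e_b : (Equiv.swap a c * Equiv.swap b d) b = d := by
    rw [Equiv.Perm.mul_apply, Equiv.swap_apply_left,
      Equiv.swap_apply_of_ne_of_ne had.symm hcd.symm]
  have e_c : (Equiv.swap a c * Equiv.swap b d) c = a := by
    rw [Equiv.Perm.mul_apply, Equiv.swap_apply_of_ne_of_ne hbc.symm hcd, Equiv.swap_apply_right]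
  have e_d : (Equiv.swap a c * Equiv.swap b d) d = b := by
    rw [Equiv.Perm.mul_apply, Equiv.swap_apply_right,
      Equiv.swap_apply_of_ne_of_ne hab.symm hbc]
  have h1 := Equiv.mul_swap_eq_swap_mul (Equiv.swap a c * Equiv.swap b d) a b
  have h2 := Equiv.mul_swap_eq_swap_mul (Equiv.swap a c * Equiv.swap b d) c d
  rw [e_a, e_b] at h1
  rw [e_c, e_d] at h2
  have hc : Equiv.swap c d * Equiv.swap a b = Equiv.swap a b * Equiv.swap c d :=
    (Equiv.Perm.disjoint_swap_swap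
      (by simp [hcd, hac.symm, hbc.symm, had.symm, hbd.symm, hab])).commute.eq
  symm
  calc (Equiv.swap a c * Equiv.swap b d) * (Equiv.swap a b * Equiv.swap c d)
      = ((Equiv.swap a c * Equiv.swap b d) * Equiv.swap a b) * Equiv.swap c d := by group
    _ = Equiv.swap c d * ((Equiv.swap a c * Equiv.swap b d) * Equiv.swap c d) := by
        rw [h1]; group
    _ = Equiv.swap c d * Equiv.swap a b * (Equiv.swap a c * Equiv.swap b d) := by
        rw [h2]; group
    _ = (Equiv.swap a b * Equiv.swap c d) * (Equiv.swap a c * Equiv.swap b d) := by rw [hc]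

theorem V4_base {Ω : Type*} [DecidableEq Ω] [Fintype Ω] (a b c d : Ω) (hab : a ≠ b)
    (hac : a ≠ c) (had : a ≠ d) (hbc : b ≠ c) (hbd : b ≠ d) (hcd : c ≠ d) :
    ∃ V : Subgroup (Equiv.Perm Ω), (∀ σ ∈ V, σ * σ = 1) ∧
      (∀ σ ∈ V, Equiv.Perm.sign σ = 1) ∧ V4in V {a, b, c, d} := by
  obtain ⟨s1, hs1⟩ : ∃ s, s = Equiv.swap a b * Equiv.swap c d := ⟨_, rfl⟩
  obtain ⟨s2, hs2⟩ : ∃ s, s = Equiv.swap a c * Equiv.swap b d := ⟨_, rfl⟩
  obtain ⟨s3, hs3⟩ : ∃ s, s = Equiv.swap a d * Equiv.swap b c := ⟨_, rfl⟩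
  have c12 : s1 * s2 = s2 * s1 := by
    rw [hs1, hs2]; exact dt_comm a b c d hab hac had hbc hbd hcd
  have c13 : s1 * s3 = s3 * s1 := by
    rw [hs1, hs3, Equiv.swap_comm c d]
    exact dt_comm a b d c hab had hac hbd hbc hcd.symm
  have c23 : s2 * s3 = s3 * s2 := by
    rw [hs2, hs3, Equiv.swap_comm b d, Equiv.swap_comm b c]
    exact dt_comm a c d b hac had hab hcd hbc.symm hbd.symm
  have inv_dt : ∀ x y u v : Ω, x ≠ y → x ≠ u → x ≠ v → y ≠ u → y ≠ v → u ≠ v →
      (Equiv.swap x y * Equiv.swap u v) * (Equiv.swap x y * Equiv.swap u v) = 1 := by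
    intro x y u v hxy hxu hxv hyu hyv huv
    have hc : Equiv.swap u v * Equiv.swap x y = Equiv.swap x y * Equiv.swap u v :=
      ((Equiv.Perm.disjoint_swap_swap
        (by simp [hxy, hxu, hxv, hyu, hyv, huv])).commute.eq).symm
    calc (Equiv.swap x y * Equiv.swap u v) * (Equiv.swap x y * Equiv.swap u v)
        = Equiv.swap x y * (Equiv.swap u v * Equiv.swap x y) * Equiv.swap u v := by group
      _ = (Equiv.swap x y * Equiv.swap x y) * (Equiv.swap u v * Equiv.swap u v) := by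
          rw [hc]; group
      _ = 1 := by rw [Equiv.swap_mul_self, Equiv.swap_mul_self, one_mul]
  have i1 : s1 * s1 = 1 := by rw [hs1]; exact inv_dt a b c d hab hac had hbc hbd hcd
  have i2 : s2 * s2 = 1 := by rw [hs2]; exact inv_dt a c b d hac hab had hbc.symm hcd hbd
  have i3 : s3 * s3 = 1 := by rw [hs3]; exact inv_dt a d b c had hab hac hbd.symm hcd.symm hbc
  have g1 : Equiv.Perm.sign s1 = 1 := by
    rw [hs1, map_mul, Equiv.Perm.sign_swap hab, Equiv.Perm.sign_swap hcd]; simp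
  have g2 : Equiv.Perm.sign s2 = 1 := by
    rw [hs2, map_mul, Equiv.Perm.sign_swap hac, Equiv.Perm.sign_swap hbd]; simp
  have g3 : Equiv.Perm.sign s3 = 1 := by
    rw [hs3, map_mul, Equiv.Perm.sign_swap had, Equiv.Perm.sign_swap hbc]; simp
  refine ⟨Subgroup.closure {s1, s2, s3}, ?_, ?_, ?_⟩
  · apply sq_of_closure
    · intro x hx
      simp only [Set.mem_insert_iff, Set.mem_singleton_iff] at hx
      rcases hx with h | h | h
      · rw [h]; exact i1
      · rw [h]; exact i2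
      · rw [h]; exact i3
    · intro x hx y hy
      simp only [Set.mem_insert_iff, Set.mem_singleton_iff] at hx hy
      rcases hx with h | h | h <;> rcases hy with h' | h' | h' <;> rw [h, h']
      · exact c12
      · exact c13
      · exact c12.symm
      · exact c23
      · exact c13.symm
      · exact c23.symm
  · intro σ hσ
    have hle : Subgroup.closure {s1, s2, s3} ≤ alternatingGroup Ω := by
      rw [Subgroup.closure_le]
      intro x hx
      simp only [Set.mem_insert_iff, Set.mem_singleton_iff] at hx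
      rw [SetLike.mem_coe, Equiv.Perm.mem_alternatingGroup]
      rcases hx with h | h | h
      · rw [h]; exact g1
      · rw [h]; exact g2
      · rw [h]; exact g3
    exact Equiv.Perm.mem_alternatingGroup.mp (hle hσ)
  · have m1 : Equiv.swap a b * Equiv.swap c d ∈ Subgroup.closure {s1, s2, s3} := by
      rw [← hs1]; exact Subgroup.subset_closure (by simp)
    have m2 : Equiv.swap a c * Equiv.swap b d ∈ Subgroup.closure {s1, s2, s3} := by
      rw [← hs2]; exact Subgroup.subset_closure (by simp)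
    have m3 : Equiv.swap a d * Equiv.swap b c ∈ Subgroup.closure {s1, s2, s3} := by
      rw [← hs3]; exact Subgroup.subset_closure (by simp)
    obtain ⟨q1, q2, q3, q4, q5, q6, q7⟩ := dt_variants _ a b c d hab hac had hbc hbd hcd m1
    obtain ⟨r1, r2, r3, r4, r5, r6, r7⟩ :=
      dt_variants _ a c b d hac hab had hbc.symm hcd hbd m2
    obtain ⟨t1, t2, t3, t4, t5, t6, t7⟩ :=
      dt_variants _ a d b c had hab hac hbd.symm hcd.symm hbc m3
    intro a' b' c' d' ha' hb' hc' hd' n1 n2 n3 n4 n5 n6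
    simp only [Finset.mem_insert, Finset.mem_singleton] at ha' hb' hc' hd'
    rcases ha' with rfl | rfl | rfl | rfl <;> rcases hb' with rfl | rfl | rfl | rfl <;>
      first
      | exact absurd rfl n1
      | (rcases hc' with rfl | rfl | rfl | rfl <;>
          first
          | exact absurd rfl n2
          | exact absurd rfl n4
          | (rcases hd' with rfl | rfl | rfl | rfl <;>
              first
              | exact absurd rfl n3
              | exact absurd rfl n5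
              | exact absurd rfl n6
              | assumption))

theorem two_trans {Ω : Type*} (M Q : Subgroup (Equiv.Perm Ω)) (hQM : Q ≤ M) (x₀ : Ω)
    (hfix : ∀ g ∈ Q, g x₀ = x₀) (htr : ∀ y y', y ≠ x₀ → y' ≠ x₀ → ∃ p ∈ Q, p y = y')
    (hM : ¬ ∀ g ∈ M, g x₀ = x₀) :
    ∀ a b c d : Ω, a ≠ b → c ≠ d → ∃ g ∈ M, g a = c ∧ g b = d := by
  push Not at hM
  obtain ⟨g₀, hg₀, hg₀x⟩ := hM
  have t1 : ∀ a, ∃ g ∈ M, g a = x₀ := by
    intro a
    by_cases ha : a = x₀
    · exact ⟨1, M.one_mem, ha⟩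
    · have h1 : g₀⁻¹ x₀ ≠ x₀ := by
        intro h; apply hg₀x
        rw [Equiv.Perm.inv_eq_iff_eq] at h
        exact h.symm
      obtain ⟨p, hp, hpa⟩ := htr a (g₀⁻¹ x₀) ha h1
      exact ⟨g₀ * p, M.mul_mem hg₀ (hQM hp), by rw [Equiv.Perm.mul_apply, hpa]; simp⟩
  intro a b c d hab hcd
  obtain ⟨g, hg, hga⟩ := t1 a
  obtain ⟨h, hh, hhc⟩ := t1 c
  have hgb : g b ≠ x₀ := fun e => hab (g.injective (hga.trans e.symm))
  have hhd : h d ≠ x₀ := fun e => hcd (h.injective (hhc.trans e.symm))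
  obtain ⟨p, hp, hpb⟩ := htr (g b) (h d) hgb hhd
  refine ⟨h⁻¹ * p * g, M.mul_mem (M.mul_mem (M.inv_mem hh) (hQM hp)) hg, ?_, ?_⟩
  · rw [Equiv.Perm.mul_apply, Equiv.Perm.mul_apply, hga, hfix p hp, Equiv.Perm.inv_eq_iff_eq]
    exact hhc.symm
  · rw [Equiv.Perm.mul_apply, Equiv.Perm.mul_apply, hpb]; simp

theorem exists_swap_mem {n : ℕ} (hn : 2 ≤ n) (P : Sylow 2 (Equiv.Perm (Fin n))) :
    ∃ u v : Fin n, u ≠ v ∧ Equiv.swap u v ∈ (P : Subgroup (Equiv.Perm (Fin n))) := by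
  obtain ⟨u0, hu0⟩ : ∃ u0 : Fin n, u0 = ⟨0, by omega⟩ := ⟨_, rfl⟩
  obtain ⟨v0, hv0⟩ : ∃ v0 : Fin n, v0 = ⟨1, by omega⟩ := ⟨_, rfl⟩
  have huv : u0 ≠ v0 := by
    rw [hu0, hv0]; intro h; exact absurd (congrArg Fin.val h) (by norm_num)
  have hQ : IsPGroup 2 (Subgroup.zpowers (Equiv.swap u0 v0)) := by
    apply isPGroup_of_sq
    intro x hx
    obtain ⟨j, rfl⟩ := Subgroup.mem_zpowers_iff.mp hx
    rw [← zpow_add, ← two_mul, zpow_mul, zpow_two, Equiv.swap_mul_self, one_zpow]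
  obtain ⟨g, hg⟩ := sylow_conj_mem P _ hQ
  refine ⟨g u0, g v0, fun h => huv (g.injective h), ?_⟩
  have h := hg _ (Subgroup.mem_zpowers (Equiv.swap u0 v0))
  have e : g * Equiv.swap u0 v0 * g⁻¹ = Equiv.swap (g u0) (g v0) := by
    rw [Equiv.mul_swap_eq_swap_mul g u0 v0]; simp
  rw [e] at h
  exact h

theorem sylow_trans' (n k : ℕ) (hk : 1 ≤ k) (hn : n = 2 ^ k + 1)
    (P : Sylow 2 (Equiv.Perm (Fin n))) (x₀ : Fin n)
    (hx₀ : ∀ g ∈ (P : Subgroup (Equiv.Perm (Fin n))), g x₀ = x₀) (y y' : Fin n)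
    (hy : y ≠ x₀) (hy' : y' ≠ x₀) :
    ∃ p ∈ (P : Subgroup (Equiv.Perm (Fin n))), p y = y' := by
  subst hn
  exact sylow_trans k hk P x₀ hx₀ y y' hy hy'

theorem odd_of_eq (n k : ℕ) (hk : 1 ≤ k) (hn : n = 2 ^ k + 1) : Odd n :=
  ⟨2 ^ (k - 1), by rw [hn, two_pow_eq k hk]⟩

/-- every overgroup of a Sylow 2-subgroup of the symmetric group of degree `2^k+1` fixes the
point or is everything -/
theorem sym_core (n k : ℕ) (hk : 2 ≤ k) (hn : n = 2 ^ k + 1)
    (P : Sylow 2 (Equiv.Perm (Fin n))) :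
    ∃ x₀ : Fin n, (∀ g ∈ (P : Subgroup (Equiv.Perm (Fin n))), g x₀ = x₀) ∧
      ∀ M : Subgroup (Equiv.Perm (Fin n)), (P : Subgroup (Equiv.Perm (Fin n))) ≤ M →
        (∀ g ∈ M, g x₀ = x₀) ∨ M = ⊤ := by
  classical
  have hodd : Odd n := odd_of_eq n k (by omega) hn
  have hn5 : 5 ≤ n := by
    have : 2 ^ 2 ≤ 2 ^ k := Nat.pow_le_pow_right (by norm_num) hk
    norm_num at this
    omega
  obtain ⟨x₀, hx₀⟩ := fixed_point_of_odd hodd (P : Subgroup (Equiv.Perm (Fin n))) P.isPGroup'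
  refine ⟨x₀, hx₀, ?_⟩
  intro M hPM
  by_cases hM : ∀ g ∈ M, g x₀ = x₀
  · exact Or.inl hM
  · right
    have h2t := two_trans M (P : Subgroup (Equiv.Perm (Fin n))) hPM x₀ hx₀
      (fun y y' hy hy' => sylow_trans' n k (by omega) hn P x₀ hx₀ y y' hy hy') hM
    obtain ⟨u, v, huv, hswap⟩ := exists_swap_mem (by omega) P
    rw [eq_top_iff, ← Equiv.Perm.closure_isSwap, Subgroup.closure_le]
    rintro σ ⟨a, b, hab, rfl⟩
    obtain ⟨g, hg, hga, hgb⟩ := h2t u v a b huv hab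
    have e : Equiv.swap a b = g * Equiv.swap u v * g⁻¹ := by
      rw [Equiv.mul_swap_eq_swap_mul g u v, hga, hgb]; simp
    rw [SetLike.mem_coe, e]
    exact M.mul_mem (M.mul_mem hg (hPM hswap)) (M.inv_mem hg)

end Cfsg.Agent.Lib.Helper8.SylMax
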