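import Mathlib
import Cfsg.Agent.Lib.Helper8.SelfNormB
import Cfsg.Agent.Lib.Helper8.SylMaxE

set_option autoImplicit false
set_option linter.unusedVariables false
set_option linter.unusedSectionVars false

namespace Cfsg.Agent.Lib.Helper8.SelfNorm

open Cfsg.Agent.Lib.Helper8.NilNum Cfsg.Agent.Lib.Helper8.SylMax Cfsg.Agent.Lib.Helper8.NilPerm3

variable {α : Type} [DecidableEq α]

theorem exists_not_mem' [Fintype α] (F : Finset α) (h : F.card < Fintype.card α) :
    ∃ w, w ∉ F := by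
  by_contra hcon
  push Not at hcon
  have : F = Finset.univ := Finset.eq_univ_iff_forall.mpr hcon
  rw [this, Finset.card_univ] at h
  exact lt_irrefl _ h

theorem exists_matched_outside [Fintype α] (P : Subgroup (Equiv.Perm α)) (hP : IsPGroup 2 P)
    (hcard : Nat.card P = 2 ^ ee (Nat.card α)) (F : Finset α)
    (hF : F.card + 2 ≤ Fintype.card α) : ∃ c, c ∉ F ∧ Matched P c := by
  obtain ⟨x, hx⟩ := exists_not_mem' F (by omega)
  obtain ⟨y, hy⟩ := exists_not_mem' (insert x F) (by
    have := Finset.card_insert_le x F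
    omega)
  rw [Finset.mem_insert, not_or] at hy
  by_cases h1 : Matched P x
  · exact ⟨x, hx, h1⟩
  by_cases h2 : Matched P y
  · exact ⟨y, hy.2, h2⟩
  exact absurd (unmatched_unique P hP hcard y x h2 h1) hy.1

theorem sign_conj' [Fintype α] (p r : Equiv.Perm α) :
    Equiv.Perm.sign (p * r * p⁻¹) = Equiv.Perm.sign r := by
  rw [map_mul, map_mul, map_inv, mul_comm, ← mul_assoc, inv_mul_cancel, one_mul]

/-- the partner of `u` lies in the support of the second transposition -/
theorem sib_in_supp [Finite α] (P : Subgroup (Equiv.Perm α)) (hP : IsPGroup 2 P)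
    (u v u' x y : α) (huv : u ≠ v) (hu'u : u' ≠ u) (hu'v : u' ≠ v) (hux : u ≠ x) (huy : u ≠ y)
    (hsw : Equiv.swap u u' ∈ P) (hτ : Equiv.swap u v * Equiv.swap x y ∈ P) :
    u' = x ∨ u' = y := by
  by_contra hcon
  push Not at hcon
  have h1 : (Equiv.swap u v * Equiv.swap x y) u' = u' := by
    rw [Equiv.Perm.mul_apply, Equiv.swap_apply_of_ne_of_ne hcon.1 hcon.2,
      Equiv.swap_apply_of_ne_of_ne hu'u hu'v]
  have h2 : (Equiv.swap u v * Equiv.swap x y) u = v := by
    rw [Equiv.Perm.mul_apply, Equiv.swap_apply_of_ne_of_ne hux huy, Equiv.swap_apply_left]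
  have h3 : (Equiv.swap u v * Equiv.swap x y) * Equiv.swap u u' *
      (Equiv.swap u v * Equiv.swap x y)⁻¹ ∈ P := P.mul_mem (P.mul_mem hτ hsw) (P.inv_mem hτ)
  rw [conj_swap, h1, h2] at h3
  have h4 : Equiv.swap u' v ∈ P := by rw [Equiv.swap_comm]; exact h3
  have h5 : Equiv.swap u' u ∈ P := by rw [Equiv.swap_comm]; exact hsw
  exact huv (sib_unique P hP hu'u hu'v h5 h4)

/-- a permutation normalising the even part of a Sylow 2-subgroup of a symmetric group of degree
at least 6 permutes its transpositions -/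
theorem pres_core [Fintype α] (P R' : Subgroup (Equiv.Perm α)) (hP : IsPGroup 2 P)
    (hcard : Nat.card P = 2 ^ ee (Nat.card α)) (h6 : 6 ≤ Fintype.card α) (hRP : R' ≤ P)
    (heven : ∀ p ∈ P, Equiv.Perm.sign p = 1 → p ∈ R')
    (g : Equiv.Perm α) (hg : ∀ r ∈ R', g * r * g⁻¹ ∈ R') : Pres P g := by
  intro a b hab hsw
  by_contra hnot
  have hF1 : ({a, b} : Finset α).card + 2 ≤ Fintype.card α := by
    have := Finset.card_le_two (a := a) (b := b)
    omega
  obtain ⟨c, hcF, c', hc'c, hcc'⟩ := exists_matched_outside P hP hcard {a, b} hF1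
  simp only [Finset.mem_insert, Finset.mem_singleton, not_or] at hcF
  have hc'a : c' ≠ a := by
    intro e
    rw [e] at hcc'
    have h1 : Equiv.swap a c ∈ P := by rw [Equiv.swap_comm]; exact hcc'
    exact hcF.2 (sib_unique P hP hab (Ne.symm hcF.1) hsw h1).symm
  have hc'b : c' ≠ b := by
    intro e
    rw [e] at hcc'
    have h1 : Equiv.swap b c ∈ P := by rw [Equiv.swap_comm]; exact hcc'
    have h2 : Equiv.swap b a ∈ P := by rw [Equiv.swap_comm]; exact hsw
    exact hcF.1 (sib_unique P hP (Ne.symm hab) (Ne.symm hcF.2) h2 h1).symm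
  have hF2 : ({a, b, c, c'} : Finset α).card + 2 ≤ Fintype.card α := by
    have := Finset.card_le_four (a := a) (b := b) (c := c) (d := c')
    omega
  obtain ⟨e, heF, e', he'e, hee'⟩ := exists_matched_outside P hP hcard {a, b, c, c'} hF2
  simp only [Finset.mem_insert, Finset.mem_singleton, not_or] at heF
  have he'a : e' ≠ a := by
    intro h
    rw [h] at hee'
    have h1 : Equiv.swap a e ∈ P := by rw [Equiv.swap_comm]; exact hee'
    exact heF.2.1 (sib_unique P hP hab (Ne.symm heF.1) hsw h1).symm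
  have he'b : e' ≠ b := by
    intro h
    rw [h] at hee'
    have h1 : Equiv.swap b e ∈ P := by rw [Equiv.swap_comm]; exact hee'
    have h2 : Equiv.swap b a ∈ P := by rw [Equiv.swap_comm]; exact hsw
    exact heF.1 (sib_unique P hP (Ne.symm hab) (Ne.symm heF.2.1) h2 h1).symm
  have he'c : e' ≠ c := by
    intro h
    rw [h] at hee'
    have h1 : Equiv.swap c e ∈ P := by rw [Equiv.swap_comm]; exact hee'
    exact heF.2.2.2 (sib_unique P hP (Ne.symm hc'c) (Ne.symm heF.2.2.1) hcc' h1).symm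
  have he'c' : e' ≠ c' := by
    intro h
    rw [h] at hee'
    have h1 : Equiv.swap c' e ∈ P := by rw [Equiv.swap_comm]; exact hee'
    have h2 : Equiv.swap c' c ∈ P := by rw [Equiv.swap_comm]; exact hcc'
    exact heF.2.2.1 (sib_unique P hP hc'c (Ne.symm heF.2.2.2) h2 h1).symm
  have hσ : ∀ x y, x ≠ y → Equiv.swap x y ∈ P →
      g * (Equiv.swap a b * Equiv.swap x y) * g⁻¹ ∈ P := by
    intro x y hxy hxyP
    apply hRP
    apply hg
    apply heven _ (P.mul_mem hsw hxyP)
    rw [map_mul, Equiv.Perm.sign_swap hab, Equiv.Perm.sign_swap hxy]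
    rfl
  have hτ : ∀ x y, g * (Equiv.swap a b * Equiv.swap x y) * g⁻¹ =
      Equiv.swap (g a) (g b) * Equiv.swap (g x) (g y) := by
    intro x y
    rw [← conj_swap g a b, ← conj_swap g x y]
    group
  have huv : g a ≠ g b := fun e => hab (g.injective e)
  have hτ1 : Equiv.swap (g a) (g b) * Equiv.swap (g c) (g c') ∈ P := by
    rw [← hτ]; exact hσ c c' (Ne.symm hc'c) hcc'
  have hτ2 : Equiv.swap (g a) (g b) * Equiv.swap (g e) (g e') ∈ P := by
    rw [← hτ]; exact hσ e e' (Ne.symm he'e) hee'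
  have hac : g a ≠ g c := fun h => hcF.1 (g.injective h).symm
  have hac' : g a ≠ g c' := fun h => hc'a (g.injective h).symm
  have hae : g a ≠ g e := fun h => heF.1 (g.injective h).symm
  have hae' : g a ≠ g e' := fun h => he'a (g.injective h).symm
  have hmu : Matched P (g a) := by
    by_contra hmu
    have hfix := fix_unmatched P hP hcard (Equiv.swap (g a) (g b) * Equiv.swap (g c) (g c'))
      (pres_of_mem P (fun p hp =>
        P.mul_mem (P.mul_mem (P.inv_mem hτ1) hp) (P.inv_mem (P.inv_mem hτ1)))) (g a) hmu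
    rw [Equiv.Perm.mul_apply, Equiv.swap_apply_of_ne_of_ne hac hac',
      Equiv.swap_apply_left] at hfix
    exact huv hfix.symm
  obtain ⟨u', hu'u, hu'⟩ := hmu
  have hu'v : u' ≠ g b := by
    intro h; rw [h] at hu'; exact hnot hu'
  have h1 := sib_in_supp P hP (g a) (g b) u' (g c) (g c') huv hu'u hu'v hac hac' hu' hτ1
  have h2 := sib_in_supp P hP (g a) (g b) u' (g e) (g e') huv hu'u hu'v hae hae' hu' hτ2
  rcases h1 with h1 | h1 <;> rcases h2 with h2 | h2
  · exact heF.2.2.1 (g.injective (h2.symm.trans h1))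
  · exact he'c (g.injective (h2.symm.trans h1))
  · exact heF.2.2.2 (g.injective (h2.symm.trans h1))
  · exact he'c' (g.injective (h2.symm.trans h1))

/-- transpositions of a 2-group of permutations commute -/
theorem swap_conj_swap [Finite α] (P : Subgroup (Equiv.Perm α)) (hP : IsPGroup 2 P)
    {x y u v : α} (hxy : x ≠ y) (huv : u ≠ v) (hs : Equiv.swap x y ∈ P)
    (ht : Equiv.swap u v ∈ P) :
    Equiv.swap (Equiv.swap u v x) (Equiv.swap u v y) = Equiv.swap x y := by
  by_cases hxu : x = u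
  · rw [hxu] at hs hxy ⊢
    have hyv : y = v := sib_unique P hP hxy huv hs ht
    rw [hyv, Equiv.swap_apply_left, Equiv.swap_apply_right, Equiv.swap_comm]
  · by_cases hxv : x = v
    · rw [hxv] at hs hxy ⊢
      have hyu : y = u :=
        sib_unique P hP hxy (Ne.symm huv) hs (by rw [Equiv.swap_comm]; exact ht)
      rw [hyu, Equiv.swap_apply_right, Equiv.swap_apply_left, Equiv.swap_comm]
    · by_cases hyu : y = u
      · rw [hyu] at hs hxy
        exact absurd (sib_unique P hP (Ne.symm hxy) huv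
          (by rw [Equiv.swap_comm]; exact hs) ht) hxv
      · by_cases hyv : y = v
        · rw [hyv] at hs hxy
          exact absurd (sib_unique P hP (Ne.symm hxy) (Ne.symm huv)
            (by rw [Equiv.swap_comm]; exact hs) (by rw [Equiv.swap_comm]; exact ht)) hxu
        · rw [Equiv.swap_apply_of_ne_of_ne hxu hxv, Equiv.swap_apply_of_ne_of_ne hyu hyv]

/-- an element of odd order normalising a Sylow 2-subgroup of the alternating group of degree
at least 6 is trivial -/
theorem alt_odd_normalizer_trivial (n : ℕ) (hn : 6 ≤ n)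
    (R : Sylow 2 (alternatingGroup (Fin n))) (h : alternatingGroup (Fin n))
    (hh : h ∈ Subgroup.normalizer
      ((R : Subgroup (alternatingGroup (Fin n))) : Set (alternatingGroup (Fin n))))
    (k : ℕ) (hk : h ^ (2 * k + 1) = 1) : h = 1 := by
  classical
  have hp2 : Fact (Nat.Prime 2) := ⟨Nat.prime_two⟩
  obtain ⟨R', hR'⟩ : ∃ R' : Subgroup (Equiv.Perm (Fin n)),
      R' = (R : Subgroup (alternatingGroup (Fin n))).map (alternatingGroup (Fin n)).subtype :=
    ⟨_, rfl⟩
  have hR'mem : ∀ g ∈ (R : Subgroup (alternatingGroup (Fin n))),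
      (g : Equiv.Perm (Fin n)) ∈ R' := by
    intro g hg; rw [hR']; exact Subgroup.mem_map_of_mem _ hg
  have hR'A : ∀ σ ∈ R', ∃ h : σ ∈ alternatingGroup (Fin n),
      (⟨σ, h⟩ : alternatingGroup (Fin n)) ∈ (R : Subgroup (alternatingGroup (Fin n))) := by
    intro σ hσ
    rw [hR', Subgroup.mem_map] at hσ
    obtain ⟨g, hg, rfl⟩ := hσ
    exact ⟨g.2, hg⟩
  have hR'p : IsPGroup 2 R' := by rw [hR']; exact R.isPGroup'.map _
  obtain ⟨P0, hRP0⟩ := hR'p.exists_le_sylow
  obtain ⟨P, hPdef⟩ : ∃ P : Subgroup (Equiv.Perm (Fin n)), P = (P0 : Subgroup _) := ⟨_, rfl⟩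
  have hRP : R' ≤ P := hPdef ▸ hRP0
  have hP : IsPGroup 2 P := hPdef ▸ P0.isPGroup'
  have hcard : Nat.card P = 2 ^ ee (Nat.card (Fin n)) := by
    rw [Nat.card_eq_fintype_card (α := Fin n), Fintype.card_fin, hPdef]
    exact sylow_perm_card n P0
  have heven : ∀ p ∈ P, Equiv.Perm.sign p = 1 → p ∈ R' := by
    intro p hp hs
    have hQ : IsPGroup 2 (P.comap (alternatingGroup (Fin n)).subtype) :=
      hP.comap_of_injective _ (Subgroup.subtype_injective _)
    have hle : (R : Subgroup (alternatingGroup (Fin n))) ≤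
        P.comap (alternatingGroup (Fin n)).subtype := by
      intro g hg
      rw [Subgroup.mem_comap]
      exact hRP (hR'mem g hg)
    have heq := R.is_maximal' hQ hle
    have hmem : (⟨p, Equiv.Perm.mem_alternatingGroup.mpr hs⟩ : alternatingGroup (Fin n)) ∈
        P.comap (alternatingGroup (Fin n)).subtype := by
      rw [Subgroup.mem_comap]; exact hp
    rw [heq] at hmem
    exact hR'mem _ hmem
  have hR'sign : ∀ r ∈ R', Equiv.Perm.sign r = 1 := by
    intro r hr
    obtain ⟨hrA, _⟩ := hR'A r hr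
    exact Equiv.Perm.mem_alternatingGroup.mp hrA
  have h6 : 6 ≤ Fintype.card (Fin n) := by rw [Fintype.card_fin]; exact hn
  obtain ⟨N, hNdef⟩ : ∃ N : Subgroup (Equiv.Perm (Fin n)),
      N = Subgroup.normalizer (R' : Set (Equiv.Perm (Fin n))) := ⟨_, rfl⟩
  have hPN : P ≤ N := by
    intro p hp
    rw [hNdef, Subgroup.mem_normalizer_iff]
    intro r
    constructor
    · intro hr
      apply heven _ (P.mul_mem (P.mul_mem hp (hRP hr)) (P.inv_mem hp))
      rw [sign_conj']
      exact hR'sign r hr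
    · intro hr
      have e : r = p⁻¹ * (p * r * p⁻¹) * p := by group
      have hs : Equiv.Perm.sign r = 1 := by
        rw [← sign_conj' p r]; exact hR'sign _ hr
      apply heven _ _ hs
      rw [e]
      exact P.mul_mem (P.mul_mem (P.inv_mem hp) (hRP hr)) hp
  have hN : ∀ g ∈ N, Pres P g := by
    intro g hg
    rw [hNdef, Subgroup.mem_normalizer_iff] at hg
    exact pres_core P R' hP hcard h6 hRP heven g (fun r hr => (hg r).mp hr)
  obtain ⟨hpg, hrc⟩ := range_card P N hP hcard hN hPN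
  -- every element of the image comes from the even part
  obtain ⟨u, v, huv, hswap0⟩ := exists_swap_mem (by omega : 2 ≤ n) P0
  have hswap : Equiv.swap u v ∈ P := hPdef ▸ hswap0
  have hψt : psiT P N hN hPN ⟨Equiv.swap u v, hswap⟩ = 1 := by
    apply Equiv.ext
    intro s
    apply Subtype.ext
    rw [psiT_apply]
    obtain ⟨x, y, hxy, hs⟩ := s.2.2
    show Equiv.swap u v * s.1 * (Equiv.swap u v)⁻¹ = s.1
    rw [hs, conj_swap]
    exact swap_conj_swap P hP hxy huv (hs ▸ s.2.1) hswap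
  have key : ∀ q ∈ (psiT P N hN hPN).range, ∃ r : P, r.1 ∈ R' ∧ psiT P N hN hPN r = q := by
    rintro q ⟨p, rfl⟩
    rcases Int.units_eq_one_or (Equiv.Perm.sign p.1) with hs | hs
    · exact ⟨p, heven p.1 p.2 hs, rfl⟩
    · refine ⟨p * ⟨Equiv.swap u v, hswap⟩, ?_, ?_⟩
      · apply heven _ (P.mul_mem p.2 hswap)
        rw [map_mul, hs, Equiv.Perm.sign_swap huv]
        rfl
      · rw [map_mul, hψt, mul_one]
  have hnorm : ∀ g : alternatingGroup (Fin n), g ∈ Subgroup.normalizer
      ((R : Subgroup (alternatingGroup (Fin n))) : Set (alternatingGroup (Fin n))) →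
      ∀ r ∈ R', g.1 * r * g.1⁻¹ ∈ R' := by
    intro g hg r hr
    obtain ⟨hrA, hrR⟩ := hR'A r hr
    have := (Subgroup.mem_normalizer_iff.mp hg ⟨r, hrA⟩).mp hrR
    exact hR'mem _ this
  have hhinv : h⁻¹ ∈ Subgroup.normalizer
      ((R : Subgroup (alternatingGroup (Fin n))) : Set (alternatingGroup (Fin n))) :=
    Subgroup.inv_mem _ hh
  have hhN : h.1 ∈ N := by
    rw [hNdef, Subgroup.mem_normalizer_iff]
    intro r
    constructor
    · exact hnorm h hh r
    · intro hr
      have h1 := hnorm h⁻¹ hhinv _ hr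
      have e : ((h⁻¹ : alternatingGroup (Fin n)) : Equiv.Perm (Fin n)) * (h.1 * r * h.1⁻¹) *
          ((h⁻¹ : alternatingGroup (Fin n)) : Equiv.Perm (Fin n))⁻¹ = r := by
        show h.1⁻¹ * (h.1 * r * h.1⁻¹) * h.1⁻¹⁻¹ = r
        group
      rw [e] at h1
      exact h1
  obtain ⟨h', hh'def⟩ : ∃ h' : Equiv.Perm (TT P), h' = phiT P N hN ⟨h.1, hhN⟩ := ⟨_, rfl⟩
  have hh' : h' ∈ Subgroup.normalizer ((psiT P N hN hPN).range : Set (Equiv.Perm (TT P))) := by
    rw [Subgroup.mem_normalizer_iff]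
    intro q
    constructor
    · intro hq
      obtain ⟨r, hrR, rfl⟩ := key q hq
      have hmem : h.1 * r.1 * h.1⁻¹ ∈ P := hRP (hnorm h hh r.1 hrR)
      rw [hh'def, range_conj P N hN hPN ⟨h.1, hhN⟩ r hmem]
      exact ⟨_, rfl⟩
    · intro hq
      obtain ⟨r, hrR, hr⟩ := key _ hq
      have hmem : h.1⁻¹ * r.1 * h.1⁻¹⁻¹ ∈ P := hRP (hnorm h⁻¹ hhinv r.1 hrR)
      have e1 := range_conj P N hN hPN (⟨h.1, hhN⟩ : N)⁻¹ r hmem
      rw [hr, map_inv, ← hh'def] at e1
      have e2 : q = h'⁻¹ * (h' * q * h'⁻¹) * h'⁻¹⁻¹ := by group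
      rw [e2, e1]
      exact ⟨_, rfl⟩
  have hkp : h.1 ^ (2 * k + 1) = 1 := by
    rw [← Subgroup.coe_pow, hk]; rfl
  have hk' : h' ^ (2 * k + 1) = 1 := by
    rw [hh'def, ← map_pow]
    have : (⟨h.1, hhN⟩ : N) ^ (2 * k + 1) = 1 := Subtype.ext hkp
    rw [this, map_one]
  have h1 := odd_normalizer_trivial (Nat.card (TT P)) (TT P) rfl (psiT P N hN hPN).range hpg hrc
    h' hh' k hk'
  rw [hh'def] at h1
  have hsq : h.1 * h.1 = 1 := ker_sq P N hP hcard hN ⟨h.1, hhN⟩ h1
  have e : h.1 ^ (2 * k + 1) = h.1 := by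
    rw [pow_succ, pow_mul, pow_two, hsq, one_pow, one_mul]
  apply Subtype.ext
  rw [← e, hkp]
  rfl

/-- Sylow 2-subgroups of alternating groups of degree at least 6 are self-normalising -/
theorem alt_self_norm (n : ℕ) (hn : 6 ≤ n) (R : Sylow 2 (alternatingGroup (Fin n)))
    (g : alternatingGroup (Fin n))
    (hg : g ∈ Subgroup.normalizer
      ((R : Subgroup (alternatingGroup (Fin n))) : Set (alternatingGroup (Fin n)))) :
    g ∈ (R : Subgroup (alternatingGroup (Fin n))) := by
  have hp2 : Fact (Nat.Prime 2) := ⟨Nat.prime_two⟩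
  obtain ⟨a, b, hb, hab⟩ := Nat.exists_eq_two_pow_mul_odd (n := orderOf g) (orderOf_pos g).ne'
  obtain ⟨k, hk⟩ := hb
  have h1 : (g ^ (2 ^ a)) ^ (2 * k + 1) = 1 := by
    rw [← pow_mul, ← hk, ← hab]; exact pow_orderOf_eq_one g
  have h2 : g ^ (2 ^ a) ∈ Subgroup.normalizer
      ((R : Subgroup (alternatingGroup (Fin n))) : Set (alternatingGroup (Fin n))) :=
    Subgroup.pow_mem _ hg _
  have h3 : g ^ (2 ^ a) = 1 := alt_odd_normalizer_trivial n hn R _ h2 k h1
  have hpz : IsPGroup 2 (Subgroup.zpowers g) := by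
    rintro ⟨x, hx⟩
    obtain ⟨m, rfl⟩ := Subgroup.mem_zpowers_iff.mp hx
    refine ⟨a, Subtype.ext ?_⟩
    show (g ^ m) ^ (2 ^ a) = 1
    rw [← zpow_natCast, ← zpow_mul, mul_comm, zpow_mul, zpow_natCast, h3, one_zpow]
  have h4 := hpz.inf_normalizer_sylow R
  have h5 : g ∈ Subgroup.zpowers g ⊓ Subgroup.normalizer
      ((R : Subgroup (alternatingGroup (Fin n))) : Set (alternatingGroup (Fin n))) :=
    Subgroup.mem_inf.mpr ⟨Subgroup.mem_zpowers g, hg⟩
  exact (Subgroup.mem_inf.mp (h4.le h5)).2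

end Cfsg.Agent.Lib.Helper8.SelfNorm
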