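import Mathlib
import Cfsg.Agent.Lib.Helper8.SelfNormC

set_option autoImplicit false
set_option linter.unusedVariables false
set_option linter.unusedSectionVars false

namespace Cfsg.Agent.Lib.Helper8.Uniq

open Cfsg.Agent.Lib.Helper8.NilNum Cfsg.Agent.Lib.Helper8.SylMax Cfsg.Agent.Lib.Helper8.NilPerm3
open Cfsg.Agent.Lib.Helper8.SelfNorm

variable {α : Type} [DecidableEq α]

/-- permutations preserving the set of transpositions of `P` -/
def presSub (P : Subgroup (Equiv.Perm α)) : Subgroup (Equiv.Perm α) where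
  carrier := {g | ∀ a b, Equiv.swap a b ∈ P ↔ Equiv.swap (g a) (g b) ∈ P}
  one_mem' := by
    intro a b
    exact Iff.rfl
  mul_mem' := by
    intro g h hg hh a b
    exact (hh a b).trans (hg (h a) (h b))
  inv_mem' := by
    intro g hg a b
    have := hg (g⁻¹ a) (g⁻¹ b)
    rw [app_inv, app_inv] at this
    exact this.symm

theorem mem_presSub {P : Subgroup (Equiv.Perm α)} {g : Equiv.Perm α} :
    g ∈ presSub P ↔ ∀ a b, Equiv.swap a b ∈ P ↔ Equiv.swap (g a) (g b) ∈ P := Iff.rfl

theorem le_presSub (P : Subgroup (Equiv.Perm α)) : P ≤ presSub P := by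
  intro g hg
  rw [mem_presSub]
  intro a b
  rw [← conj_swap]
  constructor
  · intro h
    exact P.mul_mem (P.mul_mem hg h) (P.inv_mem hg)
  · intro h
    have h1 := P.mul_mem (P.mul_mem (P.inv_mem hg) h) hg
    have e : g⁻¹ * (g * Equiv.swap a b * g⁻¹) * g = Equiv.swap a b := by group
    rw [e] at h1
    exact h1

theorem presSub_pres (P : Subgroup (Equiv.Perm α)) : ∀ g ∈ presSub P, Pres P g :=
  fun g hg a b _ h => (hg a b).mp h

theorem ker_phi_card_le [Finite α] (P N : Subgroup (Equiv.Perm α)) (hP : IsPGroup 2 P)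
    (hcard : Nat.card P = 2 ^ ee (Nat.card α)) (hN : ∀ g ∈ N, Pres P g) :
    Nat.card (phiT P N hN).ker ≤ 2 ^ Nat.card (TT P) := by
  classical
  have hpt : ∀ t : TT P, ∃ c : α, t.1 c ≠ c := by
    intro t
    obtain ⟨_, a, b, hab, he⟩ := t.2
    exact ⟨a, by rw [he, Equiv.swap_apply_left]; exact hab.symm⟩
  choose pt hptc using hpt
  let f : (phiT P N hN).ker → (TT P → Bool) := fun p t => decide (p.1.1 (pt t) ≠ pt t)
  have hinj : Function.Injective f := by
    intro p q hpq
    apply Subtype.ext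
    apply Subtype.ext
    apply Equiv.ext
    intro x
    have kp : ∀ (r : (phiT P N hN).ker) (t : TT P), r.1.1 * t.1 * r.1.1⁻¹ = t.1 := by
      intro r t
      have h1 := phiT_apply P N hN r.1 t
      have h2 : phiT P N hN r.1 = 1 := r.2
      rw [h2] at h1
      exact h1.symm
    by_cases hx : Matched P x
    · obtain ⟨b, hb, hsw⟩ := hx
      obtain ⟨t, ht⟩ : ∃ t : TT P, t.1 = Equiv.swap x b :=
        ⟨⟨Equiv.swap x b, hsw, x, b, Ne.symm hb, rfl⟩, rfl⟩
      have hp := fix_of_conj p.1.1 x b (Ne.symm hb) (ht ▸ kp p t)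
      have hq := fix_of_conj q.1.1 x b (Ne.symm hb) (ht ▸ kp q t)
      have hf := congrFun hpq t
      have hf' : (p.1.1 (pt t) ≠ pt t) ↔ (q.1.1 (pt t) ≠ pt t) := decide_eq_decide.mp hf
      have hc : pt t = x ∨ pt t = b := by
        by_contra hcon
        push Not at hcon
        have := hptc t
        rw [ht] at this
        exact this (Equiv.swap_apply_of_ne_of_ne hcon.1 hcon.2)
      show p.1.1 x = q.1.1 x
      rcases hc with hc | hc
      · rw [hc] at hf'
        rcases hp with ⟨p1, p2⟩ | ⟨p1, p2⟩ <;> rcases hq with ⟨q1, q2⟩ | ⟨q1, q2⟩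
        · rw [p1, q1]
        · exact absurd p1 (hf'.mpr (by rw [q1]; exact hb))
        · exact absurd q1 (hf'.mp (by rw [p1]; exact hb))
        · rw [p1, q1]
      · rw [hc] at hf'
        rcases hp with ⟨p1, p2⟩ | ⟨p1, p2⟩ <;> rcases hq with ⟨q1, q2⟩ | ⟨q1, q2⟩
        · rw [p1, q1]
        · exact absurd p2 (hf'.mpr (by rw [q2]; exact Ne.symm hb))
        · exact absurd q2 (hf'.mp (by rw [p2]; exact Ne.symm hb))
        · rw [p1, q1]
    · show p.1.1 x = q.1.1 x
      have hp := fix_unmatched P hP hcard p.1.1 (hN _ (N.inv_mem p.1.2)) x hx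
      have hq := fix_unmatched P hP hcard q.1.1 (hN _ (N.inv_mem q.1.2)) x hx
      rw [hp, hq]
  calc Nat.card (phiT P N hN).ker ≤ Nat.card (TT P → Bool) :=
        Nat.card_le_card_of_injective f hinj
    _ = 2 ^ Nat.card (TT P) := by rw [Nat.card_fun]; simp

/-- the elements of `N` whose action on the transpositions of `P` is induced by `P` -/
def imgSub (P N : Subgroup (Equiv.Perm α)) (hN : ∀ g ∈ N, Pres P g) (hPN : P ≤ N) :
    Subgroup (Equiv.Perm α) :=
  ((psiT P N hN hPN).range.comap (phiT P N hN)).map N.subtype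

theorem mem_imgSub {P N : Subgroup (Equiv.Perm α)} {hN : ∀ g ∈ N, Pres P g} {hPN : P ≤ N}
    {b : Equiv.Perm α} :
    b ∈ imgSub P N hN hPN ↔ ∃ hb : b ∈ N, phiT P N hN ⟨b, hb⟩ ∈ (psiT P N hN hPN).range := by
  constructor
  · rintro ⟨n, hn, rfl⟩
    exact ⟨n.2, hn⟩
  · rintro ⟨hb, h⟩
    exact ⟨⟨b, hb⟩, h, rfl⟩

theorem le_of_image_le [Finite α] (P P' N : Subgroup (Equiv.Perm α)) (hP : IsPGroup 2 P)
    (hcard : Nat.card P = 2 ^ ee (Nat.card α)) (hN : ∀ g ∈ N, Pres P g) (hPN : P ≤ N)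
    (hP'N : P' ≤ N)
    (himg : ∀ q (hq : q ∈ P'), phiT P N hN ⟨q, hP'N hq⟩ ∈ (psiT P N hN hPN).range) :
    P' ≤ P := by
  classical
  obtain ⟨hpg, hrc⟩ := range_card P N hP hcard hN hPN
  have hPB : P ≤ imgSub P N hN hPN := by
    intro p hp
    exact mem_imgSub.mpr ⟨hPN hp, ⟨⟨p, hp⟩, rfl⟩⟩
  have hP'B : P' ≤ imgSub P N hN hPN := by
    intro q hq
    exact mem_imgSub.mpr ⟨hP'N hq, himg q hq⟩
  have hBN : imgSub P N hN hPN ≤ N := Subgroup.map_subtype_le _
  obtain ⟨θ, hθ⟩ : ∃ θ : imgSub P N hN hPN →* Equiv.Perm (TT P),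
      θ = (phiT P N hN).comp (Subgroup.inclusion hBN) := ⟨_, rfl⟩
  have hθ' : ∀ b, θ b = phiT P N hN (Subgroup.inclusion hBN b) := fun b => by rw [hθ]; rfl
  have hrange : θ.range ≤ (psiT P N hN hPN).range := by
    rintro _ ⟨b, rfl⟩
    obtain ⟨hb, h⟩ := mem_imgSub.mp b.2
    rw [hθ]
    exact h
  have h1 := Subgroup.card_mul_index θ.ker
  rw [Subgroup.index_ker] at h1
  have h2 : Nat.card θ.range ≤ 2 ^ ee (Nat.card (TT P)) := by
    rw [← hrc]
    exact Subgroup.card_le_of_le hrange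
  have h3 : Nat.card θ.ker ≤ 2 ^ Nat.card (TT P) := by
    refine le_trans ?_ (ker_phi_card_le P N hP hcard hN)
    let f : θ.ker → (phiT P N hN).ker := fun k =>
      ⟨Subgroup.inclusion hBN k.1, by
        have h := k.2
        rw [MonoidHom.mem_ker] at h
        rw [MonoidHom.mem_ker, ← hθ']
        exact h⟩
    apply Nat.card_le_card_of_injective f
    intro k k' hkk
    have h := congrArg (fun z : (phiT P N hN).ker => (z.1 : Equiv.Perm α)) hkk
    exact Subtype.ext (Subtype.ext h)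
  have h4 := two_mul_card_TT_le P hP
  have h5 : ee (2 * Nat.card (TT P)) ≤ ee (Nat.card α) := ee_mono h4
  rw [ee_two_mul] at h5
  have h6 : Nat.card (imgSub P N hN hPN) ≤ Nat.card P := by
    rw [← h1, hcard]
    calc Nat.card θ.ker * Nat.card θ.range
        ≤ 2 ^ Nat.card (TT P) * 2 ^ ee (Nat.card (TT P)) := Nat.mul_le_mul h3 h2
      _ = 2 ^ (Nat.card (TT P) + ee (Nat.card (TT P))) := by rw [pow_add]
      _ ≤ 2 ^ ee (Nat.card α) := Nat.pow_le_pow_right (by norm_num) (by omega)
  have h7 : P = imgSub P N hN hPN := Subgroup.eq_of_le_of_card_ge hPB h6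
  rw [h7]
  exact hP'B

/-- at most two fixed points, and points with equal periods lie in one cycle -/
def Hx {β : Type} (x : Equiv.Perm β) : Prop :=
  (∀ a b c, x a = a → x b = b → x c = c → a = b ∨ a = c ∨ b = c) ∧
  (∀ u v, x u ≠ u → Function.minimalPeriod x u = Function.minimalPeriod x v →
    ∃ i : ℕ, (x ^ i) u = v)

theorem pow_fix_iff {β : Type} (x : Equiv.Perm β) (a : β) (k : ℕ) :
    (x ^ k) a = a ↔ Function.minimalPeriod x a ∣ k := by
  rw [← Function.isPeriodicPt_iff_minimalPeriod_dvd, Function.IsPeriodicPt, Function.IsFixedPt,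
    Equiv.Perm.iterate_eq_pow]

theorem antipode_unique {β : Type} (x : Equiv.Perm β) (a : β) (j j' : ℕ)
    (h1 : (x ^ (2 * j)) a = a) (h2 : (x ^ (2 * j')) a = a) (h3 : (x ^ j) a ≠ a)
    (h4 : (x ^ j') a ≠ a) : (x ^ j) a = (x ^ j') a := by
  have d1 := (pow_fix_iff x a _).mp h1
  have d2 := (pow_fix_iff x a _).mp h2
  have n3 : ¬ Function.minimalPeriod x a ∣ j := fun h => h3 ((pow_fix_iff x a _).mpr h)
  have n4 : ¬ Function.minimalPeriod x a ∣ j' := fun h => h4 ((pow_fix_iff x a _).mpr h)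
  obtain ⟨c, hc⟩ := d1
  obtain ⟨c', hc'⟩ := d2
  have hco : Odd c := by
    by_contra hcon
    rw [Nat.not_odd_iff_even] at hcon
    obtain ⟨e, he⟩ := hcon
    apply n3
    refine ⟨e, ?_⟩
    have : 2 * j = 2 * (Function.minimalPeriod x a * e) := by rw [hc, he]; ring
    exact Nat.eq_of_mul_eq_mul_left (by norm_num) this
  have hco' : Odd c' := by
    by_contra hcon
    rw [Nat.not_odd_iff_even] at hcon
    obtain ⟨e, he⟩ := hcon
    apply n4
    refine ⟨e, ?_⟩
    have : 2 * j' = 2 * (Function.minimalPeriod x a * e) := by rw [hc', he]; ring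
    exact Nat.eq_of_mul_eq_mul_left (by norm_num) this
  obtain ⟨e, he⟩ := hco
  obtain ⟨e', he'⟩ := hco'
  have h5 : (x ^ (j + j')) a = a := by
    rw [pow_fix_iff]
    refine ⟨e + e' + 1, ?_⟩
    have : 2 * (j + j') = 2 * (Function.minimalPeriod x a * (e + e' + 1)) := by
      rw [mul_add, hc, hc', he, he']; ring
    exact Nat.eq_of_mul_eq_mul_left (by norm_num) this
  have e1 : j + 2 * j' = j' + (j + j') := by ring
  calc (x ^ j) a = (x ^ j) ((x ^ (2 * j')) a) := by rw [h2]
    _ = (x ^ j') ((x ^ (j + j')) a) := by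
        rw [← Equiv.Perm.mul_apply, ← Equiv.Perm.mul_apply, ← pow_add, ← pow_add, e1]
    _ = (x ^ j') a := by rw [h5]

theorem partner_fixed [Finite α] (P : Subgroup (Equiv.Perm α)) (hP : IsPGroup 2 P)
    (x : Equiv.Perm α) (hx : x ∈ P) (a b : α) (hab : a ≠ b) (hsw : Equiv.swap a b ∈ P)
    (hxa : x a = a) : x b = b := by
  have h1 : Equiv.swap (x a) (x b) ∈ P := by
    rw [← conj_swap]; exact P.mul_mem (P.mul_mem hx hsw) (P.inv_mem hx)
  rw [hxa] at h1
  exact (sib_unique P hP hab (fun e => hab (x.injective (hxa.trans e))) hsw h1).symm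

theorem edge_form [Finite α] (P : Subgroup (Equiv.Perm α)) (hP : IsPGroup 2 P)
    (x : Equiv.Perm α) (hx : x ∈ P) (hH : Hx x) (a b : α) (hab : a ≠ b)
    (hsw : Equiv.swap a b ∈ P) (hxa : x a ≠ a) :
    ∃ j : ℕ, (x ^ j) a = b ∧ (x ^ (2 * j)) a = a := by
  have hconj : ∀ k : ℕ, Equiv.swap ((x ^ k) a) ((x ^ k) b) ∈ P := by
    intro k
    rw [← conj_swap]
    exact P.mul_mem (P.mul_mem (P.pow_mem hx k) hsw) (P.inv_mem (P.pow_mem hx k))
  have hper : Function.minimalPeriod x a = Function.minimalPeriod x b := by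
    apply Nat.dvd_antisymm
    · rw [← pow_fix_iff]
      have h1 := hconj (Function.minimalPeriod x b)
      have h2 : (x ^ Function.minimalPeriod x b) b = b := (pow_fix_iff x b _).mpr dvd_rfl
      rw [h2] at h1
      have h3 : Equiv.swap b ((x ^ Function.minimalPeriod x b) a) ∈ P := by
        rw [Equiv.swap_comm]; exact h1
      have h4 : Equiv.swap b a ∈ P := by rw [Equiv.swap_comm]; exact hsw
      have hne : b ≠ (x ^ Function.minimalPeriod x b) a := by
        intro e
        exact hab ((x ^ Function.minimalPeriod x b).injective (h2.trans e)).symm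
      exact (sib_unique P hP (Ne.symm hab) hne h4 h3).symm
    · rw [← pow_fix_iff]
      have h1 := hconj (Function.minimalPeriod x a)
      have h2 : (x ^ Function.minimalPeriod x a) a = a := (pow_fix_iff x a _).mpr dvd_rfl
      rw [h2] at h1
      have hne : a ≠ (x ^ Function.minimalPeriod x a) b := by
        intro e
        exact hab ((x ^ Function.minimalPeriod x a).injective (h2.trans e))
      exact (sib_unique P hP hab hne hsw h1).symm
  obtain ⟨j, hj⟩ := hH.2 a b hxa hper
  refine ⟨j, hj, ?_⟩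
  have h1 := hconj j
  rw [hj] at h1
  have h4 : Equiv.swap b a ∈ P := by rw [Equiv.swap_comm]; exact hsw
  have hne : b ≠ (x ^ j) b := by
    intro e
    exact hab ((x ^ j).injective (hj.trans e))
  have h5 : a = (x ^ j) b := sib_unique P hP (Ne.symm hab) hne h4 h1
  rw [two_mul, pow_add, Equiv.Perm.mul_apply, hj, ← h5]

/-- the transpositions of one Sylow 2-subgroup containing `x` lie in any other -/
theorem tt_sub [Finite α] (x : Equiv.Perm α) (hH : Hx x) (P P' : Subgroup (Equiv.Perm α))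
    (hP : IsPGroup 2 P) (hP' : IsPGroup 2 P') (hcard' : Nat.card P' = 2 ^ ee (Nat.card α))
    (hx : x ∈ P) (hx' : x ∈ P') (a b : α) (hab : a ≠ b) (hsw : Equiv.swap a b ∈ P) :
    Equiv.swap a b ∈ P' := by
  by_cases hxa : x a = a
  · have hxb : x b = b := partner_fixed P hP x hx a b hab hsw hxa
    have hma : Matched P' a := by
      by_contra hma
      have hmb : Matched P' b := by
        by_contra hmb
        exact hab (unmatched_unique P' hP' hcard' a b hma hmb)
      obtain ⟨b'', hb''b, hsw''⟩ := hmb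
      have hxb'' : x b'' = b'' := partner_fixed P' hP' x hx' b b'' (Ne.symm hb''b) hsw'' hxb
      rcases hH.1 a b b'' hxa hxb hxb'' with h | h | h
      · exact hab h
      · exact hma ⟨b, Ne.symm hab, by rw [h, Equiv.swap_comm]; exact hsw''⟩
      · exact hb''b h.symm
    obtain ⟨b', hb'a, hsw'⟩ := hma
    have hxb' : x b' = b' := partner_fixed P' hP' x hx' a b' (Ne.symm hb'a) hsw' hxa
    rcases hH.1 a b b' hxa hxb hxb' with h | h | h
    · exact absurd h hab
    · exact absurd h.symm hb'a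
    · rw [h]; exact hsw'
  · obtain ⟨j, hj, hj2⟩ := edge_form P hP x hx hH a b hab hsw hxa
    have hma : Matched P' a := by
      by_contra hma
      exact hxa (fix_unmatched P' hP' hcard' x (pres_of_mem P' (fun p hp =>
        P'.mul_mem (P'.mul_mem (P'.inv_mem hx') hp) (P'.inv_mem (P'.inv_mem hx')))) a hma)
    obtain ⟨b', hb'a, hsw'⟩ := hma
    obtain ⟨j', hj', hj2'⟩ := edge_form P' hP' x hx' hH a b' (Ne.symm hb'a) hsw' hxa
    have h := antipode_unique x a j j' hj2 hj2' (by rw [hj]; exact Ne.symm hab)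
      (by rw [hj']; exact hb'a)
    rw [hj, hj'] at h
    rw [h]; exact hsw'

end Cfsg.Agent.Lib.Helper8.Uniq
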