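import Mathlib
import Cfsg.Agent.Lib.Helper8.UniqA

set_option autoImplicit false
set_option linter.unusedVariables false
set_option linter.unusedSectionVars false

namespace Cfsg.Agent.Lib.Helper8.Uniq

open Cfsg.Agent.Lib.Helper8.NilNum Cfsg.Agent.Lib.Helper8.SylMax Cfsg.Agent.Lib.Helper8.NilPerm3
open Cfsg.Agent.Lib.Helper8.SelfNorm

variable {α : Type} [DecidableEq α]

theorem pow_phi (P N : Subgroup (Equiv.Perm α)) (hN : ∀ g ∈ N, Pres P g) (x : Equiv.Perm α)
    (hxN : x ∈ N) (k : ℕ) (e : TT P) :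
    (((phiT P N hN ⟨x, hxN⟩) ^ k) e : Equiv.Perm α) = x ^ k * e.1 * (x ^ k)⁻¹ := by
  rw [← map_pow, phiT_apply] <;> rfl

theorem edge_fix_iff [Finite α] (P N : Subgroup (Equiv.Perm α)) (hP : IsPGroup 2 P)
    (hN : ∀ g ∈ N, Pres P g) (x : Equiv.Perm α) (hx : x ∈ P) (hxN : x ∈ N) (hH : Hx x)
    (e : TT P) (a b : α) (hab : a ≠ b) (he : e.1 = Equiv.swap a b) (hxa : x a ≠ a) (k : ℕ) :
    ((phiT P N hN ⟨x, hxN⟩) ^ k) e = e ↔ (x ^ (2 * k)) a = a := by
  have hsw : Equiv.swap a b ∈ P := he ▸ e.2.1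
  have hval : (((phiT P N hN ⟨x, hxN⟩) ^ k) e : Equiv.Perm α) =
      Equiv.swap ((x ^ k) a) ((x ^ k) b) := by
    rw [pow_phi, he, conj_swap]
  have h2k : (x ^ (2 * k)) a = (x ^ k) ((x ^ k) a) := by
    rw [two_mul, pow_add, Equiv.Perm.mul_apply]
  constructor
  · intro h
    have h1 : x ^ k * Equiv.swap a b * (x ^ k)⁻¹ = Equiv.swap a b := by
      rw [conj_swap, ← hval, h, he]
    rcases fix_of_conj (x ^ k) a b hab h1 with ⟨p1, p2⟩ | ⟨p1, p2⟩
    · rw [h2k, p1, p1]
    · rw [h2k, p1, p2]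
  · intro h
    apply Subtype.ext
    rw [hval, he]
    by_cases hk : (x ^ k) a = a
    · have hkb : (x ^ k) b = b := partner_fixed P hP (x ^ k) (P.pow_mem hx k) a b hab hsw hk
      rw [hk, hkb]
    · obtain ⟨j, hj, hj2⟩ := edge_form P hP x hx hH a b hab hsw hxa
      have h3 := antipode_unique x a k j h hj2 hk (by rw [hj]; exact Ne.symm hab)
      rw [hj] at h3
      have h4 : (x ^ k) b = a := by rw [← h3, ← h2k]; exact h
      rw [h3, h4, Equiv.swap_comm]

theorem period_edge [Finite α] (P N : Subgroup (Equiv.Perm α)) (hP : IsPGroup 2 P)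
    (hN : ∀ g ∈ N, Pres P g) (x : Equiv.Perm α) (hx : x ∈ P) (hxN : x ∈ N) (hH : Hx x)
    (e : TT P) (a b : α) (hab : a ≠ b) (he : e.1 = Equiv.swap a b) (hxa : x a ≠ a) :
    Function.minimalPeriod x a = 2 * Function.minimalPeriod (phiT P N hN ⟨x, hxN⟩) e := by
  have hsw : Equiv.swap a b ∈ P := he ▸ e.2.1
  have key : ∀ k, Function.minimalPeriod (phiT P N hN ⟨x, hxN⟩) e ∣ k ↔
      Function.minimalPeriod x a ∣ 2 * k := by
    intro k
    rw [← pow_fix_iff, ← pow_fix_iff]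
    exact edge_fix_iff P N hP hN x hx hxN hH e a b hab he hxa k
  obtain ⟨j, hj, hj2⟩ := edge_form P hP x hx hH a b hab hsw hxa
  have d1 := (pow_fix_iff x a _).mp hj2
  have n1 : ¬ Function.minimalPeriod x a ∣ j :=
    fun h => hab (((pow_fix_iff x a _).mpr h).symm.trans hj)
  have heven : Even (Function.minimalPeriod x a) := by
    by_contra hodd
    rw [Nat.not_even_iff_odd] at hodd
    exact n1 ((Nat.Coprime.dvd_mul_left (Nat.coprime_two_right.mpr hodd)).mp d1)
  obtain ⟨m₂, hm₂⟩ := heven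
  have h1 : Function.minimalPeriod (phiT P N hN ⟨x, hxN⟩) e ∣ m₂ :=
    (key m₂).mpr (by rw [hm₂]; exact ⟨1, by ring⟩)
  have h2 : Function.minimalPeriod x a ∣ 2 * Function.minimalPeriod (phiT P N hN ⟨x, hxN⟩) e :=
    (key _).mp dvd_rfl
  have h3 : m₂ ∣ Function.minimalPeriod (phiT P N hN ⟨x, hxN⟩) e := by
    rw [hm₂, ← two_mul] at h2
    exact Nat.dvd_of_mul_dvd_mul_left (by norm_num) h2
  rw [hm₂, ← two_mul, Nat.dvd_antisymm h3 h1]

theorem Hx_induced [Finite α] (P N : Subgroup (Equiv.Perm α)) (hP : IsPGroup 2 P)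
    (hN : ∀ g ∈ N, Pres P g) (x : Equiv.Perm α) (hx : x ∈ P) (hxN : x ∈ N) (hH : Hx x) :
    Hx (phiT P N hN ⟨x, hxN⟩) := by
  obtain ⟨X, hX⟩ : ∃ X : Equiv.Perm (TT P), X = phiT P N hN ⟨x, hxN⟩ := ⟨_, rfl⟩
  rw [← hX]
  have hXval : ∀ (k : ℕ) (e : TT P),
      (((X ^ k) e : TT P) : Equiv.Perm α) = x ^ k * e.1 * (x ^ k)⁻¹ := by
    intro k e; rw [hX]; exact pow_phi P N hN x hxN k e
  have hX1 : ∀ e : TT P, ((X e : TT P) : Equiv.Perm α) = x * e.1 * x⁻¹ := by
    intro e; rw [hX]; rfl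
  have common : ∀ (e e' : TT P) (a b b' : α), a ≠ b → a ≠ b' → e.1 = Equiv.swap a b →
      e'.1 = Equiv.swap a b' → e = e' := by
    intro e e' a b b' hab hab' he he'
    have h1 : Equiv.swap a b ∈ P := he ▸ e.2.1
    have h2 : Equiv.swap a b' ∈ P := he' ▸ e'.2.1
    have := sib_unique P hP hab hab' h1 h2
    apply Subtype.ext
    rw [he, he', this]
  have fixcls : ∀ (e : TT P), X e = e → ∃ a b, a ≠ b ∧ e.1 = Equiv.swap a b ∧
      ((x a = a ∧ x b = b) ∨ (x a = b ∧ x b = a)) := by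
    intro e he
    obtain ⟨a, b, hab, hs⟩ := e.2.2
    refine ⟨a, b, hab, hs, ?_⟩
    apply fix_of_conj x a b hab
    rw [← hs, ← hX1, he]
  constructor
  · intro e₁ e₂ e₃ h₁ h₂ h₃
    obtain ⟨a₁, b₁, hab₁, hs₁, hc₁⟩ := fixcls e₁ h₁
    obtain ⟨a₂, b₂, hab₂, hs₂, hc₂⟩ := fixcls e₂ h₂
    obtain ⟨a₃, b₃, hab₃, hs₃, hc₃⟩ := fixcls e₃ h₃
    have FF : ∀ (e e' : TT P) (a b a' b' : α), a ≠ b → a' ≠ b' → e.1 = Equiv.swap a b →
        e'.1 = Equiv.swap a' b' → x a = a → x b = b → x a' = a' → x b' = b' → e = e' := by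
      intro e e' a b a' b' hab hab' he he' ha hb ha' hb'
      rcases hH.1 a b a' ha hb ha' with h | h | h
      · exact absurd h hab
      · exact common e e' a b b' hab (by rw [h]; exact hab') he (by rw [h]; exact he')
      · exact common e e' b a b' (Ne.symm hab) (by rw [h]; exact hab')
          (by rw [he, Equiv.swap_comm]) (by rw [h]; exact he')
    have SS : ∀ (e e' : TT P) (a b a' b' : α), a ≠ b → a' ≠ b' → e.1 = Equiv.swap a b →
        e'.1 = Equiv.swap a' b' → x a = b → x b = a → x a' = b' → x b' = a' → e = e' := by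
      intro e e' a b a' b' hab hab' he he' ha hb ha' hb'
      have p2 : ∀ c d : α, c ≠ d → x c = d → x d = c → Function.minimalPeriod x c = 2 := by
        intro c d hcd h1 h2
        have hd : Function.minimalPeriod x c ∣ 2 := by
          rw [← pow_fix_iff, pow_two, Equiv.Perm.mul_apply, h1, h2]
        rcases (Nat.dvd_prime Nat.prime_two).mp hd with h | h
        · exfalso
          have : (x ^ 1) c = c := (pow_fix_iff x c 1).mpr (by rw [h])
          rw [pow_one, h1] at this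
          exact hcd this.symm
        · exact h
      have hper : Function.minimalPeriod x a = Function.minimalPeriod x a' := by
        rw [p2 a b hab ha hb, p2 a' b' hab' ha' hb']
      obtain ⟨i, hi⟩ := hH.2 a a' (by rw [ha]; exact Ne.symm hab) hper
      have horb : ∀ i : ℕ, (x ^ i) a = a ∨ (x ^ i) a = b := by
        intro i
        induction i with
        | zero => left; rfl
        | succ i ih =>
          rw [pow_succ', Equiv.Perm.mul_apply]
          rcases ih with h | h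
          · right; rw [h, ha]
          · left; rw [h, hb]
      rcases horb i with h | h
      · have haa : a = a' := h.symm.trans hi
        exact common e e' a b b' hab (by rw [haa]; exact hab') he (by rw [haa]; exact he')
      · have hba : b = a' := h.symm.trans hi
        exact common e e' b a b' (Ne.symm hab) (by rw [hba]; exact hab')
          (by rw [he, Equiv.swap_comm]) (by rw [hba]; exact he')
    rcases hc₁ with ⟨p1, q1⟩ | ⟨p1, q1⟩ <;> rcases hc₂ with ⟨p2, q2⟩ | ⟨p2, q2⟩ <;>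
      rcases hc₃ with ⟨p3, q3⟩ | ⟨p3, q3⟩
    · exact Or.inl (FF e₁ e₂ a₁ b₁ a₂ b₂ hab₁ hab₂ hs₁ hs₂ p1 q1 p2 q2)
    · exact Or.inl (FF e₁ e₂ a₁ b₁ a₂ b₂ hab₁ hab₂ hs₁ hs₂ p1 q1 p2 q2)
    · exact Or.inr (Or.inl (FF e₁ e₃ a₁ b₁ a₃ b₃ hab₁ hab₃ hs₁ hs₃ p1 q1 p3 q3))
    · exact Or.inr (Or.inr (SS e₂ e₃ a₂ b₂ a₃ b₃ hab₂ hab₃ hs₂ hs₃ p2 q2 p3 q3))
    · exact Or.inr (Or.inr (FF e₂ e₃ a₂ b₂ a₃ b₃ hab₂ hab₃ hs₂ hs₃ p2 q2 p3 q3))
    · exact Or.inr (Or.inl (SS e₁ e₃ a₁ b₁ a₃ b₃ hab₁ hab₃ hs₁ hs₃ p1 q1 p3 q3))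
    · exact Or.inl (SS e₁ e₂ a₁ b₁ a₂ b₂ hab₁ hab₂ hs₁ hs₂ p1 q1 p2 q2)
    · exact Or.inl (SS e₁ e₂ a₁ b₁ a₂ b₂ hab₁ hab₂ hs₁ hs₂ p1 q1 p2 q2)
  · intro e e' hne hper
    obtain ⟨a, b, hab, hs⟩ := e.2.2
    obtain ⟨a', b', hab', hs'⟩ := e'.2.2
    have hsw : Equiv.swap a b ∈ P := hs ▸ e.2.1
    have hsw' : Equiv.swap a' b' ∈ P := hs' ▸ e'.2.1
    have hxa : x a ≠ a := by
      intro h
      have hb := partner_fixed P hP x hx a b hab hsw h
      apply hne
      apply Subtype.ext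
      rw [hX1, hs, conj_swap, h, hb]
    have hne' : X e' ≠ e' := by
      intro h
      have h1 : Function.minimalPeriod X e' = 1 :=
        Function.minimalPeriod_eq_one_iff_isFixedPt.mpr h
      rw [← hper] at h1
      exact hne (Function.minimalPeriod_eq_one_iff_isFixedPt.mp h1)
    have hxa' : x a' ≠ a' := by
      intro h
      have hb := partner_fixed P hP x hx a' b' hab' hsw' h
      apply hne'
      apply Subtype.ext
      rw [hX1, hs', conj_swap, h, hb]
    have e1 := period_edge P N hP hN x hx hxN hH e a b hab hs hxa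
    have e2 := period_edge P N hP hN x hx hxN hH e' a' b' hab' hs' hxa'
    rw [← hX] at e1 e2
    have hpa : Function.minimalPeriod x a = Function.minimalPeriod x a' := by
      rw [e1, e2, hper]
    obtain ⟨i, hi⟩ := hH.2 a a' hxa hpa
    refine ⟨i, ?_⟩
    have hv : (((X ^ i) e : TT P) : Equiv.Perm α) = Equiv.swap a' ((x ^ i) b) := by
      rw [hXval, hs, conj_swap, hi]
    have hne2 : a' ≠ (x ^ i) b := by
      intro h
      exact hab ((x ^ i).injective (hi.trans h))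
    exact common ((X ^ i) e) e' a' ((x ^ i) b) b' hne2 hab' hv hs'

/-- a 2-element with at most two fixed points and cycles of different lengths lies in at most
one Sylow 2-subgroup of the symmetric group -/
theorem uniq_core : ∀ (n : ℕ) (α : Type) [Finite α], Nat.card α = n →
    ∀ x : Equiv.Perm α, Hx x → ∀ P P' : Subgroup (Equiv.Perm α), IsPGroup 2 P → IsPGroup 2 P' →
    Nat.card P = 2 ^ ee n → Nat.card P' = 2 ^ ee n → x ∈ P → x ∈ P' → P' ≤ P := by
  intro n
  induction n using Nat.strong_induction_on with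
  | _ n ih =>
    intro α _ hα x hH P P' hP hP' hcard hcard' hx hx'
    classical
    have hp2 : Fact (Nat.Prime 2) := ⟨Nat.prime_two⟩
    rcases Nat.eq_zero_or_pos n with hn0 | hnpos
    · intro q hq
      have hq1 : q = 1 := by
        apply Equiv.ext
        intro a
        have hne : Nonempty α := ⟨a⟩
        have := Nat.card_pos (α := α)
        omega
      rw [hq1]; exact P.one_mem
    subst hα
    have hsub : ∀ a b, Equiv.swap a b ∈ P ↔ Equiv.swap a b ∈ P' := by
      intro a b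
      by_cases hab : a = b
      · rw [hab, Equiv.swap_self]
        exact ⟨fun _ => P'.one_mem, fun _ => P.one_mem⟩
      · exact ⟨tt_sub x hH P P' hP hP' hcard' hx hx' a b hab,
          tt_sub x hH P' P hP' hP hcard hx' hx a b hab⟩
    have hN := presSub_pres P
    have hPN := le_presSub P
    have hP'N : P' ≤ presSub P := by
      intro g hg
      rw [mem_presSub]
      intro a b
      rw [hsub a b, hsub (g a) (g b)]
      exact le_presSub P' hg a b
    apply le_of_image_le P P' (presSub P) hP hcard hN hPN hP'N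
    intro q hq
    obtain ⟨hpg, hrc⟩ := range_card P (presSub P) hP hcard hN hPN
    have h3 := two_mul_card_TT_le P hP
    have hlt : Nat.card (TT P) < Nat.card α := by omega
    obtain ⟨ψ', hψ'⟩ : ∃ ψ' : P' →* Equiv.Perm (TT P),
        ψ' = (phiT P (presSub P) hN).comp (Subgroup.inclusion hP'N) := ⟨_, rfl⟩
    have hA'p : IsPGroup 2 ψ'.range :=
      IsPGroup.of_surjective hP' ψ'.rangeRestrict ψ'.rangeRestrict_surjective
    obtain ⟨S', hS'⟩ := hA'p.exists_le_sylow
    have hS'card : Nat.card S' = 2 ^ ee (Nat.card (TT P)) := by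
      rw [Sylow.card_eq_multiplicity, Nat.card_perm]
      rfl
    have hxN : x ∈ presSub P := hPN hx
    have hHbar : Hx (phiT P (presSub P) hN ⟨x, hxN⟩) :=
      Hx_induced P (presSub P) hP hN x hx hxN hH
    have hxA : phiT P (presSub P) hN ⟨x, hxN⟩ ∈ (psiT P (presSub P) hN hPN).range :=
      ⟨⟨x, hx⟩, rfl⟩
    have hxS' : phiT P (presSub P) hN ⟨x, hxN⟩ ∈ (S' : Subgroup (Equiv.Perm (TT P))) :=
      hS' ⟨⟨x, hx'⟩, by rw [hψ']; rfl⟩
    have key := ih (Nat.card (TT P)) hlt (TT P) rfl (phiT P (presSub P) hN ⟨x, hxN⟩) hHbar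
      (psiT P (presSub P) hN hPN).range (S' : Subgroup (Equiv.Perm (TT P))) hpg S'.isPGroup'
      hrc hS'card hxA hxS'
    exact key (hS' ⟨⟨q, hq⟩, by rw [hψ']; rfl⟩)

end Cfsg.Agent.Lib.Helper8.Uniq
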