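import Mathlib
import Cfsg.Agent.Lib.Helper8.UniqB

set_option autoImplicit false
set_option linter.unusedVariables false
set_option linter.unusedSectionVars false
set_option linter.unnecessarySeqFocus false

namespace Cfsg.Agent.Lib.Helper8.Uniq

open Cfsg.Agent.Lib.Helper8.NilNum Cfsg.Agent.Lib.Helper8.SylMax Cfsg.Agent.Lib.Helper8.NilPerm3
open Cfsg.Agent.Lib.Helper8.SelfNorm

variable {α : Type} [DecidableEq α]

theorem period_eq_card [Fintype α] (x : Equiv.Perm α) (u : α) (hu : x u ≠ u) :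
    Function.minimalPeriod x u = (x.cycleOf u).support.card := by
  have hc : (x.cycleOf u).IsCycle := Equiv.Perm.isCycle_cycleOf x hu
  have hcu : x.cycleOf u u ≠ u := by rw [Equiv.Perm.cycleOf_apply_self]; exact hu
  have key : ∀ k : ℕ, (x ^ k) u = u ↔ (x.cycleOf u).support.card ∣ k := by
    intro k
    rw [← Equiv.Perm.cycleOf_pow_apply_self, ← hc.pow_eq_one_iff' hcu, ← hc.orderOf,
      orderOf_dvd_iff_pow_eq_one]
  apply Nat.dvd_antisymm
  · exact (pow_fix_iff x u _).mp ((key _).mpr dvd_rfl)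
  · exact (key _).mp ((pow_fix_iff x u _).mpr dvd_rfl)

theorem Hx_of_cond [Fintype α] (x : Equiv.Perm α) (h1 : Fintype.card α ≤ x.support.card + 2)
    (h2 : x.cycleType.Nodup) : Hx x := by
  constructor
  · intro a b c ha hb hc
    by_contra hcon
    push Not at hcon
    obtain ⟨hab, hac, hbc⟩ := hcon
    have hsub : ({a, b, c} : Finset α) ⊆ x.supportᶜ := by
      intro y hy
      rw [Finset.mem_compl, Equiv.Perm.mem_support, not_not]
      simp only [Finset.mem_insert, Finset.mem_singleton] at hy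
      rcases hy with rfl | rfl | rfl
      · exact ha
      · exact hb
      · exact hc
    have hcard := Finset.card_le_card hsub
    rw [Finset.card_compl, Finset.card_insert_of_notMem (by simp [hab, hac]),
      Finset.card_pair hbc] at hcard
    omega
  · intro u v hu hper
    have hv : x v ≠ v := by
      intro h
      have h1 : Function.minimalPeriod x v = 1 :=
        Function.minimalPeriod_eq_one_iff_isFixedPt.mpr h
      rw [← hper] at h1
      exact hu (Function.minimalPeriod_eq_one_iff_isFixedPt.mp h1)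
    have hcu : x.cycleOf u ∈ x.cycleFactorsFinset :=
      Equiv.Perm.cycleOf_mem_cycleFactorsFinset_iff.mpr (Equiv.Perm.mem_support.mpr hu)
    have hcv : x.cycleOf v ∈ x.cycleFactorsFinset :=
      Equiv.Perm.cycleOf_mem_cycleFactorsFinset_iff.mpr (Equiv.Perm.mem_support.mpr hv)
    rw [Equiv.Perm.cycleType_def] at h2
    have heq : x.cycleOf u = x.cycleOf v := by
      apply Multiset.inj_on_of_nodup_map h2 _ hcu _ hcv
      show (x.cycleOf u).support.card = (x.cycleOf v).support.card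
      rw [← period_eq_card x u hu, ← period_eq_card x v hv, hper]
    have hmem : v ∈ (x.cycleOf u).support := by
      rw [heq]
      exact (Equiv.Perm.mem_support_cycleOf_iff' hv).mpr (Equiv.Perm.SameCycle.refl x v)
    have hsc : x.SameCycle u v := (Equiv.Perm.mem_support_cycleOf_iff' hu).mp hmem
    obtain ⟨i, _, hi⟩ := hsc.exists_pow_eq'
    exact ⟨i, hi⟩

/-- a 2-element and a transposition whose conjugates commute lie in a common Sylow 2-subgroup -/
theorem exists_sylow_with_swap [Fintype α] (x : Equiv.Perm α)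
    (hx2 : ∃ k : ℕ, orderOf x = 2 ^ k) (u v : α)
    (hcomm : ∀ i : ℕ, Equiv.swap ((x ^ i) u) ((x ^ i) v) * Equiv.swap u v =
      Equiv.swap u v * Equiv.swap ((x ^ i) u) ((x ^ i) v)) :
    ∃ P : Sylow 2 (Equiv.Perm α), x ∈ (P : Subgroup (Equiv.Perm α)) ∧
      Equiv.swap u v ∈ (P : Subgroup (Equiv.Perm α)) := by
  have hp2 : Fact (Nat.Prime 2) := ⟨Nat.prime_two⟩
  obtain ⟨s, hs⟩ : ∃ s : ℕ → Equiv.Perm α,
      s = fun i => Equiv.swap ((x ^ i) u) ((x ^ i) v) := ⟨_, rfl⟩
  have hs' : ∀ i, s i = Equiv.swap ((x ^ i) u) ((x ^ i) v) := fun i => by rw [hs]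
  have hsc : ∀ i d : ℕ, s (i + d) = x ^ i * s d * (x ^ i)⁻¹ := by
    intro i d
    rw [hs' d, conj_swap, hs', pow_add, Equiv.Perm.mul_apply, Equiv.Perm.mul_apply]
  have hs0 : s 0 = Equiv.swap u v := by simp [hs']
  have hsi : ∀ i, s i = x ^ i * s 0 * (x ^ i)⁻¹ := by
    intro i
    have := hsc i 0
    rw [add_zero] at this
    exact this
  have key : ∀ i d : ℕ, s i * s (i + d) = s (i + d) * s i := by
    intro i d
    have h := hcomm d
    rw [← hs', ← hs0] at h
    rw [hsc i d, hsi i]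
    calc x ^ i * s 0 * (x ^ i)⁻¹ * (x ^ i * s d * (x ^ i)⁻¹)
        = x ^ i * (s 0 * s d) * (x ^ i)⁻¹ := by group
      _ = x ^ i * (s d * s 0) * (x ^ i)⁻¹ := by rw [h]
      _ = x ^ i * s d * (x ^ i)⁻¹ * (x ^ i * s 0 * (x ^ i)⁻¹) := by group
  have hcomm2 : ∀ i j : ℕ, s i * s j = s j * s i := by
    intro i j
    rcases le_total i j with h | h
    · obtain ⟨d, rfl⟩ := Nat.exists_eq_add_of_le h
      exact key i d
    · obtain ⟨d, rfl⟩ := Nat.exists_eq_add_of_le h
      exact (key j d).symm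
  obtain ⟨E, hE⟩ : ∃ E : Subgroup (Equiv.Perm α), E = Subgroup.closure (Set.range s) :=
    ⟨_, rfl⟩
  have hEsq : ∀ g ∈ E, g * g = 1 := by
    rw [hE]
    apply sq_of_closure
    · rintro _ ⟨i, rfl⟩
      rw [hs']; exact Equiv.swap_mul_self _ _
    · rintro _ ⟨i, rfl⟩ _ ⟨j, rfl⟩
      exact hcomm2 i j
  have hEp : IsPGroup 2 E := isPGroup_of_sq E hEsq
  have hxE : x ∈ Subgroup.normalizer (E : Set (Equiv.Perm α)) := by
    rw [Subgroup.mem_normalizer_iff_map_conj_eq]
    have hle : E.map (MulAut.conj x).toMonoidHom ≤ E := by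
      rw [Subgroup.map_le_iff_le_comap, hE, Subgroup.closure_le]
      rintro _ ⟨i, rfl⟩
      show (MulAut.conj x) (s i) ∈ Subgroup.closure (Set.range s)
      rw [MulAut.conj_apply]
      apply Subgroup.subset_closure
      refine ⟨1 + i, ?_⟩
      rw [hsc 1 i, pow_one]
    exact Subgroup.eq_of_le_of_card_ge hle (by
      rw [Subgroup.card_map_of_injective (fun a b hab => (MulAut.conj x).injective hab)])
  have hzp : IsPGroup 2 (Subgroup.zpowers x) := by
    obtain ⟨k, hk⟩ := hx2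
    exact IsPGroup.of_card (n := k) (by rw [Nat.card_zpowers, hk])
  have hQ : IsPGroup 2 (Subgroup.zpowers x ⊔ E : Subgroup (Equiv.Perm α)) :=
    IsPGroup.to_sup_of_normal_right' hzp hEp (by rw [Subgroup.zpowers_le]; exact hxE)
  obtain ⟨P, hP⟩ := hQ.exists_le_sylow
  refine ⟨P, hP (Subgroup.mem_sup_left (Subgroup.mem_zpowers x)),
    hP (Subgroup.mem_sup_right ?_)⟩
  rw [hE, ← hs0]
  exact Subgroup.subset_closure ⟨0, rfl⟩

theorem swap_comm_of_disjoint (a b c d : α) (hac : a ≠ c) (had : a ≠ d) (hbc : b ≠ c)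
    (hbd : b ≠ d) : Equiv.swap a b * Equiv.swap c d = Equiv.swap c d * Equiv.swap a b := by
  have h := conj_swap (Equiv.swap a b) c d
  rw [Equiv.swap_apply_of_ne_of_ne (Ne.symm hac) (Ne.symm hbc),
    Equiv.swap_apply_of_ne_of_ne (Ne.symm had) (Ne.symm hbd)] at h
  exact mul_inv_eq_iff_eq_mul.mp h

theorem two_sylows_of_fixed [Fintype α] (x : Equiv.Perm α) (hx2 : ∃ k : ℕ, orderOf x = 2 ^ k)
    (a b c : α) (hab : a ≠ b) (hac : a ≠ c) (hbc : b ≠ c) (ha : x a = a) (hb : x b = b)
    (hc : x c = c) :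
    ∃ P₁ P₂ : Sylow 2 (Equiv.Perm α), x ∈ (P₁ : Subgroup (Equiv.Perm α)) ∧
      x ∈ (P₂ : Subgroup (Equiv.Perm α)) ∧ P₁ ≠ P₂ := by
  obtain ⟨P₁, h1, s1⟩ := exists_sylow_with_swap x hx2 a b (by
    intro i
    rw [Equiv.Perm.pow_apply_eq_self_of_apply_eq_self ha,
      Equiv.Perm.pow_apply_eq_self_of_apply_eq_self hb])
  obtain ⟨P₂, h2, s2⟩ := exists_sylow_with_swap x hx2 a c (by
    intro i
    rw [Equiv.Perm.pow_apply_eq_self_of_apply_eq_self ha,
      Equiv.Perm.pow_apply_eq_self_of_apply_eq_self hc])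
  refine ⟨P₁, P₂, h1, h2, ?_⟩
  intro h
  rw [← h] at s2
  exact hbc (sib_unique (P₁ : Subgroup (Equiv.Perm α)) P₁.isPGroup' hab hac s1 s2)

theorem pow_comm_apply {β : Type} (x : Equiv.Perm β) (i h : ℕ) (y : β) :
    (x ^ i) ((x ^ h) y) = (x ^ h) ((x ^ i) y) := by
  rw [← Equiv.Perm.mul_apply, ← Equiv.Perm.mul_apply, ← pow_add, ← pow_add, add_comm]

theorem two_sylows_of_cycles [Fintype α] (x : Equiv.Perm α)
    (hx2 : ∃ k : ℕ, orderOf x = 2 ^ k) (u v : α) (hu : x u ≠ u)
    (hper : Function.minimalPeriod x u = Function.minimalPeriod x v)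
    (hns : ∀ i : ℕ, (x ^ i) u ≠ v) :
    ∃ P₁ P₂ : Sylow 2 (Equiv.Perm α), x ∈ (P₁ : Subgroup (Equiv.Perm α)) ∧
      x ∈ (P₂ : Subgroup (Equiv.Perm α)) ∧ P₁ ≠ P₂ := by
  have hnsc : ¬ x.SameCycle u v := by
    intro h
    obtain ⟨i, _, hi⟩ := h.exists_pow_eq'
    exact hns i hi
  have hns' : ∀ i : ℕ, (x ^ i) v ≠ u := by
    intro i h
    exact hnsc (Equiv.Perm.SameCycle.symm ⟨(i : ℤ), by rw [zpow_natCast]; exact h⟩)
  have huv : u ≠ v := by
    have := hns 0
    rw [pow_zero] at this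
    exact this
  obtain ⟨P₂, h2, s2⟩ := exists_sylow_with_swap x hx2 u v (by
    intro i
    by_cases hi : (x ^ i) u = u
    · have hv : (x ^ i) v = v := by
        rw [pow_fix_iff, ← hper, ← pow_fix_iff]; exact hi
      rw [hi, hv]
    · have hv : (x ^ i) v ≠ v := by
        intro h
        apply hi
        rw [pow_fix_iff, hper, ← pow_fix_iff]; exact h
      exact swap_comm_of_disjoint _ _ _ _ hi (hns i) (hns' i) hv)
  obtain ⟨k, hk⟩ := hx2
  have hdvd : Function.minimalPeriod x u ∣ 2 ^ k := by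
    rw [← pow_fix_iff, ← hk, pow_orderOf_eq_one] <;> rfl
  obtain ⟨j, hjk, hj⟩ := (Nat.dvd_prime_pow Nat.prime_two).mp hdvd
  have hj0 : j ≠ 0 := by
    intro h0
    rw [h0, pow_zero] at hj
    exact hu (Function.minimalPeriod_eq_one_iff_isFixedPt.mp hj)
  obtain ⟨j', rfl⟩ := Nat.exists_eq_succ_of_ne_zero hj0
  obtain ⟨h, hh⟩ : ∃ h : ℕ, h = 2 ^ j' := ⟨_, rfl⟩
  have hpos : 0 < h := by rw [hh]; positivity
  have hm : Function.minimalPeriod x u = 2 * h := by rw [hj, hh, pow_succ]; ring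
  have h2h : (x ^ (2 * h)) u = u := (pow_fix_iff x u _).mpr (dvd_of_eq hm)
  have hw : (x ^ h) u ≠ u := by
    intro e
    rw [pow_fix_iff, hm] at e
    have := Nat.le_of_dvd hpos e
    omega
  obtain ⟨w, hwdef⟩ : ∃ w : α, w = (x ^ h) u := ⟨_, rfl⟩
  have hww : (x ^ h) w = u := by
    rw [hwdef, ← Equiv.Perm.mul_apply, ← pow_add, ← two_mul]; exact h2h
  have huw : u ≠ w := by rw [hwdef]; exact Ne.symm hw
  obtain ⟨P₁, h1, s1⟩ := exists_sylow_with_swap x ⟨k, hk⟩ u w (by
    intro i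
    have hB : (x ^ i) w = (x ^ h) ((x ^ i) u) := by rw [hwdef]; exact pow_comm_apply x i h u
    by_cases hi : (x ^ i) u = u
    · have hB' : (x ^ i) w = w := by rw [hB, hi, hwdef]
      rw [hi, hB']
    · by_cases hi2 : (x ^ i) u = w
      · have hB' : (x ^ i) w = u := by rw [hB, hi2, hww]
        rw [hi2, hB', Equiv.swap_comm w u]
      · have hBu : (x ^ i) w ≠ u := by
          intro e
          apply hi2
          have : (x ^ h) ((x ^ i) w) = (x ^ i) u := by
            rw [← pow_comm_apply x i h w, hww]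
          rw [← this, e, hwdef]
        have hBw : (x ^ i) w ≠ w := by
          intro e
          apply hi
          rw [hB, hwdef] at e
          exact (x ^ h).injective e
        exact swap_comm_of_disjoint _ _ _ _ hi hi2 hBu hBw)
  refine ⟨P₁, P₂, h1, h2, ?_⟩
  intro hP
  rw [← hP] at s2
  have := sib_unique (P₁ : Subgroup (Equiv.Perm α)) P₁.isPGroup' huw huv s1 s2
  exact hns h (by rw [← hwdef]; exact this)

/-- a 2-element of a symmetric group lies in a unique Sylow 2-subgroup iff it has at most two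
fixed points and its nontrivial cycles have different lengths -/
theorem uniq_iff (n : ℕ) (x : Equiv.Perm (Fin n)) (hx : ∃ k : ℕ, orderOf x = 2 ^ k) :
    (∃! P : Sylow 2 (Equiv.Perm (Fin n)), x ∈ P) ↔
      (n ≤ x.support.card + 2 ∧ x.cycleType.Nodup) := by
  have hp2 : Fact (Nat.Prime 2) := ⟨Nat.prime_two⟩
  constructor
  · intro huniq
    by_contra hcon
    have hex : ∃ P₁ P₂ : Sylow 2 (Equiv.Perm (Fin n)),
        x ∈ (P₁ : Subgroup (Equiv.Perm (Fin n))) ∧
        x ∈ (P₂ : Subgroup (Equiv.Perm (Fin n))) ∧ P₁ ≠ P₂ := by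
      by_cases h1 : n ≤ x.support.card + 2
      · have h2 : ¬ x.cycleType.Nodup := fun h => hcon ⟨h1, h⟩
        have h3 : ∃ c₁ ∈ x.cycleFactorsFinset, ∃ c₂ ∈ x.cycleFactorsFinset,
            c₁.support.card = c₂.support.card ∧ c₁ ≠ c₂ := by
          by_contra hno
          push Not at hno
          apply h2
          rw [Equiv.Perm.cycleType_def]
          exact Multiset.Nodup.map_on (fun c₁ h₁ c₂ h₂ he => hno c₁ h₁ c₂ h₂ he)
            x.cycleFactorsFinset.nodup
        obtain ⟨c₁, hc₁, c₂, hc₂, hcard, hne⟩ := h3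
        obtain ⟨hcy₁, -⟩ := Equiv.Perm.mem_cycleFactorsFinset_iff.mp hc₁
        obtain ⟨hcy₂, -⟩ := Equiv.Perm.mem_cycleFactorsFinset_iff.mp hc₂
        obtain ⟨u, hu, -⟩ := hcy₁
        obtain ⟨v, hv, -⟩ := hcy₂
        have e₁ : c₁ = x.cycleOf u :=
          Equiv.Perm.cycle_is_cycleOf (Equiv.Perm.mem_support.mpr hu) hc₁
        have e₂ : c₂ = x.cycleOf v :=
          Equiv.Perm.cycle_is_cycleOf (Equiv.Perm.mem_support.mpr hv) hc₂
        have hxu : x u ≠ u := by
          rw [e₁] at hc₁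
          exact Equiv.Perm.mem_support.mp (Equiv.Perm.cycleOf_mem_cycleFactorsFinset_iff.mp hc₁)
        have hxv : x v ≠ v := by
          rw [e₂] at hc₂
          exact Equiv.Perm.mem_support.mp (Equiv.Perm.cycleOf_mem_cycleFactorsFinset_iff.mp hc₂)
        have hper : Function.minimalPeriod x u = Function.minimalPeriod x v := by
          rw [period_eq_card x u hxu, period_eq_card x v hxv, ← e₁, ← e₂, hcard]
        have hns : ∀ i : ℕ, (x ^ i) u ≠ v := by
          intro i hi
          apply hne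
          rw [e₁, e₂]
          exact Equiv.Perm.SameCycle.cycleOf_eq ⟨(i : ℤ), by rw [zpow_natCast]; exact hi⟩
        exact two_sylows_of_cycles x hx u v hxu hper hns
      · have h3 : 2 < (x.supportᶜ).card := by
          rw [Finset.card_compl, Fintype.card_fin]; omega
        obtain ⟨a, ha, b, hb, c, hc, hab, hac, hbc⟩ := Finset.two_lt_card.mp h3
        rw [Finset.mem_compl, Equiv.Perm.mem_support, not_not] at ha hb hc
        exact two_sylows_of_fixed x hx a b c hab hac hbc ha hb hc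
    obtain ⟨P₁, P₂, h1, h2, hne⟩ := hex
    exact hne (huniq.unique h1 h2)
  · rintro ⟨h1, h2⟩
    have hH : Hx x := Hx_of_cond x (by rw [Fintype.card_fin]; exact h1) h2
    have hzp : IsPGroup 2 (Subgroup.zpowers x) := by
      obtain ⟨k, hk⟩ := hx
      exact IsPGroup.of_card (n := k) (by rw [Nat.card_zpowers, hk])
    obtain ⟨P, hP⟩ := hzp.exists_le_sylow
    have hxP : x ∈ (P : Subgroup (Equiv.Perm (Fin n))) := hP (Subgroup.mem_zpowers x)
    refine ⟨P, hxP, ?_⟩
    intro P' hxP'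
    apply Sylow.ext
    apply le_antisymm
    · exact uniq_core n (Fin n) (by simp) x hH P P' P.isPGroup' P'.isPGroup'
        (sylow_perm_card n P) (sylow_perm_card n P') hxP hxP'
    · exact uniq_core n (Fin n) (by simp) x hH P' P P'.isPGroup' P.isPGroup'
        (sylow_perm_card n P') (sylow_perm_card n P) hxP' hxP

end Cfsg.Agent.Lib.Helper8.Uniq
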